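import Cfsg.Agent.Lib.Block.FreeInertial.FourTorsion

/-!
# Automorphisms of odd order of small 2-groups
-/

open Finset

set_option autoImplicit false
set_option linter.unusedSectionVars false

namespace CfsgLib.Block.IndexFour

universe u

variable {R : Type u} [Group R] [Finite R]

/-- An automorphism of odd order fixing a subgroup of index two pointwise is trivial. -/
theorem aut_eq_one_of_fix_index_two (hR : IsPGroup 2 R) (α : MulAut R) (hα : ¬ 2 ∣ orderOf α)
    (T : Subgroup R) (hT : T.index ≤ 2) (hfix : ∀ t ∈ T, α t = t) : α = 1 := by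
  refine MulEquiv.ext fun x => ?_
  by_cases hx : x ∈ T
  · exact hfix x hx
  have h2 : T.index = 2 := by
    have h0 := Subgroup.index_ne_zero_of_finite (H := T)
    have h1 : T.index ≠ 1 := fun h => hx (Subgroup.index_eq_one.mp h ▸ Subgroup.mem_top x)
    omega
  have hax : α x ∉ T := fun h => hx (α.injective (hfix _ h) ▸ h)
  set t := x⁻¹ * α x with ht
  have htT : t ∈ T := by
    rw [ht, Subgroup.mul_mem_iff_of_index_two h2, inv_mem_iff]
    simp [hx, hax]
  have hxt : α x = x * t := by rw [ht, mul_inv_cancel_left]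
  have hiter : ∀ n : ℕ, (α ^ n) x = x * t ^ n := by
    intro n
    induction n with
    | zero => simp
    | succ n ih =>
      rw [pow_succ', MulAut.mul_apply, ih, map_mul, hxt, map_pow, hfix t htT, pow_succ', mul_assoc]
  have h1 : t ^ orderOf α = 1 := by
    have h := hiter (orderOf α)
    rw [pow_orderOf_eq_one, MulAut.one_apply] at h
    exact mul_left_cancel (a := x) (h.symm.trans (mul_one x).symm)
  obtain ⟨k, hk⟩ := hR t
  have hcop : Nat.gcd (2 ^ k) (orderOf α) = 1 :=
    ((Nat.prime_two.coprime_iff_not_dvd.mpr hα).pow_left k)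
  have h := pow_gcd_eq_one.mpr ⟨hk, h1⟩
  rw [hcop, pow_one] at h
  rw [hxt, h, mul_one]
  rfl

/-- An automorphism of odd order of a commutative 2-group with at most four elements of square one
which fixes a non-trivial element is trivial. -/
theorem aut_eq_one_of_four (hR : IsPGroup 2 R) (hcomm : ∀ a b : R, a * b = b * a) (α : MulAut R)
    (hα : ¬ 2 ∣ orderOf α) {s : Finset R} (hs : ∀ x : R, x ^ 2 = 1 → x ∈ s) (hs4 : s.card ≤ 4)
    {z : R} (hz : z ≠ 1) (hz2 : z ^ 2 = 1) (hfix : α z = z) : α = 1 := by
  classical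
  letI : CommGroup R := { (inferInstance : Group R) with mul_comm := hcomm }
  haveI := Fintype.ofFinite R
  refine FreeInertial.aut_eq_one_of_fix Nat.prime_two hR α hα fun x hx => ?_
  set S := Finset.univ.filter fun x : R => x ^ 2 = 1 with hS
  have hS4 : S.card ≤ 4 :=
    (Finset.card_le_card fun x hx => hs x (Finset.mem_filter.mp hx).2).trans hs4
  set U := (S.erase 1).erase z with hU
  have hUc : U.card ≤ 2 := by
    rw [hU, Finset.card_erase_of_mem (show z ∈ S.erase 1 from Finset.mem_erase.mpr ⟨hz, Finset.mem_filter.mpr ⟨Finset.mem_univ _, hz2⟩⟩),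
      Finset.card_erase_of_mem (show (1 : R) ∈ S from Finset.mem_filter.mpr ⟨Finset.mem_univ _, one_pow 2⟩)]
    omega
  rcases eq_or_ne x 1 with rfl | hx1
  · exact map_one α
  rcases eq_or_ne x z with rfl | hxz
  · exact hfix
  have hmap : ∀ v ∈ U, α v ∈ U := fun v hv => by
    simp only [hU, hS, Finset.mem_erase, Finset.mem_filter, Finset.mem_univ, true_and] at hv ⊢
    exact ⟨fun h => hv.1 (α.injective (h.trans hfix.symm)),
      fun h => hv.2.1 (α.injective (h.trans (map_one α).symm)), by rw [← map_pow, hv.2.2, map_one]⟩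
  have hxU : x ∈ U := by simp [hU, hS, hx, hx1, hxz]
  have hsq : (α * α) x = x := by
    by_contra hne
    have hax : α x ≠ x := fun h => hne (by rw [MulAut.mul_apply, h, h])
    have hsub : ({x, α x, α (α x)} : Finset R) ⊆ U := by
      intro v hv
      simp only [Finset.mem_insert, Finset.mem_singleton] at hv
      rcases hv with rfl | rfl | rfl
      exacts [hxU, hmap _ hxU, hmap _ (hmap _ hxU)]
    have h3 : ({x, α x, α (α x)} : Finset R).card = 3 := by
      rw [Finset.card_insert_of_notMem, Finset.card_pair]
      · exact fun h => hax (α.injective h).symm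
      · simp only [Finset.mem_insert, Finset.mem_singleton, not_or]
        exact ⟨Ne.symm hax, fun h => hne h.symm⟩
    have := Finset.card_le_card hsub
    omega
  obtain ⟨c, hc⟩ : ∃ c, orderOf α + 1 = 2 * c := ⟨(orderOf α + 1) / 2, by omega⟩
  have hac : α = (α * α) ^ c := by
    rw [← pow_two, ← pow_mul, ← hc, pow_succ, pow_orderOf_eq_one, one_mul]
  rw [hac]
  exact Subgroup.pow_mem (MulAction.stabilizer (MulAut R) x) hsq c

/-- A group of automorphisms without elements of odd order is a 2-group. -/
theorem isPGroup_two_of_odd {H : Type u} [Group H] [Finite H]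
    (hodd : ∀ a : H, ¬ 2 ∣ orderOf a → a = 1) : IsPGroup 2 H := by
  intro a
  refine ⟨(orderOf a).factorization 2, hodd _ ?_⟩
  rw [orderOf_pow_of_dvd (pow_ne_zero _ two_ne_zero) (Nat.ordProj_dvd _ _)]
  exact Nat.not_dvd_ordCompl Nat.prime_two (orderOf_pos a).ne'

/-- In a group without subgroup of order four commuting involutions are equal. -/
theorem eq_of_commute_involutions {H : Type u} [Group H] [Finite H] (h4 : ¬ 4 ∣ Nat.card H) {s t : H}
    (hs : s * s = 1) (ht : t * t = 1) (hs1 : s ≠ 1) (ht1 : t ≠ 1) (hst : s * t = t * s) : s = t := by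
  classical
  by_contra hne
  have hsi : s⁻¹ = s := inv_eq_of_mul_eq_one_right hs
  have hti : t⁻¹ = t := inv_eq_of_mul_eq_one_right ht
  have hstst : s * t * (s * t) = 1 := by
    rw [mul_assoc, ← mul_assoc t s t, ← hst, mul_assoc s t t, ht, mul_one, hs]
  let V : Subgroup H :=
    { carrier := {1, s, t, s * t}
      one_mem' := Or.inl rfl
      mul_mem' := by
        intro a b ha hb
        simp only [Set.mem_insert_iff, Set.mem_singleton_iff] at ha hb ⊢
        have e1 : s * (s * t) = t := by rw [← mul_assoc, hs, one_mul]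
        have e2 : t * (s * t) = s := by rw [← mul_assoc, ← hst, mul_assoc, ht, mul_one]
        have e3 : s * t * s = t := by rw [hst, mul_assoc, hs, mul_one]
        have e4 : s * t * t = s := by rw [mul_assoc, ht, mul_one]
        rcases ha with rfl | rfl | rfl | rfl <;> rcases hb with rfl | rfl | rfl | rfl <;>
          simp [hs, ht, hst.symm, hstst, e1, e2, e3, e4]
      inv_mem' := by
        intro a ha
        simp only [Set.mem_insert_iff, Set.mem_singleton_iff] at ha ⊢
        rcases ha with rfl | rfl | rfl | rfl <;> simp [hsi, hti, mul_inv_rev, hst.symm] }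
  have hcard : Nat.card V = 4 := by
    have hne' : s * t ≠ 1 := fun h => hne (by rw [eq_inv_of_mul_eq_one_left h, hti])
    have h1 : s * t ≠ s := fun h => ht1 (mul_eq_left.mp h)
    have h2 : s * t ≠ t := fun h => hs1 (mul_eq_right.mp h)
    show Nat.card ({1, s, t, s * t} : Set H) = 4
    rw [Nat.card_coe_set_eq, Set.ncard_insert_of_notMem (by simp [hs1.symm, ht1.symm, hne'.symm]),
      Set.ncard_insert_of_notMem (by simp [hne, h1.symm]), Set.ncard_pair h2.symm]
  exact h4 (hcard ▸ Subgroup.card_subgroup_dvd_card V)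

end CfsgLib.Block.IndexFour
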