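import Cfsg.Agent.Lib.Block.DyadicMajor

/-!
# A major subsection of rank at most four

If a 2-block `B` of defect `d` has a major subsection of rank at most four and has few members of
height zero, `3 * k₀ < 2 ^ d + 12`, then it has at most `2 ^ d` members.
-/

open Finset MonoidAlgebra
open scoped ComplexConjugate

set_option autoImplicit false
set_option linter.unusedSectionVars false

namespace CfsgLib.Block.IndexFour

open Cfsg CfsgLib CfsgLib.Block
open scoped Pair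

universe u

variable {M : Ideal AlgInt} [M.IsMaximal] {G : Type u} [Group G] [Fintype G] [DecidableEq G]

/-- The combinatorics: rows of positive height cost at least four, some row of height zero at most
three. -/
theorem rank_four_count {ι : Type*} [DecidableEq ι] (Z W : Finset ι) (hd : Disjoint Z W)
    (f : ι → ℤ) (R : ι → ι → ℤ) {q : ℤ}
    (hrow : ∀ i ∈ Z, f i * f i + ∑ j ∈ (Z ∪ W).erase i, R i j ≤ q * f i)
    (hodd : ∀ i ∈ Z, f i % 2 = 1) (hf : ∀ i ∈ Z, 0 ≤ f i)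
    (hRZ : ∀ i ∈ Z, ∀ j ∈ Z, 1 ≤ R i j) (hRW : ∀ i ∈ Z, ∀ j ∈ W, 4 ≤ R i j)
    (hW : ∀ i ∈ W, 4 ≤ f i) (hsum : ∑ i ∈ Z ∪ W, f i ≤ 4 * q)
    (hZ : 3 * (Z.card : ℤ) < q + 12) :
    ((Z ∪ W).card : ℤ) ≤ q := by
  by_contra hcon
  push Not at hcon
  rw [Finset.card_union_of_disjoint hd] at hcon
  push_cast at hcon
  rw [Finset.sum_union hd] at hsum
  have hW' : (4 : ℤ) * W.card ≤ ∑ i ∈ W, f i := by
    refine le_trans ?_ (Finset.sum_le_sum hW)
    rw [Finset.sum_const, nsmul_eq_mul, mul_comm]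
  obtain ⟨i, hi, hi3⟩ : ∃ i ∈ Z, f i ≤ 3 := by
    by_contra hall
    push Not at hall
    have h4 : (4 : ℤ) * Z.card ≤ ∑ i ∈ Z, f i := by
      refine le_trans (ge_of_eq ?_) (Finset.sum_le_sum (f := fun _ => (4 : ℤ)) fun i hi => ?_)
      · rw [Finset.sum_const, nsmul_eq_mul, mul_comm]
      · have := hall i hi
        omega
    omega
  have h1 := hrow i hi
  rw [Finset.erase_union_distrib, Finset.erase_eq_of_notMem (Finset.disjoint_left.mp hd hi),
    Finset.sum_union (hd.mono_left (Finset.erase_subset _ _))] at h1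
  have h2 : (Z.card : ℤ) - 1 ≤ ∑ j ∈ Z.erase i, R i j := by
    refine le_trans ?_ (Finset.sum_le_sum fun j hj => hRZ i hi j (Finset.mem_of_mem_erase hj))
    rw [Finset.sum_const, nsmul_eq_mul, mul_one, Finset.card_erase_of_mem hi]
    omega
  have h3 : (4 : ℤ) * W.card ≤ ∑ j ∈ W, R i j := by
    refine le_trans ?_ (Finset.sum_le_sum fun j hj => hRW i hi j hj)
    rw [Finset.sum_const, nsmul_eq_mul, mul_comm]
  have h0 := hf i hi
  have ho := hodd i hi
  rcases (show f i = 1 ∨ f i = 3 by omega) with e | e <;> rw [e] at h1 <;> omega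

open scoped Classical in
/-- A major subsection of rank at most four and few members of height zero. -/
theorem card_le_of_major_rank_four (hM : IsPModular 2 M) [Fintype (IrrCharacter G)] {C : Subgroup G}
    [Fintype C] [Fintype (IrrCharacter C)] {x : G} {k : ℕ} (hk : orderOf x = 2 ^ k)
    (hC : ∀ t : G, t ∈ C ↔ Commute t x) {b : Set (IrrCharacter C)} {B : Set (IrrCharacter G)}
    (hb : IsInducedBlock M C b B) (hd : blockDefect 2 b = blockDefect 2 B)
    (hl : blockRank 2 b ≤ 4)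
    (hK : 3 * Nat.card {χ : IrrCharacter G // χ ∈ B ∧ blockHeight 2 B (χ : G → ℂ) = 0} <
      2 ^ blockDefect 2 B + 12) :
    Nat.card B ≤ 2 ^ blockDefect 2 B := by
  obtain ⟨A, S, hS0, hSsymm, hA0, hrow, hsum, hodd, hS1, hmaj⟩ := exists_avg_matrix hM hk hC hb
  rw [hd] at hrow hsum
  set s := Finset.univ.filter (fun χ : IrrCharacter G => χ ∈ B) with hs
  set Z := s.filter (fun χ : IrrCharacter G => blockHeight 2 B (χ : G → ℂ) = 0) with hZ
  set W := s.filter (fun χ : IrrCharacter G => ¬ blockHeight 2 B (χ : G → ℂ) = 0) with hW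
  have hmem : ∀ {χ}, χ ∈ s ↔ χ ∈ B := fun {χ} => by simp [hs]
  have hu : Z ∪ W = s := Finset.filter_union_filter_not_eq _ _
  have hZc : Nat.card {χ : IrrCharacter G // χ ∈ B ∧ blockHeight 2 B (χ : G → ℂ) = 0} = Z.card := by
    rw [Nat.card_eq_fintype_card, Fintype.card_subtype, hZ, hs, Finset.filter_filter]
  have hBc : Nat.card B = s.card := by rw [Nat.card_eq_fintype_card, Fintype.card_subtype]
  rw [hZc] at hK
  obtain ⟨χ₀, hχ₀, h00⟩ := exists_height_zero hM hb.2.1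
  have hzero : ∀ χ ∈ Z, χ ∈ B ∧ blockHeight 2 B (χ : G → ℂ) = 0 := fun χ hχ =>
    ⟨hmem.mp (Finset.mem_filter.mp hχ).1, (Finset.mem_filter.mp hχ).2⟩
  have hpos : ∀ χ ∈ W, χ ∈ B ∧ 0 < blockHeight 2 B (χ : G → ℂ) := fun χ hχ =>
    ⟨hmem.mp (Finset.mem_filter.mp hχ).1, Nat.pos_of_ne_zero (Finset.mem_filter.mp hχ).2⟩
  have h4 : ∀ m : ℕ, 0 < m → (4 : ℤ) ≤ 4 ^ m := fun m hm =>
    le_self_pow₀ (by norm_num) hm.ne'
  have hmain := rank_four_count Z W (Finset.disjoint_filter_filter_not _ _ _) A S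
    (q := (2 : ℤ) ^ blockDefect 2 B) ?_ (fun χ hχ => hodd χ (hzero χ hχ).1 (hzero χ hχ).2)
    (fun χ _ => hA0 χ)
    (fun χ hχ ψ hψ => hS1 χ (hzero χ hχ).1 ψ (hzero ψ hψ).1 (hzero χ hχ).2 (hzero ψ hψ).2)
    (fun χ hχ ψ hψ => by
      rw [hSsymm]
      exact (h4 _ (hpos ψ hψ).2).trans
        ((hmaj hd ψ (hpos ψ hψ).1 (hpos ψ hψ).2).2 χ (hzero χ hχ).1 (hzero χ hχ).2))
    (fun χ hχ => ?_) ?_ (by exact_mod_cast hK)
  · rw [hu] at hmain
    rw [hBc]
    exact_mod_cast hmain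
  · intro χ hχ
    rw [hu]
    exact hrow χ (hzero χ hχ).1
  · obtain ⟨hχB, hχp⟩ := hpos χ hχ
    obtain ⟨hdvd, hS⟩ := hmaj hd χ hχB hχp
    have hne : A χ ≠ 0 := by
      intro h0
      have h1 := hrow χ hχB
      have h2 := Finset.single_le_sum (f := fun ψ => S χ ψ) (s := s.erase χ) (fun ψ _ => hS0 χ ψ)
        (a := χ₀) (Finset.mem_erase.mpr ⟨fun e => by rw [e] at h00; omega, hmem.mpr hχ₀⟩)
      have h3 := hS χ₀ hχ₀ h00
      have h5 := h4 _ hχp
      rw [h0] at h1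
      omega
    have h6 : (4 : ℤ) ∣ A χ := (pow_dvd_pow (2 : ℤ) (show 2 ≤ blockHeight 2 B (χ : G → ℂ) + 1 by omega)).trans hdvd
    have := hA0 χ
    omega
  · rw [hu, hsum]
    rw [mul_comm (4 : ℤ)]
    exact mul_le_mul_of_nonneg_left (by exact_mod_cast hl) (by positivity)

end CfsgLib.Block.IndexFour
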