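import Cfsg.Agent.Lib.Block.IndexFour.Tally

/-!
# Contributions at elements differing by a central element

On the members with the central element `w` in the kernel the contributions at `y` and `y * w` agree;
and a set of members is no larger than the number of different rank one contributions.
-/

open Finset MonoidAlgebra
open scoped ComplexConjugate

set_option autoImplicit false
set_option linter.unusedSectionVars false

namespace CfsgLib.Block.IndexFour

open Cfsg CfsgLib CfsgLib.Block
open scoped Pair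

universe u

variable {p : ℕ} {M : Ideal AlgInt} [M.IsMaximal] {G : Type u} [Group G] [Fintype G] [DecidableEq G]
  {P : Subgroup G} {e : Set (IrrCharacter (CQ P))}

/-- Blocks of equal subgroups. -/
theorem coeff_eq_of_omG_one (hM : IsPModular p M) {K L : Subgroup G} (hKL : K = L)
    {f : Set (IrrCharacter K)} (hf : IsPBlock M f) {g : Set (IrrCharacter L)} (hg : IsPBlock M g)
    {ξ : IrrCharacter L} (hξ : ξ ∈ g) (h1 : omG M ξ (eG M f) = 1) :
    subgroupBlockCoeff K f = subgroupBlockCoeff L g := by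
  subst hKL
  rw [omG_eG hM hf] at h1
  split_ifs at h1 with hmem
  · rw [isPBlock_eq_of_mem hf hg hmem hξ]
  · exact absurd h1 zero_ne_one

/-- The pairs at `y` and at `y * w`, `w` central, have the same coefficients. -/
theorem coeff_low_central (hM : IsPModular p M) (he : IsBrauerPair p M P e) {w : P}
    (hw : ∀ g : G, Commute g (w : G)) (y : P) :
    subgroupBlockCoeff (CQ (lowPair hM he y).1) (lowPair hM he y).2 =
      subgroupBlockCoeff (CQ (lowPair hM he (y * w)).1) (lowPair hM he (y * w)).2 := by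
  classical
  set Q := Subgroup.zpowers (y : G) ⊔ Subgroup.zpowers (w : G) with hQ
  have hQP : Q ≤ P := sup_le (Subgroup.zpowers_le.mpr y.2) (Subgroup.zpowers_le.mpr w.2)
  obtain ⟨g, -, hgP⟩ := exists_subpairLE hM he Q hQP
  have hgb := isBrauerPair_of_below hM he hgP
  have key : ∀ v : P, (v : G) ∈ Q → (∀ t : G, Commute t (v : G) → t ∈ CQ Q) →
      subgroupBlockCoeff (CQ (lowPair hM he v).1) (lowPair hM he v).2 =
        subgroupBlockCoeff (CQ Q) g := by
    intro v hv hC
    have hle : Subgroup.zpowers (v : G) ≤ Q := Subgroup.zpowers_le.mpr hv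
    have hcq : CQ (Subgroup.zpowers (v : G)) = CQ Q :=
      le_antisymm (fun t ht => hC t (mem_cq_zpowers_iff.mp ht)) (cq_mono hle)
    have hQC : Q ≤ CQ (Subgroup.zpowers (v : G)) := by
      rw [hcq]
      refine Subgroup.le_centralizer_iff.mp ?_
      have hyw : Commute (y : G) (w : G) := hw _
      refine sup_le ?_ ?_ <;> rw [Subgroup.zpowers_le] <;>
        refine Subgroup.mem_centralizer_iff.mpr fun u hu => ?_
      · exact Subgroup.mem_centralizer_singleton_iff.mp ((sup_le
          (Subgroup.zpowers_le.mpr (Subgroup.mem_centralizer_singleton_iff.mpr rfl))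
          (Subgroup.zpowers_le.mpr (Subgroup.mem_centralizer_singleton_iff.mpr hyw.symm.eq)) :
            Q ≤ Subgroup.centralizer ({(y : G)} : Set G)) hu)
      · exact (hw u).eq
    obtain ⟨f, hf⟩ := exists_nSub hM hle (hQC.trans (centralizer_le_normalizer' _)) hgb
    have hlow : lowPair hM he v = ⟨Subgroup.zpowers (v : G), f⟩ :=
      below_ext hM he (lowPair_below hM he v)
        ((SubpairLE.step hM hf).trans hgP : SubpairLE p M _ f P e) rfl
    rw [hlow]
    obtain ⟨ξ, hξ⟩ := isPBlock_nonempty hgb.2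
    exact coeff_eq_of_omG_one hM hcq hf.pairL.2 hgb.2 hξ (hf.one ξ hξ)
  have hCQ : ∀ t : G, Commute t (y : G) → t ∈ CQ Q := fun t ht => by
    refine Subgroup.mem_centralizer_iff.mpr fun u hu => ?_
    have h1 : Q ≤ Subgroup.centralizer ({t} : Set G) := sup_le
      (Subgroup.zpowers_le.mpr (Subgroup.mem_centralizer_singleton_iff.mpr ht.symm.eq))
      (Subgroup.zpowers_le.mpr (Subgroup.mem_centralizer_singleton_iff.mpr (hw t).symm.eq))
    exact Subgroup.mem_centralizer_singleton_iff.mp (h1 hu)
  rw [key y (Subgroup.mem_sup_left (Subgroup.mem_zpowers _)) hCQ,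
    key (y * w) (mul_mem (Subgroup.mem_sup_left (Subgroup.mem_zpowers _))
      (Subgroup.mem_sup_right (Subgroup.mem_zpowers _))) fun t ht => hCQ t (by
        have h1 : Commute t ((y : G) * w * (w : G)⁻¹) := ht.mul_right (hw t).inv_right
        rwa [mul_inv_cancel_right] at h1)]

/-- The contributions at `y` and at `y * w` on characters with `w` in the kernel. -/
theorem secSum_central (hM : IsPModular p M) (he : IsBrauerPair p M P e) {w : P}
    (hw : ∀ g : G, Commute g (w : G)) {χ ψ : IrrCharacter G}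
    (hχ : ∀ u : G, (χ : G → ℂ) ((w : G) * u) = (χ : G → ℂ) u)
    (hψ : ∀ u : G, (ψ : G → ℂ) ((w : G) * u) = (ψ : G → ℂ) u) (y : P) :
    secSum p χ ψ ((y * w : P) : G) (lowPair hM he (y * w)) =
      secSum p χ ψ (y : G) (lowPair hM he y) := by
  classical
  have hco := coeff_low_central hM he hw y
  have hpart : ∀ θ : IrrCharacter G, (∀ u : G, (θ : G → ℂ) ((w : G) * u) = (θ : G → ℂ) u) → ∀ s,
      secPart θ ((y * w : P) : G) (lowPair hM he (y * w)) s =
        secPart θ (y : G) (lowPair hM he y) s := fun θ hθ s => by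
    refine Finset.sum_congr rfl fun t _ => ?_
    rw [hco, Subgroup.coe_mul, ← (hw (y : G)).symm.eq, mul_assoc, hθ]
  refine Finset.sum_congr (Finset.filter_congr fun s _ => and_congr_left fun _ => ?_) fun s _ => by
    rw [hpart χ hχ, hpart ψ hψ]
  rw [lowPair_fst, lowPair_fst, mem_cq_zpowers_iff, mem_cq_zpowers_iff, Subgroup.coe_mul]
  refine ⟨fun h => ?_, fun h => h.mul_right (hw s)⟩
  have h1 : Commute s ((y : G) * w * (w : G)⁻¹) := h.mul_right (hw s).inv_right
  rwa [mul_inv_cancel_right] at h1

variable [Fintype (IrrCharacter G)]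

/-- The contributions of a subsection of rank one. -/
theorem exists_secSum_rank_one (hM : IsPModular p M) {B : Set (IrrCharacter G)}
    (hmax : IsMaximalBrauerPair p M B P e) {y : P}
    (h1 : blockRank p (lowPair hM hmax.1.1 y).2 = 1) :
    ∃ D : IrrCharacter G → ℂ, ∃ N : ℂ, ∀ χ ψ : IrrCharacter G,
      secSum p χ ψ (y : G) (lowPair hM hmax.1.1 y) = D χ * conj (D ψ) * N := by
  classical
  obtain ⟨b, hb⟩ := exists_eq_pairMk (a := lowPair hM hmax.1.1 y)
    (Q := Subgroup.zpowers (y : G)) rfl
  have hpair := lowPair_pairOf hM hmax y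
  rw [hb] at h1 hpair ⊢
  dsimp only at h1 hpair
  haveI := Fintype.ofFinite (IrrCharacter (CQ (Subgroup.zpowers (y : G))))
  have hC' : ∀ t : CQ (Subgroup.zpowers (y : G)), Commute (t : G) (y : G) :=
    fun t => mem_cq_zpowers_iff.mp t.2
  obtain ⟨φ, -, hφ⟩ := finrank_eq_one_iff'.mp h1
  have hspan : ∀ η ∈ b, ∃ r : ℂ, ∀ t, pRegularPart p (η : CQ (Subgroup.zpowers (y : G)) → ℂ) t =
      r * (φ : CQ (Subgroup.zpowers (y : G)) → ℂ) t := fun η hη => by
    obtain ⟨r, hr⟩ := hφ ⟨_, Submodule.subset_span (Set.mem_image_of_mem _ hη)⟩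
    exact ⟨r, fun t => (congrFun (congrArg Subtype.val hr) t).symm⟩
  choose! r hr using hspan
  set D : IrrCharacter G → ℂ := fun χ => ∑ η ∈ Finset.univ.filter (· ∈ b),
    classInner (regFun p (secFun (y : G) (CQ (Subgroup.zpowers (y : G))) χ))
      (η : CQ (Subgroup.zpowers (y : G)) → ℂ) * r η with hD
  let φG : G → ℂ := fun s => if h : s ∈ CQ (Subgroup.zpowers (y : G)) then
    (φ : CQ (Subgroup.zpowers (y : G)) → ℂ) ⟨s, h⟩ else 0
  have hpart : ∀ χ, ∀ s ∈ CQ (Subgroup.zpowers (y : G)), ¬ p ∣ orderOf s →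
      secPart χ (y : G) ⟨Subgroup.zpowers (y : G), b⟩ s = D χ * φG s := by
    intro χ s hs hreg
    have hreg' : ¬ p ∣ orderOf (⟨s, hs⟩ : CQ (Subgroup.zpowers (y : G))) := by
      rwa [← Subgroup.orderOf_coe]
    refine (secPart_eq_blockPart b hC' χ ⟨s, hs⟩).trans ?_
    rw [blockPart_regular hM hpair.1.2 (isClassFunction_secFun hC' χ) hreg', hD, Finset.sum_mul]
    refine Finset.sum_congr rfl fun η hη => ?_
    have h2 := hr η (Finset.mem_filter.mp hη).2 ⟨s, hs⟩
    simp only [pRegularPart, IsPRegular, hreg', not_false_iff, if_true] at h2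
    rw [h2, show φG s = (φ : CQ (Subgroup.zpowers (y : G)) → ℂ) ⟨s, hs⟩ from dif_pos hs]
    ring
  refine ⟨D, ∑ s ∈ Finset.univ.filter (fun s : G => s ∈ CQ (Subgroup.zpowers (y : G)) ∧ ¬ p ∣ orderOf s),
    φG s * conj (φG s), fun χ ψ => ?_⟩
  rw [secSum, Finset.mul_sum]
  refine Finset.sum_congr rfl fun s hs => ?_
  obtain ⟨-, hs1, hs2⟩ := Finset.mem_filter.mp hs
  rw [hpart χ s hs1 hs2, hpart ψ s hs1 hs2, map_mul]
  ring

open scoped Classical in
/-- Members which see only the contributions of `Col`, all of rank one, are at most as many. -/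
theorem card_le_of_columns (hM : IsPModular p M) {B : Set (IrrCharacter G)}
    (hmax : IsMaximalBrauerPair p M B P e) {ι : Type u} [Fintype ι] (em : ι → IrrCharacter G)
    (hinj : Function.Injective em) (hem : ∀ i, em i ∈ B) (Col : Finset P)
    (hrank : ∀ y ∈ Col, blockRank p (lowPair hM hmax.1.1 y).2 = 1)
    (hcov : ∀ z : P, ∃ y ∈ Col, ∀ i j, secSum p (em i) (em j) (z : G) (lowPair hM hmax.1.1 z) =
      secSum p (em i) (em j) (y : G) (lowPair hM hmax.1.1 y)) :
    Fintype.card ι ≤ Col.card := by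
  letI := Fintype.ofFinite P
  have := Fintype.ofFinite (ConjClasses G)
  choose! Dv Nv hDN using fun y (hy : y ∈ Col) => exists_secSum_rank_one hM hmax (hrank y hy)
  choose col hcol hcoleq using hcov
  set T : Finset (ι → ℂ) := Col.image fun y => fun i => Dv y (em i) with hT
  have hmem : ∀ j : ι, Pi.single j (1 : ℂ) ∈ Submodule.span ℂ (T : Set (ι → ℂ)) := by
    intro j
    have heq : Pi.single j (1 : ℂ) = ∑ z : P, ((conj (Dv (col z) (em j)) * Nv (col z)) /
        ((Nat.card (CQ (Subgroup.zpowers (z : G))) : ℂ) * ((fusClass hM hmax.1.1 z).card : ℂ))) •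
        fun i => Dv (col z) (em i) := by
      funext i
      have h := sum_secSum_fused hM hmax (hem i) (hem j)
      rw [Finset.sum_congr rfl fun z _ => by rw [hcoleq z i j, hDN _ (hcol z)]] at h
      rw [Finset.sum_apply, Pi.single_apply,
        show (if i = j then (1 : ℂ) else 0) = (if em i = em j then 1 else 0) by simp [hinj.eq_iff],
        ← h]
      refine Finset.sum_congr rfl fun z _ => ?_
      simp only [Pi.smul_apply, smul_eq_mul]
      ring
    rw [heq]
    exact Submodule.sum_mem _ fun z _ => Submodule.smul_mem _ _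
      (Submodule.subset_span (Finset.mem_image_of_mem _ (hcol z)))
  have htop : (⊤ : Submodule ℂ (ι → ℂ)) ≤ Submodule.span ℂ (T : Set (ι → ℂ)) := fun v _ => by
    rw [pi_eq_sum_univ' v]
    exact Submodule.sum_mem _ fun j _ => Submodule.smul_mem _ _ (hmem j)
  have h1 := Submodule.finrank_mono htop
  rw [finrank_top, Module.finrank_fintype_fun_eq_card] at h1
  exact h1.trans ((finrank_span_finset_le_card T).trans Finset.card_image_le)

end CfsgLib.Block.IndexFour
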