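import Cfsg.Agent.Lib.Block.IndexFour.CentralQuotient
import Cfsg.Agent.Lib.Block.IndexFour.CentralColumn

/-!
# `a` central and `c ^ h` fused out of `A`: rank at least two
-/

open Finset MonoidAlgebra
open scoped ComplexConjugate

set_option autoImplicit false
set_option linter.unusedSectionVars false

namespace CfsgLib.Block.IndexFour

open Cfsg CfsgLib CfsgLib.Block CfsgLib.Block.Cyclic
open scoped Pair

universe u

variable {M : Ideal AlgInt} [M.IsMaximal] {G : Type u} [Group G] [Fintype G] [DecidableEq G]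
  [Fintype (IrrCharacter G)] {P A : Subgroup G} {c a x : G} {h : ℕ} {e : Set (IrrCharacter (CQ P))}
  {B : Set (IrrCharacter G)}

/-- The subsection at `1` has the rank of the block. -/
theorem rank_low_one {p : ℕ} (hM : IsPModular p M) (hmax : IsMaximalBrauerPair p M B P e) :
    blockRank p (lowPair hM hmax.1.1 (1 : P)).2 = blockRank p B := by
  classical
  have := Fintype.ofFinite (ConjClasses G)
  have hG : Nat.card (CQ (lowPair hM hmax.1.1 (1 : P)).1) = Nat.card G := by
    rw [show CQ (lowPair hM hmax.1.1 (1 : P)).1 = ⊤ from eq_top_iff.mpr fun t _ =>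
      mem_cq_zpowers_iff.mpr (Commute.one_right t), Subgroup.card_top]
  have h1 := sum_secSum_eq_rank hM (B := B) (exists_pElement_orderOf hmax.1.1 (1 : P) hM.1)
    (lowPair_fst hM hmax.1.1 1) (lowPair_pairOf hM hmax 1)
  rw [hG, Finset.sum_congr rfl fun χ hχ => by
    rw [OneMemClass.coe_one, secSum_one_eq hM hmax (Finset.mem_filter.mp hχ).2
      (Finset.mem_filter.mp hχ).2], ← Finset.mul_sum,
    ← blockRank_eq_sum_regInner hM (IsBlockUnion.of_isPBlock hmax.1.2.1)] at h1
  exact_mod_cast (mul_left_cancel₀ (Nat.cast_ne_zero.mpr Nat.card_pos.ne') h1).symm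

variable (D : IFPres P A c a x h)
include D

/-- The subsection at `c ^ h` when all elements outside `A` have square one. -/
theorem rank_low_q (hM : IsPModular 2 M) (hmax : IsMaximalBrauerPair 2 M B P e)
    (hout : ∀ v ∈ P, v ∉ A → v * v = 1) {y : P} (hy : (y : G) = c ^ h) :
    blockRank 2 (lowPair hM hmax.1.1 y).2 = 1 := by
  obtain ⟨f, S, -, -⟩ := exists_setup_jj D hM hmax
  have hlow : lowPair hM hmax.1.1 y = ⟨Subgroup.zpowers (IFPres.jj c x h), f⟩ :=
    below_ext hM hmax.1.1 (lowPair_below hM hmax.1.1 y)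
      (Relation.ReflTransGen.single ((isNormalSubpair_iff hM).mpr S.sub) : SubpairLE 2 M _ f P e)
      (congrArg Subgroup.zpowers (hy.trans (D.jj_eq hout).symm))
  rw [hlow]
  haveI := Fintype.ofFinite (IrrCharacter (CQ (Subgroup.zpowers (IFPres.jj c x h))))
  exact rank_eq_one_of_nilpotent hM S.nil

/-- The subsection at an element outside `A` fused to none of `A`, `a` central. -/
theorem rank_low_out (hM : IsPModular 2 M) (hmax : IsMaximalBrauerPair 2 M B P e)
    (ha : ∀ g : G, Commute g a) {v : P} (hvA : (v : G) ∉ A)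
    (hnf : ∀ y : P, (y : G) ∈ A → v ∉ fusClass hM hmax.1.1 y) :
    blockRank 2 (lowPair hM hmax.1.1 v).2 = 1 := by
  classical
  obtain ⟨b, hb⟩ := exists_eq_pairMk (a := lowPair hM hmax.1.1 v)
    (Q := Subgroup.zpowers (v : G)) rfl
  have hdef := defect_low hM hmax v fun w hw => by
    rw [card_centralizer_out D v.2 hvA, card_centralizer_out D w.2 fun hwA => hnf w hwA (by
      rw [fusClass_eq_of_mem hM hmax.1.1 hw]
      exact self_mem_fusClass hM hmax.1.1 v)]
  have hpair := lowPair_pairOf hM hmax v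
  rw [hb] at hdef hpair ⊢
  dsimp only at hdef hpair ⊢
  haveI := Fintype.ofFinite (IrrCharacter (CQ (Subgroup.zpowers (v : G))))
  obtain ⟨e', hmax'⟩ := exists_maximalPair_at hM hpair.1.2 hdef
  set P' := (P ⊓ CQ (Subgroup.zpowers (v : G))).subgroupOf (CQ (Subgroup.zpowers (v : G))) with hP'
  have hdec : ∀ u ∈ P ⊓ CQ (Subgroup.zpowers (v : G)), ∃ z ∈ A, z * z = 1 ∧ (u = z ∨ u = (v : G) * z) :=
    fun u hu => D.commute_out v.2 hvA hu.1 (mem_cq_zpowers_iff.mp hu.2).symm
  refine rank_eq_one_of_nilpotent hM (isNilpotentBlock_of_aut hM hmax' fun R hRP hcen _ α hα hodd => ?_)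
  have hab : ∀ u ∈ P', ∀ w ∈ P', Commute u w := fun u hu w hw => Subtype.ext (by
    show Commute (u : G) (w : G)
    obtain ⟨z, hz, hz2, e1⟩ := hdec u hu
    obtain ⟨z', hz', hz2', e2⟩ := hdec w hw
    have h1 := D.central_of_sq hz hz2 v.2
    have h2 := D.central_of_sq hz' hz2' v.2
    have h3 := D.comm z hz z' hz'
    rcases e1 with e1 | e1 <;> rcases e2 with e2 | e2 <;> rw [e1, e2]
    exacts [h3, h1.symm.mul_right h3, h2.mul_left h3,
      ((Commute.refl _).mul_right h2).mul_left (h1.symm.mul_right h3)])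
  have hPR : P' ≤ R := fun u hu => hcen u hu fun w hw => hab u hu w (hRP hw)
  have hvC : (v : G) ∈ CQ (Subgroup.zpowers (v : G)) := mem_cq_zpowers_iff.mpr (Commute.refl _)
  have haC : a ∈ CQ (Subgroup.zpowers (v : G)) := mem_cq_zpowers_iff.mpr (ha (v : G)).symm
  let T : Subgroup R :=
    { carrier := {u | α u = u}
      one_mem' := map_one α
      mul_mem' := fun {u w} hu hw => by simp only [Set.mem_setOf_eq, map_mul] at *; rw [hu, hw]
      inv_mem' := fun {u} hu => by simp only [Set.mem_setOf_eq, map_inv] at *; rw [hu] }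
  refine aut_eq_one_of_fix_index_two (hmax'.1.1.1.to_le hRP) α hodd T ?_ fun t ht => ht
  have hv' : (⟨(v : G), hvC⟩ : CQ (Subgroup.zpowers (v : G))) ∈ P' := ⟨v.2, hvC⟩
  have ha' : (⟨a, haC⟩ : CQ (Subgroup.zpowers (v : G))) ∈ P' := ⟨D.le D.mema, haC⟩
  set vR : R := ⟨⟨(v : G), hvC⟩, hPR hv'⟩
  set aR : R := ⟨⟨a, haC⟩, hPR ha'⟩
  have hvT : vR ∈ T := autGroup_fix hM hmax' hRP hα fun g =>
    Subtype.ext (mem_cq_zpowers_iff.mp g.2).eq
  have haT : aR ∈ T := autGroup_fix hM hmax' hRP hα fun g => Subtype.ext (ha (g : G)).eq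
  let f : Fin 2 × Fin 2 → T := fun s =>
    ⟨vR ^ (s.1 : ℕ) * aR ^ (s.2 : ℕ), mul_mem (pow_mem hvT _) (pow_mem haT _)⟩
  have hf : Function.Injective f := by
    intro s s' e'
    have e1 : (v : G) ^ (s.1 : ℕ) * a ^ (s.2 : ℕ) = (v : G) ^ (s'.1 : ℕ) * a ^ (s'.2 : ℕ) :=
      congrArg (fun t : T => (((t : R) : CQ (Subgroup.zpowers (v : G))) : G)) e'
    obtain ⟨i, j⟩ := s
    obtain ⟨i', j'⟩ := s'
    have hi : i = i' := by
      by_contra hne
      have key : ∀ j j' : ℕ, (v : G) * a ^ j ≠ a ^ j' := fun j j' h' => hvA (by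
        rw [show (v : G) = a ^ j' * (a ^ j)⁻¹ by rw [← h', mul_inv_cancel_right]]
        exact mul_mem (pow_mem D.mema _) (inv_mem (pow_mem D.mema _)))
      fin_cases i <;> fin_cases i' <;> simp at hne e1
      · exact key _ _ e1.symm
      · exact key _ _ e1
    subst hi
    have e2 := mul_left_cancel e1
    have hj : j = j' := by
      fin_cases j <;> fin_cases j' <;> simp at e2 ⊢
      · exact D.a_ne e2.symm
      · exact D.a_ne e2
    rw [hj]
  have hT4 : 4 ≤ Nat.card T := by simpa using Nat.card_le_card_of_injective f hf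
  have hR8 : Nat.card R ≤ 8 := by
    refine le_trans (Subgroup.card_le_of_le hRP) (le_of_eq ?_)
    rw [card_subgroupOf_inf, Subgroup.zpowers_eq_closure, Subgroup.centralizer_closure,
      card_centralizer_out D v.2 hvA]
  have h4 := Subgroup.card_mul_index T
  by_contra hlt
  have := Nat.mul_le_mul hT4 (show 3 ≤ T.index by omega)
  omega

/-- The rank is not one. -/
theorem not_rank_one_of_fused (hM : IsPModular 2 M) (hmax : IsMaximalBrauerPair 2 M B P e)
    (hout : ∀ v ∈ P, v ∉ A → v * v = 1) (ha : ∀ g : G, Commute g a) {v y₀ : P}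
    (hy₀ : (y₀ : G) = c ^ h) (hvA : (v : G) ∉ A) (hfus : v ∈ fusClass hM hmax.1.1 y₀) :
    blockRank 2 B ≠ 1 := by
  classical
  intro hrk
  have hN : (Subgroup.zpowers a).Normal := ⟨fun u hu g => by
    rwa [(show Commute g u from by
      obtain ⟨i, rfl⟩ := Subgroup.mem_zpowers_iff.mp hu
      exact (ha g).zpow_right i).eq, mul_inv_cancel_right]⟩
  have hcard := card_quotSet D hM hmax hout ha
  haveI := Fintype.ofFinite (IrrCharacter (G ⧸ Subgroup.zpowers a))
  let ι := quotSet (Subgroup.zpowers a) B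
  haveI := Fintype.ofFinite ι
  let em : ι → IrrCharacter G := fun θ => inflQ θ.1
  have hker : ∀ (i : ι) (u : G), (em i : G → ℂ) (a * u) = (em i : G → ℂ) u := fun i u => by
    rw [inflQ_apply, inflQ_apply, QuotientGroup.mk_mul,
      (QuotientGroup.eq_one_iff a).mpr (Subgroup.mem_zpowers a), one_mul]
  have hinj : Function.Injective em := fun i j e' => by
    refine Subtype.ext (Subtype.ext (funext fun q => ?_))
    obtain ⟨g, rfl⟩ := QuotientGroup.mk_surjective q
    exact congrFun (congrArg Subtype.val e') g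
  set he := hmax.1.1
  let Eqv : P → P → Prop := fun z y => ∀ i j : ι,
    secSum 2 (em i) (em j) (z : G) (lowPair hM he z) = secSum 2 (em i) (em j) (y : G) (lowPair hM he y)
  have htr : ∀ {z y w : P}, Eqv z y → Eqv y w → Eqv z w := fun h1 h2 i j => (h1 i j).trans (h2 i j)
  have hsy : ∀ {z y : P}, Eqv z y → Eqv y z := fun h1 i j => (h1 i j).symm
  have hfusE : ∀ {z y : P}, z ∈ fusClass hM he y → Eqv z y := fun {z y} hz i j => by
    obtain ⟨g, hg, hgl⟩ := (mem_fusClass hM he).mp hz
    rw [← hgl, ← hg, secSum_cjP]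
  set aP : P := ⟨a, D.le D.mema⟩
  set cP : P := ⟨c, D.le D.memc⟩ with hcP
  set xP : P := ⟨x, D.memx⟩ with hxP
  have haE : ∀ z : P, Eqv (z * aP) z := fun z i j =>
    secSum_central hM he (w := aP) ha (hker i) (hker j) z
  have hconjE : ∀ u z : P, Eqv (u * z * u⁻¹) z := fun u z => hfusE (fused_conj hM hmax u z)
  -- the rotations
  have hrot : ∀ l : ℕ, ∃ l' ≤ h, Eqv (cP ^ l) (cP ^ l') := by
    intro l
    have hh := D.two_le
    have hlt : l % (2 * h) < 2 * h := Nat.mod_lt _ (by omega)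
    have hl' : cP ^ l = cP ^ (l % (2 * h)) := Subtype.ext (by
      rw [SubmonoidClass.coe_pow, SubmonoidClass.coe_pow, pow_inj_mod, D.orderc, Nat.mod_mod])
    rw [hl']
    rcases Nat.lt_or_ge h (l % (2 * h)) with hgt | hle
    · refine ⟨2 * h - l % (2 * h), by omega, ?_⟩
      have h1 : xP * cP ^ (2 * h - l % (2 * h)) * xP⁻¹ = cP ^ (l % (2 * h)) := Subtype.ext (by
        show x * c ^ (2 * h - l % (2 * h)) * x⁻¹ = c ^ (l % (2 * h))
        rw [D.conj_inv hout (pow_mem D.memc _)]
        refine inv_eq_of_mul_eq_one_right ?_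
        rw [← pow_add, D.pow_eq_one]
        exact ⟨1, by omega⟩)
      rw [← h1]
      exact hconjE _ _
    · exact ⟨_, hle, fun i j => rfl⟩
  have hA : ∀ z : P, (z : G) ∈ A → ∃ l' ≤ h, Eqv z (cP ^ l') := by
    intro z hz
    obtain ⟨l, hl | hl⟩ := D.decomp hz
    · rw [show z = cP ^ l from Subtype.ext (by simpa [cP] using hl)]
      exact hrot l
    · obtain ⟨l', hl', hE⟩ := hrot l
      refine ⟨l', hl', htr ?_ hE⟩
      rw [show z = cP ^ l * aP from Subtype.ext (by simpa [cP, aP] using hl)]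
      exact haE _
  -- the reflections
  have hrefl : ∀ l : ℕ, Eqv (xP * cP ^ l) (xP * cP ^ (l % 2)) := by
    intro l
    have h1 : cP ^ (l / 2) * (xP * cP ^ l) * (cP ^ (l / 2))⁻¹ = xP * cP ^ (l % 2) := Subtype.ext (by
      show c ^ (l / 2) * (x * c ^ l) * (c ^ (l / 2))⁻¹ = x * c ^ (l % 2)
      have hcx : c ^ (l / 2) * x = x * (c ^ (l / 2))⁻¹ := by
        rw [← D.conj_inv hout (pow_mem D.memc _), ← mul_assoc, ← mul_assoc, hout x D.memx D.notA,
          one_mul, inv_eq_of_mul_eq_one_right (hout x D.memx D.notA)]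
      rw [← mul_assoc, hcx, mul_assoc x, mul_assoc x]
      congr 1
      conv_lhs => arg 1; arg 2; rw [show l = l / 2 + (l / 2 + l % 2) by omega, pow_add]
      rw [inv_mul_cancel_left, pow_add, ← (Commute.pow_pow_self c (l % 2) (l / 2)).eq,
        mul_inv_cancel_right])
    rw [← h1]
    exact hsy (hconjE _ _)
  have hout' : ∀ z : P, (z : G) ∉ A → ∃ r < 2, Eqv z (xP * cP ^ r) := by
    intro z hz
    obtain ⟨l, hl | hl⟩ := D.decomp (D.inv_mul_mem D.memx z.2 D.notA hz)
    · refine ⟨l % 2, Nat.mod_lt _ two_pos, ?_⟩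
      rw [show z = xP * cP ^ l from Subtype.ext (by simp [xP, cP, ← hl])]
      exact hrefl l
    · refine ⟨l % 2, Nat.mod_lt _ two_pos, htr ?_ (hrefl l)⟩
      rw [show z = xP * cP ^ l * aP from Subtype.ext (by simp [xP, cP, aP, mul_assoc, ← hl])]
      exact haE _
  obtain ⟨r, hr, hrE⟩ := hout' v hvA
  have hy₀' : y₀ = cP ^ h := Subtype.ext (by simpa [cP] using hy₀)
  set u : P := xP * cP ^ (1 - r)
  set Col : Finset P := (Finset.range (h + 1)).image (fun l => cP ^ l) ∪
    (if ∀ y : P, (y : G) ∈ A → u ∉ fusClass hM he y then {u} else ∅) with hCol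
  have huA : (u : G) ∉ A := fun hu => D.notA (by
    have := mul_mem hu (inv_mem (pow_mem D.memc (1 - r)))
    simpa [u, xP, cP] using this)
  have hcardCol : Col.card ≤ h + 2 := by
    refine (Finset.card_union_le _ _).trans ?_
    have h1 := Finset.card_image_le (f := fun l => cP ^ l) (s := Finset.range (h + 1))
    rw [Finset.card_range] at h1
    split_ifs <;> simp only [Finset.card_singleton, Finset.card_empty] <;> omega
  have hrank : ∀ y ∈ Col, blockRank 2 (lowPair hM he y).2 = 1 := by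
    intro y hy
    rcases Finset.mem_union.mp hy with hy | hy
    · obtain ⟨l, hl, rfl⟩ := Finset.mem_image.mp hy
      rw [Finset.mem_range] at hl
      rcases Nat.eq_zero_or_pos l with rfl | hpos
      · rw [pow_zero, rank_low_one hM hmax, hrk]
      rcases Nat.eq_or_lt_of_le (Nat.lt_succ_iff.mp hl) with rfl | hlt
      · exact rank_low_q D hM hmax hout (y := cP ^ l) (by simp [cP])
      · have hl2 : c ^ l * c ^ l ≠ 1 := fun e' => by
          rw [← pow_add, D.pow_eq_one, ← two_mul] at e'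
          exact absurd (Nat.le_of_dvd hpos (Nat.dvd_of_mul_dvd_mul_left two_pos e')) (not_le.mpr hlt)
        obtain ⟨k, hk⟩ := IsPGroup.iff_orderOf.mp D.isPGroup (cP ^ l)
        rw [← Subgroup.orderOf_coe, SubmonoidClass.coe_pow] at hk
        have hk1 : 1 ≤ k := by
          by_contra hk0
          rw [show k = 0 by omega, pow_zero, orderOf_eq_one_iff] at hk
          exact hl2 (by
            rw [show c ^ l = 1 from hk, mul_one])
        obtain ⟨k, rfl⟩ : ∃ m, k = m + 1 := ⟨k - 1, by omega⟩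
        have hz : ((c ^ l) ^ 2 ^ k) * ((c ^ l) ^ 2 ^ k) = 1 := by
          rw [← pow_add, show 2 ^ k + 2 ^ k = 2 ^ (k + 1) by ring]
          exact hk ▸ pow_orderOf_eq_one (c ^ l)
        have hz1 : (c ^ l) ^ 2 ^ k ≠ 1 :=
          pow_ne_one_of_lt_orderOf (by positivity) (by rw [hk]; exact Nat.pow_lt_pow_right one_lt_two (by omega))
        have hq : (c ^ l) ^ 2 ^ k = c ^ h := by
          rcases D.sq_one_cases (pow_mem (pow_mem D.memc l) _) hz with e' | e' | e' | e'
          · exact absurd e' hz1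
          · exact e'
          · exact absurd (e' ▸ pow_mem (Subgroup.npow_mem_zpowers c l) (2 ^ k)) D.nota
          · refine absurd ?_ D.nota
            rw [show a = (c ^ h)⁻¹ * (c ^ l) ^ 2 ^ k by rw [e']; group]
            exact mul_mem (inv_mem (Subgroup.npow_mem_zpowers c h))
              (pow_mem (Subgroup.npow_mem_zpowers c l) _)
        exact rank_low_A D hM hmax (y := cP ^ l) (pow_mem D.memc l) hl2 ⟨2 ^ k, hq⟩
    · split_ifs at hy with hu
      · rw [Finset.mem_singleton] at hy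
        subst hy
        exact rank_low_out D hM hmax ha huA hu
      · simp at hy
  have hrotCol : ∀ l ≤ h, cP ^ l ∈ Col := fun l hl => Finset.mem_union_left _
    (Finset.mem_image_of_mem _ (Finset.mem_range.mpr (by omega)))
  have hcov : ∀ z : P, ∃ y ∈ Col, Eqv z y := by
    intro z
    by_cases hz : (z : G) ∈ A
    · obtain ⟨l', hl', hE⟩ := hA z hz
      exact ⟨_, hrotCol l' hl', hE⟩
    obtain ⟨r', hr', hE⟩ := hout' z hz
    by_cases hrr : r' = r
    · subst hrr
      exact ⟨_, hrotCol h le_rfl, htr hE (htr (hsy hrE) (hy₀' ▸ hfusE hfus))⟩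
    · rw [show r' = 1 - r by omega] at hE
      by_cases hu : ∀ y : P, (y : G) ∈ A → u ∉ fusClass hM he y
      · exact ⟨u, Finset.mem_union_right _ (by rw [if_pos hu]; exact Finset.mem_singleton_self u), hE⟩
      · push Not at hu
        obtain ⟨y, hyA, huy⟩ := hu
        obtain ⟨l', hl', hE'⟩ := hA y hyA
        exact ⟨_, hrotCol l' hl', htr hE (htr (hfusE huy) hE')⟩
  have hle := card_le_of_columns hM hmax em hinj (fun i => i.2) Col hrank hcov
  rw [← Nat.card_eq_fintype_card, hcard] at hle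
  omega

end CfsgLib.Block.IndexFour
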