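import Cfsg.Agent.Lib.Block.IndexFour.Tally
import Cfsg.Agent.Lib.Block.Tame.LocalPair

/-!
# Fusion seen in a subgroup containing the centralizers
-/

open Finset MonoidAlgebra

set_option autoImplicit false
set_option linter.unusedSectionVars false

namespace CfsgLib.Block.IndexFour

open Cfsg CfsgLib CfsgLib.Block
open scoped Pair

universe u

variable {p : ℕ} {M : Ideal AlgInt} [M.IsMaximal] {G : Type u} [Group G] [Fintype G] [DecidableEq G]
  {P R : Subgroup G} {e : Set (IrrCharacter (CQ P))}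

/-- An element of `T` normalizing a pair below the maximal one fuses in `T`. -/
theorem fused_inT (hM : IsPModular p M) {T : Subgroup G} {b : Set (IrrCharacter T)} (hPT : P ≤ T)
    (hCP : CQ P ≤ T) (hCR : CQ R ≤ T) {f : Set (IrrCharacter (CQ R))}
    (hmaxT : IsMaximalBrauerPair p M b (P.subgroupOf T) (irrEquiv (cqInT hCP hPT) '' e))
    (hf : SubpairLE p M R f P e) (hfb : IsPBlock M f) {g : G} (hgT : g ∈ T)
    (hgN : g ∈ Subgroup.normalizer (R : Set G)) (hgS : StabilizesBlock (CQ R) f g)
    {u v : P.subgroupOf T} (huR : ((u : T) : G) ∈ R) (hv : ((v : T) : G) = g * ((u : T) : G) * g⁻¹) :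
    v ∈ fusClass hM hmaxT.1.1 u := by
  classical
  have hRT : R ≤ T := (SubpairLE.le hf).trans hPT
  set g' : T := ⟨g, hgT⟩ with hg'
  set f' := irrEquiv (cqInT hCR hRT) '' f with hf'
  have hbel : SubpairLE p M (R.subgroupOf T) f' (P.subgroupOf T) (irrEquiv (cqInT hCP hPT) '' e) :=
    Tame.subpairLE_inT hM hf hCR hPT
  have hN' : g' ∈ Subgroup.normalizer (R.subgroupOf T : Set T) := by
    rw [Subgroup.mem_normalizer_iff]
    exact fun w => Subgroup.mem_normalizer_iff.mp hgN (w : G)
  have hfix : cjP g' ⟨R.subgroupOf T, f'⟩ = (⟨R.subgroupOf T, f'⟩ : BrauerPairIdx T) := by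
    refine conjBlock_eq_of_mem hM (isPBlock_image_irrEquiv _ hfb) hN' ?_
    refine ga_ext fun w => ?_
    rw [coeff_cj, coeff_eG_inT, coeff_eG_inT]
    have h1 := congrArg (fun y : MonoidAlgebra (ResField M) G => y.coeff (w : G))
      ((stabilizesBlock_iff hM hgN hfb).mp hgS)
    simp only [coeff_cj] at h1
    exact h1
  refine mem_fusClass_of_hom hM hmaxT (R := R.subgroupOf T) (φ := conjHom (R.subgroupOf T) g')
    ⟨fun w hw => SubpairLE.le hf hw, g', fun w => rfl,
      (cjS_eq_of_mem_normalizer hN').trans_le (SubpairLE.le hbel), f', hbel,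
      show Below p M (P.subgroupOf T) _ (cjP g' ⟨R.subgroupOf T, f'⟩) by rw [hfix]; exact hbel⟩
    huR ?_
  exact Subtype.ext hv.symm

end CfsgLib.Block.IndexFour
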