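import Cfsg.Agent.Lib.Block.IndexFour.Inverting
import Mathlib.NumberTheory.LegendreSymbol.AddCharacter

/-!
# All elements outside `A` of square one: at most eight members of height zero

For the generalized character of a member on `⟨c⟩` the difference of the multiplicities of the
trivial character and of the character of order two is odd at height zero, and the squares of these
differences add up to eight.
-/

open Finset MonoidAlgebra
open scoped ComplexConjugate

set_option autoImplicit false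
set_option linter.unusedSectionVars false

namespace CfsgLib.Block.IndexFour

open Cfsg CfsgLib CfsgLib.Block
open scoped Pair

universe u

/-- A generalized character on the powers of an element of order dividing `N`. -/
theorem exists_mult {H : Type u} [Group H] [Finite H] {g : H → ℂ}
    (hg : IsGeneralizedCharacter H g) {N : ℕ} [NeZero N] {s : H} (hs : s ^ N = 1) {ζ : ℂ}
    (hζ : IsPrimitiveRoot ζ N) :
    ∃ a : ZMod N → ℤ, ∀ l : ℕ, g (s ^ l) =
      ∑ x, (a x : ℂ) * AddChar.zmodChar N hζ.pow_eq_one (x * (l : ZMod N)) := by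
  have hchar : ∀ χ : H → ℂ, IsCharacter H χ → ∃ a : ZMod N → ℕ, ∀ l : ℕ, χ (s ^ l) =
      ∑ x, (a x : ℂ) * AddChar.zmodChar N hζ.pow_eq_one (x * (l : ZMod N)) := by
    rintro χ ⟨m, ρ, rfl⟩
    obtain ⟨b, μ, h1, -, h3⟩ := Char.exists_eigen_data ρ s
    have hk : ∀ i, ∃ k : ℕ, ζ ^ k = μ i := fun i => by
      obtain ⟨c, hc⟩ := orderOf_dvd_of_pow_eq_one hs
      obtain ⟨k, -, hk⟩ := hζ.eq_pow_of_pow_eq_one (show μ i ^ N = 1 by
        rw [hc, pow_mul, h1, one_pow])
      exact ⟨k, hk⟩
    choose k hk using hk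
    refine ⟨fun x => (Finset.univ.filter fun i => ((k i : ℕ) : ZMod N) = x).card, fun l => ?_⟩
    rw [h3, ← Finset.sum_fiberwise Finset.univ (fun i => ((k i : ℕ) : ZMod N))]
    refine Finset.sum_congr rfl fun x _ => ?_
    rw [Finset.sum_congr rfl (g := fun _ => AddChar.zmodChar N hζ.pow_eq_one
      (x * (l : ZMod N))) fun i hi => ?_, Finset.sum_const, nsmul_eq_mul]
    rw [← (Finset.mem_filter.1 hi).2, ← Nat.cast_mul, AddChar.zmodChar_apply', pow_mul, hk]
  obtain ⟨χ, ψ, hχ, hψ, rfl⟩ := hg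
  obtain ⟨a, ha⟩ := hchar χ hχ
  obtain ⟨b, hb⟩ := hchar ψ hψ
  refine ⟨fun x => (a x : ℤ) - b x, fun l => ?_⟩
  rw [Pi.sub_apply, ha, hb, ← Finset.sum_sub_distrib]
  exact Finset.sum_congr rfl fun x _ => by push_cast; ring

variable {M : Ideal AlgInt} [M.IsMaximal] {G : Type u} [Group G] [Fintype G] [DecidableEq G]
  [Fintype (IrrCharacter G)]
  {P A : Subgroup G} {c a x : G} {h : ℕ} {e : Set (IrrCharacter (CQ P))}
  {B : Set (IrrCharacter G)} (D : IFPres P A c a x h)
  {f : Set (IrrCharacter (CQ (Subgroup.zpowers (IFPres.jj c x h))))}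
include D

theorem centralizer_eq_top_of_jj {y : G} (hy : y = IFPres.jj c x h) :
    P ⊓ Subgroup.centralizer ({y} : Set G) = P :=
  inf_eq_left.mpr fun _ hv => Subgroup.mem_centralizer_singleton_iff.mpr (hy ▸ (D.jj_central hv).eq)

open scoped Classical in
/-- At most eight members of height zero. -/
theorem k0_le_eight_inverting (hM : IsPModular 2 M) (hmax : IsMaximalBrauerPair 2 M B P e)
    (hout : ∀ v ∈ P, v ∉ A → v * v = 1) :
    Nat.card {χ : IrrCharacter G // χ ∈ B ∧ blockHeight 2 B (χ : G → ℂ) = 0} ≤ 8 := by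
  obtain ⟨f, S, hind, hd⟩ := exists_setup_jj D hM hmax
  haveI := Fintype.ofFinite (IrrCharacter (CQ (Subgroup.zpowers (IFPres.jj c x h))))
  have hchar := charP_resField hM
  obtain ⟨θ₀, hθ⟩ := S.exists_base
  set N := 2 * h with hN
  have h2h := D.two_le
  haveI : NeZero N := ⟨by omega⟩
  set ζ : ℂ := Complex.exp (2 * Real.pi * Complex.I / N) with hζdef
  have hζ : IsPrimitiveRoot ζ N := Complex.isPrimitiveRoot_exp N (by omega)
  set ψ : AddChar (ZMod N) ℂ := AddChar.zmodChar N hζ.pow_eq_one with hψ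
  have hψp : ψ.IsPrimitive := AddChar.zmodChar_primitive_of_primitive_root N hζ
  have hψv : ∀ n : ℕ, ψ (n : ZMod N) = ζ ^ n := fun n => AddChar.zmodChar_apply' hζ.pow_eq_one n
  have hsum : ∀ b : ZMod N, ∑ y, ψ (y * b) = if b = 0 then (N : ℂ) else 0 := by
    intro b
    rw [AddChar.sum_mulShift b hψp]
    split_ifs with hb <;> simp [ZMod.card]
  have hN0 : (N : ℂ) ≠ 0 := Nat.cast_ne_zero.mpr (by omega)
  have hjq := D.jj_eq hout
  -- the powers of `c` in the local group
  have hcC : ∀ v ∈ P, v ∈ CQ (Subgroup.zpowers (IFPres.jj c x h)) := fun v hv => S.cent hv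
  let el : ℕ → P.subgroupOf (CQ (Subgroup.zpowers (IFPres.jj c x h))) := fun l =>
    ⟨⟨c ^ l, hcC _ (D.le (pow_mem D.memc l))⟩, D.le (pow_mem D.memc l)⟩
  let xl : P.subgroupOf (CQ (Subgroup.zpowers (IFPres.jj c x h))) :=
    ⟨⟨x, hcC _ D.memx⟩, D.memx⟩
  have hval : ∀ l, ((S.inP (el l) : P) : G) = c ^ l := fun l => rfl
  have hel : ∀ l l' : ℕ, c ^ l = c ^ l' → el l = el l' := fun l l' e' => Subtype.ext (Subtype.ext e')
  have help : ∀ l, el l = el 1 ^ l := fun l => Subtype.ext (Subtype.ext (by simp [el]))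
  have hel1 : el 1 ^ N = 1 := by
    rw [← help]
    exact Subtype.ext (Subtype.ext (D.pow_eq_one.mpr dvd_rfl))
  set g : IrrCharacter G → ZMod N → ℂ := fun χ y => S.gfun θ₀ χ (el y.val) with hgdef
  have hmem : ∀ l, Odd l → Subgroup.zpowers (IFPres.jj c x h) ≤
      Subgroup.zpowers (((el l : P.subgroupOf (CQ (Subgroup.zpowers (IFPres.jj c x h)))) :
        CQ (Subgroup.zpowers (IFPres.jj c x h))) : G) := fun l hl => by
    refine Subgroup.zpowers_le.mpr ?_
    show IFPres.jj c x h ∈ Subgroup.zpowers (c ^ l)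
    rw [hjq, ← (D.odd_facts hout hl).2]
    exact Subgroup.npow_mem_zpowers _ _
  have hcent : ∀ l, Nat.card (Subgroup.centralizer ({el l} : Set (P.subgroupOf
      (CQ (Subgroup.zpowers (IFPres.jj c x h)))))) =
      Nat.card (P ⊓ Subgroup.centralizer ({c ^ l} : Set G) : Subgroup G) := fun l =>
    Nat.card_congr
      { toFun := fun u => ⟨((u.1 : CQ (Subgroup.zpowers (IFPres.jj c x h))) : G), u.1.2,
          Subgroup.mem_centralizer_singleton_iff.2
            (congrArg (fun z : P.subgroupOf (CQ (Subgroup.zpowers (IFPres.jj c x h))) =>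
              ((z : CQ (Subgroup.zpowers (IFPres.jj c x h))) : G))
              (Subgroup.mem_centralizer_singleton_iff.1 u.2))⟩
        invFun := fun u => ⟨⟨⟨(u : G), hcC _ u.2.1⟩, u.2.1⟩, Subgroup.mem_centralizer_singleton_iff.2
          (Subtype.ext (Subtype.ext (Subgroup.mem_centralizer_singleton_iff.1 u.2.2)))⟩
        left_inv := fun u => rfl
        right_inv := fun u => rfl }
  have hvneg : ∀ y : ZMod N, c ^ (-y).val = (c ^ y.val)⁻¹ := fun y => by
    refine eq_inv_of_mul_eq_one_left ?_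
    rw [← pow_add, D.pow_eq_one, ← hN, ← ZMod.natCast_eq_zero_iff, Nat.cast_add,
      ZMod.natCast_zmod_val, ZMod.natCast_zmod_val, neg_add_cancel]
  have hvinj : ∀ y z : ZMod N, c ^ y.val = c ^ z.val → y = z := fun y z e' => by
    rw [pow_inj_mod, D.orderc, ← hN, Nat.mod_eq_of_lt (ZMod.val_lt y),
      Nat.mod_eq_of_lt (ZMod.val_lt z)] at e'
    exact ZMod.val_injective _ e'
  have hsym : ∀ χ y, g χ (-y) = g χ y := fun χ y => by
    have hcf := Char.isClassFunction_of_isGeneralized (S.gfun_gen hθ χ)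
    have he : el (-y).val = xl * el y.val * xl⁻¹ :=
      Subtype.ext (Subtype.ext ((hvneg y).trans (D.conj_inv hout (pow_mem D.memc _)).symm))
    simp only [hgdef, he]
    exact hcf _ _
  -- the coefficients
  have hcoeff : ∀ χ : IrrCharacter G, ∃ a : ZMod N → ℤ, ∀ y,
      g χ y = ∑ z, (a z : ℂ) * ψ (z * y) := by
    intro χ
    obtain ⟨a, ha⟩ := exists_mult (S.gfun_gen hθ χ) hel1 hζ
    refine ⟨a, fun y => ?_⟩
    have h1 := ha y.val
    rw [ZMod.natCast_zmod_val, ← help] at h1
    exact h1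
  choose co hco using hcoeff
  have hinv : ∀ χ z, (N : ℂ) * (co χ z : ℂ) = ∑ y, g χ y * ψ (-(z * y)) := by
    intro χ z
    simp only [hco, Finset.sum_mul, mul_assoc, ← AddChar.map_add_eq_mul]
    rw [Finset.sum_comm]
    simp only [← Finset.mul_sum]
    rw [Finset.sum_eq_single z (fun w _ hw => ?_) (fun hh => absurd (Finset.mem_univ z) hh)]
    · simp only [add_neg_cancel, AddChar.map_zero_eq_one, Finset.sum_const, Finset.card_univ, ZMod.card,
        nsmul_eq_mul, mul_one]
      ring
    · rw [Finset.sum_congr rfl fun y _ => congrArg ψ (show w * y + -(z * y) = y * (w - z) by ring),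
        hsum, if_neg (sub_ne_zero.2 hw), mul_zero]
  have hcosym : ∀ χ z, co χ (-z) = co χ z := fun χ z => by
    have e' : (N : ℂ) * (co χ (-z) : ℂ) = (N : ℂ) * (co χ z : ℂ) := by
      rw [hinv, hinv]
      exact Fintype.sum_equiv (Equiv.neg _) _ _ fun y => by
        simp only [Equiv.neg_apply, hsym, neg_mul, mul_neg, neg_neg]
    exact_mod_cast mul_left_cancel₀ hN0 e'
  set hh : ZMod N := (h : ZMod N) with hhh
  have hh0 : hh ≠ 0 := by
    rw [hhh, Ne, ZMod.natCast_eq_zero_iff]
    intro hd'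
    have := Nat.le_of_dvd (by omega) hd'
    omega
  have hhneg : -hh = hh := by
    rw [hhh, neg_eq_iff_add_eq_zero, ← Nat.cast_add, ZMod.natCast_eq_zero_iff, hN, two_mul]
  have hψh : ∀ y : ZMod N, ψ (hh * y) = (-1 : ℂ) ^ y.val := fun y => by
    have hζh : ζ ^ h = -1 := by
      rcases sq_eq_one_iff.mp (show (ζ ^ h) ^ 2 = 1 by rw [← pow_mul, mul_comm, ← hN, hζ.pow_eq_one]) with e' | e'
      · exact absurd (Nat.le_of_dvd (by omega) (hζ.dvd_of_pow_eq_one h e')) (by omega)
      · exact e'
    conv_lhs => rw [← ZMod.natCast_zmod_val y, hhh, ← Nat.cast_mul, hψv, pow_mul, hζh]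
  set wt : ZMod N → ℂ := fun y => 1 - ψ (-(hh * y)) with hwt
  have hwt' : ∀ y : ZMod N, wt y = 1 - (-1 : ℂ) ^ y.val := fun y => by
    simp only [hwt, ← neg_mul, hhneg, hψh]
  have hwneg : ∀ y, wt (-y) = wt y := fun y => by
    simp only [hwt, mul_neg, ← neg_mul, hhneg]
  have hwsq : ∀ y, wt y * wt y = 2 * wt y := fun y => by
    rw [hwt']
    rcases neg_one_pow_eq_or ℂ y.val with e' | e' <;> rw [e'] <;> ring
  have hwodd : ∀ y, wt y ≠ 0 → Odd y.val := fun y hy => by
    rcases Nat.even_or_odd y.val with he | ho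
    · exact absurd (by rw [hwt', he.neg_one_pow, sub_self]) hy
    · exact ho
  have hwsum : ∑ y, wt y = (N : ℂ) := by
    simp only [hwt, Finset.sum_sub_distrib, Finset.sum_const, Finset.card_univ, ZMod.card,
      nsmul_eq_mul, mul_one, ← neg_mul, hhneg]
    rw [Finset.sum_congr rfl fun y _ => congrArg ψ (mul_comm hh y), hsum, if_neg hh0, sub_zero]
  have hD : ∀ χ, (N : ℂ) * ((co χ 0 - co χ hh : ℤ) : ℂ) = ∑ y, g χ y * wt y := fun χ => by
    simp only [hwt, mul_sub, Finset.sum_sub_distrib, ← hinv, mul_one, Int.cast_sub]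
    have h0 := hinv χ 0
    simp only [zero_mul, neg_zero, AddChar.map_zero_eq_one, mul_one] at h0
    rw [h0]
  -- the products
  set B' := Finset.univ.filter (fun χ : IrrCharacter G => χ ∈ B) with hB'
  have hcol : ∀ y y' : ZMod N, Odd y.val → Odd y'.val →
      ∑ χ ∈ B', g χ y * conj (g χ y') = if y' = y ∨ y' = -y then (4 * h : ℂ) else 0 := by
    intro y y' hy hy'
    have hself : ∑ χ ∈ B', g χ y * conj (g χ y) = (4 * h : ℂ) := by
      obtain ⟨hy2, hyq⟩ := D.odd_facts hout hy
      simp only [hgdef, hB', S.gfun_mul_conj hθ (y := el y.val) (hmem _ hy)]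
      rw [← Finset.sum_div, ← Finset.mul_sum, hcent,
        centralizer_eq D (pow_mem D.memc _) hy2, D.cardA]
      have h1 := sum_secSum_eq_rank hM (B := B)
        (exists_pElement_orderOf hmax.1.1 (S.inP (el y.val)) hM.1)
        (lowPair_fst hM hmax.1.1 _) (lowPair_pairOf hM hmax _)
      rw [rank_low_A D hM hmax (y := S.inP (el y.val)) (pow_mem D.memc _) hy2 ⟨h, hyq⟩, Nat.cast_one,
        mul_one, lowPair_fst] at h1
      erw [h1]
      push_cast
      exact mul_div_cancel_right₀ _ (Nat.cast_ne_zero.2 Nat.card_pos.ne')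
    split_ifs with hor
    · rcases hor with rfl | rfl
      · exact hself
      · simp only [hsym]
        exact hself
    · push Not at hor
      obtain ⟨β, hβ⟩ := S.exists_beta (θ₀ := θ₀) (y := el y.val) (hmem _ hy)
      obtain ⟨β', hβ'⟩ := S.exists_beta (θ₀ := θ₀) (y := el y'.val) (hmem _ hy')
      have hne : S.inP (el y'.val) ∉ fusClass hM hmax.1.1 (S.inP (el y.val)) := by
        intro hm
        rcases eq_or_conj_of_fused D hM hmax (y := S.inP (el y.val)) (pow_mem D.memc _)
          (D.odd_facts hout hy).1 (pow_mem D.memc _) hm with e' | e'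
        · exact hor.1 (hvinj _ _ e')
        · refine hor.2 (hvinj _ _ ?_)
          rw [hvneg, ← D.conj_inv hout (pow_mem D.memc _)]
          exact e'
      have horth := Tame.sum_secPart_one_zero hM hmax hne
      simp only [hgdef, hβ, hβ', map_mul]
      refine Eq.trans (Finset.sum_congr rfl fun χ _ => mul_mul_mul_comm _ _ _ _) ?_
      rw [← Finset.mul_sum]
      exact mul_eq_zero_of_right _ horth
  have hwconj : ∀ y, conj (wt y) = wt y := fun y => by
    rw [hwt', map_sub, map_one, map_pow, map_neg, map_one]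
  have hinner : ∀ y, ∑ y', wt y * wt y' * ∑ χ ∈ B', g χ y * conj (g χ y') =
      (16 * h : ℂ) * wt y := by
    intro y
    by_cases hy0 : wt y = 0
    · simp [hy0]
    have hy := hwodd y hy0
    have hne : y ≠ -y := fun e' => (D.odd_facts hout hy).1 (by
      have h1 := hvneg y
      rw [← e'] at h1
      rw [mul_eq_one_iff_eq_inv]
      exact h1)
    rw [← Finset.sum_subset (Finset.subset_univ ({y, -y} : Finset (ZMod N))) fun y' _ hy' => ?_,
      Finset.sum_pair hne, hwneg, hwsq, hcol y y hy hy, hcol y (-y) hy (hwodd _ (by rwa [hwneg])),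
      if_pos (Or.inl rfl), if_pos (Or.inr rfl)]
    · ring
    · simp only [Finset.mem_insert, Finset.mem_singleton, not_or] at hy'
      by_cases h0 : wt y' = 0
      · simp [h0]
      · rw [hcol y y' hy (hwodd y' h0), if_neg (by tauto), mul_zero]
  have htotal : ∑ χ ∈ B', (co χ 0 - co χ hh) * (co χ 0 - co χ hh) = 8 := by
    have key : (N : ℂ) * N * ((∑ χ ∈ B', (co χ 0 - co χ hh) * (co χ 0 - co χ hh) : ℤ) : ℂ) =
        ∑ y, ∑ y', wt y * wt y' * ∑ χ ∈ B', g χ y * conj (g χ y') := by
      rw [Int.cast_sum, Finset.mul_sum]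
      simp only [Finset.mul_sum]
      rw [Finset.sum_comm_cycle]
      refine Finset.sum_congr rfl fun χ _ => ?_
      have hc' : (N : ℂ) * ((co χ 0 - co χ hh : ℤ) : ℂ) = ∑ y, conj (g χ y) * wt y := by
        have h1 := congrArg conj (hD χ)
        simpa only [map_mul, map_sum, map_natCast, map_intCast, hwconj] using h1
      rw [Int.cast_mul, show (N : ℂ) * N * (((co χ 0 - co χ hh : ℤ) : ℂ) * ((co χ 0 - co χ hh : ℤ) : ℂ)) =
        ((N : ℂ) * ((co χ 0 - co χ hh : ℤ) : ℂ)) * ((N : ℂ) * ((co χ 0 - co χ hh : ℤ) : ℂ)) by ring]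
      conv_lhs => arg 1; rw [hD]
      rw [hc', Finset.sum_mul_sum]
      exact Finset.sum_congr rfl fun y _ => Finset.sum_congr rfl fun y' _ => by ring
    rw [Finset.sum_congr rfl fun y _ => hinner y, ← Finset.mul_sum, hwsum] at key
    have e' : ((∑ χ ∈ B', (co χ 0 - co χ hh) * (co χ 0 - co χ hh) : ℤ) : ℂ) = ((8 : ℤ) : ℂ) := by
      refine mul_left_cancel₀ (mul_ne_zero hN0 hN0) (key.trans ?_)
      rw [hN]; push_cast; ring
    exact_mod_cast e'
  -- the parity at height zero
  have hodd : ∀ χ ∈ B, blockHeight 2 B (χ : G → ℂ) = 0 → (co χ 0 - co χ hh) % 2 ≠ 0 := by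
    intro χ hχ h0 hev
    set gq : ℤ := ∑ z, co χ z * (-1) ^ z.val with hgq
    have hgq' : g χ hh = (gq : ℂ) := by
      rw [hco, hgq, Int.cast_sum]
      refine Finset.sum_congr rfl fun z _ => ?_
      rw [mul_comm z hh, hψh]
      push_cast
      rfl
    have hpar : (gq : ZMod 2) = 0 := by
      have h1 : (gq : ZMod 2) = ∑ z, (co χ z : ZMod 2) := by
        rw [hgq, Int.cast_sum]
        refine Finset.sum_congr rfl fun z _ => ?_
        rw [Int.cast_mul, Int.cast_pow, Int.cast_neg, Int.cast_one,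
          show (-1 : ZMod 2) = 1 by decide, one_pow, mul_one]
      rw [h1, ← Finset.sum_sdiff (Finset.subset_univ ({0, hh} : Finset (ZMod N))), Finset.sum_pair hh0.symm]
      have h2 : ∑ z ∈ Finset.univ \ ({0, hh} : Finset (ZMod N)), (co χ z : ZMod 2) = 0 := by
        refine Finset.sum_involution (fun z _ => -z) (fun z _ => ?_) (fun z hz _ e' => ?_)
          (fun z hz => ?_) fun z _ => neg_neg z
        · rw [hcosym]; exact CharTwo.add_self_eq_zero _
        · simp only [Finset.mem_sdiff, Finset.mem_insert, Finset.mem_singleton, not_or] at hz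
          have hlt := ZMod.val_lt z
          have hv : z.val + z.val = N := by
            have h4 : N ∣ z.val + z.val := by
              rw [← ZMod.natCast_eq_zero_iff, Nat.cast_add, ZMod.natCast_zmod_val]
              nth_rw 1 [← e']
              exact neg_add_cancel z
            obtain ⟨i, hi⟩ := h4
            have hz0 : z.val ≠ 0 := fun e0 => hz.2.1 ((ZMod.val_eq_zero z).1 e0)
            have hi2 : i < 2 := by
              by_contra hge
              have := Nat.mul_le_mul_left N (not_lt.mp hge)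
              omega
            interval_cases i <;> omega
          refine hz.2.2 (ZMod.val_injective _ ?_)
          rw [hhh, ZMod.val_natCast, Nat.mod_eq_of_lt (show h < N by omega)]
          omega
        · simp only [Finset.mem_sdiff, Finset.mem_univ, true_and, Finset.mem_insert,
            Finset.mem_singleton, not_or] at hz ⊢
          exact ⟨fun e' => hz.1 (neg_eq_zero.mp e'), fun e' => hz.2 (by rw [← hhneg, ← e', neg_neg])⟩
      rw [h2, zero_add, ← CharTwo.sub_eq_add, ← Int.cast_sub, ZMod.intCast_zmod_eq_zero_iff_dvd]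
      exact Int.dvd_of_emod_eq_zero hev
    obtain ⟨m, hm⟩ := (ZMod.intCast_zmod_eq_zero_iff_dvd _ 2).mp hpar
    obtain ⟨k, hk⟩ := exists_pElement_orderOf hmax.1.1 ⟨IFPres.jj c x h, D.le D.jj_mem⟩ hM.1
    have hC : ∀ t : G, t ∈ CQ (Subgroup.zpowers (IFPres.jj c x h)) ↔ Commute t (IFPres.jj c x h) :=
      fun t => mem_cq_zpowers_iff
    obtain ⟨L, hL, hL0, -⟩ := exists_major_lift hM hk hC hind hd hχ hχ
    have hhv : hh.val = h := by rw [hhh, ZMod.val_natCast, Nat.mod_eq_of_lt (by omega)]
    have hlow : lowPair S.hM S.hmax.1.1 (S.inP (el h)) = ⟨Subgroup.zpowers (IFPres.jj c x h), f⟩ :=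
      below_ext hM hmax.1.1 (lowPair_below hM hmax.1.1 _)
        (Relation.ReflTransGen.single ((isNormalSubpair_iff hM).mpr S.sub) :
          SubpairLE 2 M _ f P e) (by
          show Subgroup.zpowers (c ^ h) = Subgroup.zpowers _
          rw [hjq])
    have hmemh : Subgroup.zpowers (IFPres.jj c x h) ≤
        Subgroup.zpowers (((el h : P.subgroupOf (CQ (Subgroup.zpowers (IFPres.jj c x h)))) :
          CQ (Subgroup.zpowers (IFPres.jj c x h))) : G) := by
      refine Subgroup.zpowers_le.mpr ?_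
      show IFPres.jj c x h ∈ Subgroup.zpowers (c ^ h)
      rw [hjq]
      exact Subgroup.mem_zpowers _
    have hsq : secContrib 2 (IFPres.jj c x h) (CQ (Subgroup.zpowers (IFPres.jj c x h))) f χ χ =
        (gq : ℂ) * gq := by
      have h2 := S.gfun_mul_conj hθ (y := el h) hmemh χ χ
      rw [show S.gfun θ₀ χ (el h) = g χ hh by simp only [hgdef, hhv], hgq', map_intCast, hlow,
        hcent, centralizer_eq_top_of_jj D hjq.symm] at h2
      rw [secContrib_self_eq_secSum hM S.sub.pairL.2 (fun t => (hC t).mp t.2), h2, hd,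
        ← Nat.cast_pow, pow_defect D hM hmax, D.card,
        show (((el h : P.subgroupOf (CQ (Subgroup.zpowers (IFPres.jj c x h)))) :
          CQ (Subgroup.zpowers (IFPres.jj c x h))) : G) = IFPres.jj c x h from hjq.symm]
      ring
    rw [h0, pow_zero, one_mul] at hL
    refine hL0 h0 ?_
    have hcast : secContrib 2 (IFPres.jj c x h) (CQ (Subgroup.zpowers (IFPres.jj c x h))) f χ χ =
        ((4 * m * m : ℤ) : ℂ) := by
      rw [hsq, hm]; push_cast; ring
    rw [show L = ((4 * m * m : ℤ) : locRing M) from Subtype.ext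
      ((hL.symm.trans hcast).trans (map_intCast (locRing M).subtype _).symm), map_intCast,
      CharP.intCast_eq_zero_iff (ResField M) 2]
    exact ⟨2 * m * m, by push_cast; ring⟩
  rw [Nat.card_eq_fintype_card, Fintype.card_subtype]
  have hle : ((Finset.univ.filter fun χ : IrrCharacter G =>
      χ ∈ B ∧ blockHeight 2 B (χ : G → ℂ) = 0).card : ℤ) ≤ 8 := by
    rw [← htotal, hB', Finset.card_eq_sum_ones]
    push_cast
    refine le_trans ?_ (Finset.sum_le_sum_of_subset_of_nonneg
      (s := Finset.univ.filter fun χ : IrrCharacter G => χ ∈ B ∧ blockHeight 2 B (χ : G → ℂ) = 0)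
      (fun χ hχ => Finset.mem_filter.mpr ⟨Finset.mem_univ χ, (Finset.mem_filter.mp hχ).2.1⟩)
      fun χ _ _ => mul_self_nonneg _)
    refine Finset.sum_le_sum fun χ hχ => ?_
    obtain ⟨-, h1, h2⟩ := Finset.mem_filter.mp hχ
    have hne : co χ 0 - co χ hh ≠ 0 := fun e' => hodd χ h1 h2 (by rw [e']; rfl)
    exact mul_self_pos.mpr hne
  exact_mod_cast hle

end CfsgLib.Block.IndexFour
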