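import Cfsg.Agent.Lib.Block.IndexFour.Moved
import Cfsg.Agent.Lib.Block.IndexFour.InSubgroup
import Cfsg.Agent.Lib.Block.IndexFour.InvertingCount
import Cfsg.Agent.Lib.Block.IndexFour.CentralRank

/-!
# Blocks with the family as defect group have rank at most four
-/

open Finset MonoidAlgebra

set_option autoImplicit false
set_option linter.unusedSectionVars false

namespace CfsgLib.Block.IndexFour

open Cfsg CfsgLib CfsgLib.Block
open scoped Pair

universe u

variable {M : Ideal AlgInt} [M.IsMaximal] {G : Type u} [Group G] [Fintype G] [DecidableEq G]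
  [Fintype (IrrCharacter G)] {P A : Subgroup G} {c a x : G} {h : ℕ} {e : Set (IrrCharacter (CQ P))}
  {B : Set (IrrCharacter G)} (D : IFPres P A c a x h)
include D

/-- `a` replaced by `c ^ h * a`. -/
theorem IFPres.swap : IFPres P A c (c ^ h * a) x h where
  pow2 := D.pow2
  le := D.le
  memc := D.memc
  mema := mul_mem D.q_mem D.mema
  memx := D.memx
  notA := D.notA
  card := D.card
  cardA := D.cardA
  comm := D.comm
  orderc := D.orderc
  sqa := by
    rw [mul_assoc, ← mul_assoc a (c ^ h) a, (D.comm a D.mema _ D.q_mem).eq,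
      mul_assoc (c ^ h) a a, D.sqa, mul_one, D.q_sq]
  nota := fun hm => D.nota (by
    have := mul_mem (inv_mem (Subgroup.npow_mem_zpowers c h)) hm
    rwa [inv_mul_cancel_left] at this)
  centa := (D.central_of_sq D.q_mem D.q_sq D.memx).mul_right D.centa
  fix := D.fix
  sq_out := D.sq_out

/-- The subsection at `a` when an element centralizing `a` moves `c ^ h` out of `A`. -/
theorem two_le_rank_moved (hM : IsPModular 2 M) (hmax : IsMaximalBrauerPair 2 M B P e)
    (hout : ∀ v ∈ P, v ∉ A → v * v = 1) {R : Subgroup G} {f : Set (IrrCharacter (CQ R))} {g : G}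
    (hf : SubpairLE 2 M R f P e) (hgN : g ∈ Subgroup.normalizer (R : Set G))
    (hgS : StabilizesBlock (CQ R) f g) (haR : a ∈ R) (hga : Commute g a) (hqR : c ^ h ∈ R)
    (hgq : g * c ^ h * g⁻¹ ∉ A) {y : P} (hy : (y : G) = a) :
    2 ≤ blockRank 2 (lowPair hM hmax.1.1 y).2 := by
  classical
  obtain rfl : y = ⟨a, D.le D.mema⟩ := Subtype.ext hy
  set C := CQ (Subgroup.zpowers a) with hC
  obtain ⟨b, hb, hind, -, hPC, hdef⟩ := exists_major_lowPair hM hmax (y := ⟨a, D.le D.mema⟩)
    (Subgroup.mem_center_iff.mpr fun v => Subtype.ext (D.central_of_sq D.mema D.sqa v.2).eq)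
  simp only at hPC hdef hind
  rw [inf_eq_left.mpr hPC] at hdef
  have hle := lowPair_below hM hmax.1.1 ⟨a, D.le D.mema⟩
  rw [hb] at hle ⊢
  dsimp only
  obtain ⟨k, hk, hkP⟩ := SubpairLE.exists_nSub_mid hM hmax.1.1
    (hle : SubpairLE 2 M _ b P e) (SubpairLE.le hle) le_rfl
    (hPC.trans (centralizer_le_normalizer' _))
  obtain rfl : k = e := SubpairLE.eq_of_eq hM hkP
  haveI := Fintype.ofFinite (IrrCharacter (CQ (Subgroup.zpowers a)))
  have hCP : CQ P ≤ CQ (Subgroup.zpowers a) := cq_mono hk.le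
  have hmaxT : IsMaximalBrauerPair 2 M b (P.subgroupOf (CQ (Subgroup.zpowers a)))
      (irrEquiv (cqInT hCP hPC) '' k) :=
    isMaximal_of_defect hM hdef (isBrauerPairOf_inT hM hk.pairL.2 hk.pairL.2
      (fun t => (subgroupBlockCoeff_coe b t).symm) hCP hPC hk)
  have hRC : CQ R ≤ CQ (Subgroup.zpowers a) := cq_mono (Subgroup.zpowers_le.mpr haR)
  have hgC : g ∈ CQ (Subgroup.zpowers a) := mem_cq_zpowers_iff.mpr hga
  have hvP : g * c ^ h * g⁻¹ ∈ P :=
    SubpairLE.le hf ((Subgroup.mem_normalizer_iff.mp hgN _).mp hqR)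
  let u : P.subgroupOf (CQ (Subgroup.zpowers a)) :=
    ⟨⟨c ^ h, hPC (D.le D.q_mem)⟩, D.le D.q_mem⟩
  let v : P.subgroupOf (CQ (Subgroup.zpowers a)) := ⟨⟨g * c ^ h * g⁻¹, hPC hvP⟩, hvP⟩
  have hfus := fused_inT hM hPC hCP hRC hmaxT hf
    (isBrauerPair_of_below hM hmax.1.1 hf).2 hgC hgN hgS (u := u) (v := v) hqR rfl
  have hne := not_rank_one_of_fused (D.toSub hPC) hM hmaxT
    (fun t ht htA => Subtype.ext (hout _ ht htA)) (fun t => Subtype.ext (mem_cq_zpowers_iff.mp t.2).eq)
    (y₀ := u) (v := v) rfl hgq hfus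
  have h1 := FreeInertial.one_le_blockRank (p := 2) (by norm_num) (isPBlock_nonempty hind.1)
  omega

open scoped Classical in
/-- The rank is at most four. -/
theorem rank_le_four (hM : IsPModular 2 M) (hmax : IsMaximalBrauerPair 2 M B P e) :
    blockRank 2 B ≤ 4 := by
  have h4 := four_card_le D hM hmax
  obtain ⟨T, hTc, h1T, hTA, hTsq, hTu⟩ := exists_reps D hM hmax
  -- one more element outside `A`
  have hextra : ∀ v : P, (v : G) ∉ A → (∀ y ∈ T, v ∉ fusClass hM hmax.1.1 y) →
      blockRank 2 B + (2 * h + 2) ≤ Nat.card B := by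
    intro v hvA hv
    have hvT : v ∉ T := fun hm => hvA (hTA v hm)
    have h1 : (1 : P) ∉ insert v T := by
      rw [Finset.mem_insert, not_or]
      exact ⟨fun e' => hvA (by rw [← e']; exact one_mem A), h1T⟩
    refine le_trans (Nat.add_le_add_left ?_ _) (rank_add_le D hM hmax h1 ?_)
    · rw [Finset.card_insert_of_notMem hvT]; omega
    · intro y hy z hz hf
      rcases Finset.mem_insert.mp hy with hy' | hy' <;> rcases Finset.mem_insert.mp hz with hz' | hz'
      · rw [hy', hz']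
      · subst hy'
        refine absurd ?_ (hv z hz')
        rw [fusClass_eq_of_mem hM hmax.1.1 hf]
        exact self_mem_fusClass hM hmax.1.1 y
      · subst hz'
        exact absurd hf (hv y hy')
      · exact hTu y hy' z hz' hf
  by_cases hout : ∀ v ∈ P, v ∉ A → v * v = 1
  · have hK := k0_le_eight_inverting D hM hmax hout
    by_cases hnew : ∃ v : P, (v : G) ∉ A ∧ ∀ y ∈ T, v ∉ fusClass hM hmax.1.1 y
    · obtain ⟨v, hvA, hv⟩ := hnew
      have := hextra v hvA hv
      omega
    push Not at hnew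
    obtain ⟨y, hy, hfy⟩ := hnew ⟨x, D.memx⟩ D.notA
    obtain ⟨R, f, g, w, hf, hgN, hgS, hw, hwR, hgw, hqR, hgq⟩ :=
      exists_moved D hM hmax hout ⟨⟨x, D.memx⟩, y, D.notA, hTA y hy, hfy⟩
    obtain ⟨wP, hwP, hwPA, hwP2, hwP1, hwl⟩ : ∃ wP : P, (wP : G) = w ∧ (wP : G) ∈ A ∧
        (wP : G) * (wP : G) = 1 ∧ wP ≠ 1 ∧ 2 ≤ blockRank 2 (lowPair hM hmax.1.1 wP).2 := by
      rcases hw with rfl | rfl
      · exact ⟨⟨w, D.le D.mema⟩, rfl, D.mema, D.sqa, fun e' => D.a_ne (congrArg Subtype.val e'),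
          two_le_rank_moved D hM hmax hout hf hgN hgS hwR hgw hqR hgq rfl⟩
      · exact ⟨⟨c ^ h * a, D.le D.swap.mema⟩, rfl, D.swap.mema, D.swap.sqa,
          fun e' => D.qa_ne (congrArg Subtype.val e'),
          two_le_rank_moved D.swap hM hmax hout hf hgN hgS hwR hgw hqR hgq rfl⟩
    have hwT : wP ∈ T := hTsq wP hwPA hwP2 hwP1
    have hsum : T.card + 1 ≤ ∑ y ∈ T, blockRank 2 (lowPair hM hmax.1.1 y).2 := by
      rw [← Finset.add_sum_erase _ _ hwT]
      have h2 : (T.erase wP).card ≤ ∑ y ∈ T.erase wP, blockRank 2 (lowPair hM hmax.1.1 y).2 := by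
        rw [Finset.card_eq_sum_ones]
        refine Finset.sum_le_sum fun y _ => ?_
        haveI := Fintype.ofFinite (IrrCharacter (CQ (lowPair hM hmax.1.1 y).1))
        exact FreeInertial.one_le_blockRank (by norm_num)
          (isPBlock_nonempty (lowPair_pairOf hM hmax y).1.2)
      rw [Finset.card_erase_of_mem hwT] at h2
      omega
    have := rank_add_sum_le hM hmax T h1T hTu
    omega
  · push Not at hout
    obtain ⟨v, hv, hvA, hv2⟩ := hout
    have hK := k0_le_eight_out4 D hM hmax (v := ⟨v, hv⟩) hvA hv2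
    have := hextra ⟨v, hv⟩ hvA fun y hy => not_fused_out D hM hmax hvA hv2 (hTA y hy)
    omega

end CfsgLib.Block.IndexFour
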