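import Cfsg.Agent.Lib.Block.QuotientDefect
import Cfsg.Agent.Lib.Block.NormalPQuot
import Cfsg.Agent.Lib.Block.CentralQuot
import Cfsg.Agent.Lib.Block.HeightCenter

/-!
# A major subsection and the block below it modulo its element

At a central element `u` of a defect group `P` the block `b_u` has the rank of a block of `C(u) / ⟨u⟩`
with defect group `P / ⟨u⟩`.
-/

open Finset MonoidAlgebra
open scoped ComplexConjugate

set_option autoImplicit false
set_option linter.unusedSectionVars false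

namespace CfsgLib.Block.IndexFour

open Cfsg CfsgLib CfsgLib.Block
open scoped Pair

universe u

variable {p : ℕ} [Fact p.Prime] {M : Ideal AlgInt} [M.IsMaximal] {G : Type u} [Group G] [Fintype G]
  [DecidableEq G] [Fintype (IrrCharacter G)] {P : Subgroup G} {e : Set (IrrCharacter (CQ P))}

open scoped Classical in
/-- The major subsection at a central element and the block of its quotient. -/
theorem exists_quot_block (hM : IsPModular p M) {B : Set (IrrCharacter G)}
    (hmax : IsMaximalBrauerPair p M B P e) {y : P} (hy : y ∈ Subgroup.center P) :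
    ∃ (b : Set (IrrCharacter (CQ (Subgroup.zpowers (y : G)))))
      (hPC : P ≤ CQ (Subgroup.zpowers (y : G)))
      (Z₀ : Subgroup (CQ (Subgroup.zpowers (y : G)))) (_ : Z₀.Normal),
      lowPair hM hmax.1.1 y = ⟨Subgroup.zpowers (y : G), b⟩ ∧
      IsInducedBlock M (CQ (Subgroup.zpowers (y : G))) b B ∧ blockDefect p b = blockDefect p B ∧
      IsDefectGroup p M b (P.subgroupOf (CQ (Subgroup.zpowers (y : G)))) ∧
      (∀ x : CQ (Subgroup.zpowers (y : G)), x ∈ Z₀ ↔ (x : G) ∈ Subgroup.zpowers (y : G)) ∧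
      IsPBlock M (quotSet Z₀ b) ∧
      IsDefectGroup p M (quotSet Z₀ b)
        ((P.subgroupOf (CQ (Subgroup.zpowers (y : G)))).map (QuotientGroup.mk' Z₀)) ∧
      blockRank p b = blockRank p (quotSet Z₀ b) := by
  obtain ⟨b, hlb, hind, hd, hPC, hbD⟩ := exists_major_lowPair hM hmax hy
  rw [inf_eq_left.mpr hPC] at hbD
  have hbl : IsPBlock M b := hind.1
  let y' : (CQ (Subgroup.zpowers (y : G))) := ⟨(y : G), hPC y.2⟩
  have hZc : Subgroup.zpowers y' ≤ Subgroup.center (CQ (Subgroup.zpowers (y : G))) :=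
    Subgroup.zpowers_le.mpr (Subgroup.mem_center_iff.mpr fun t =>
      Subtype.ext (Subgroup.mem_centralizer_iff.mp t.2 (y : G) (Subgroup.mem_zpowers _)).symm)
  have hN : (Subgroup.zpowers y').Normal := ⟨fun a ha g => by
    rwa [Subgroup.mem_center_iff.mp (hZc ha) g, mul_inv_cancel_right]⟩
  have hZp : IsPGroup p (Subgroup.zpowers y') :=
    (isPGroup_defectGroup hM hbl hbD).to_le (Subgroup.zpowers_le.mpr y.2)
  haveI := Fintype.ofFinite ((CQ (Subgroup.zpowers (y : G))) ⧸ Subgroup.zpowers y')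
  haveI := Fintype.ofFinite (IrrCharacter (CQ (Subgroup.zpowers (y : G))))
  obtain ⟨Bbar, hBbar, hsub, hdg⟩ :=
    QuotientDefect.exists_image_block (N := Subgroup.zpowers y') hM hZp hbl
  obtain ⟨θ, hθ⟩ := isPBlock_nonempty hBbar
  have hq : IsPBlock M (quotSet (Subgroup.zpowers y') b) :=
    isPBlock_quotSet hM hZp hZc hbl ⟨θ, hsub θ hθ⟩
  have hBq : Bbar = quotSet (Subgroup.zpowers y') b :=
    isPBlock_eq_of_mem hBbar hq hθ (hsub θ hθ)
  refine ⟨b, hPC, Subgroup.zpowers y', hN, hlb, hind, hd, hbD, fun x => ?_, hq, ?_, ?_⟩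
  · rw [Subgroup.mem_zpowers_iff, Subgroup.mem_zpowers_iff]
    exact exists_congr fun k => ⟨fun h => by rw [← h]; simp [y'],
      fun h => Subtype.ext (by simpa [y'] using h)⟩
  · rw [← hBq, hdg]
    exact ⟨_, hbD, rfl⟩
  · exact NormalPQuot.blockRank_quotSet hM hZp
      (fun w _ => Subgroup.mem_centralizer_iff.mpr fun z hz =>
        (Subgroup.mem_center_iff.mp (hZc hz) w).symm) hbl

/-- The projection of the defect group onto that of the quotient block. -/
def quotHom {C : Subgroup G} (hPC : P ≤ C) (Z₀ : Subgroup C) [Z₀.Normal] : P →* C ⧸ Z₀ :=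
  (QuotientGroup.mk' Z₀).comp (Subgroup.inclusion hPC)

theorem range_quotHom {C : Subgroup G} (hPC : P ≤ C) (Z₀ : Subgroup C) [Z₀.Normal] :
    (quotHom hPC Z₀).range = (P.subgroupOf C).map (QuotientGroup.mk' Z₀) := by
  ext q
  constructor
  · rintro ⟨v, rfl⟩
    exact ⟨Subgroup.inclusion hPC v, v.2, rfl⟩
  · rintro ⟨v, hv, rfl⟩
    exact ⟨⟨(v : G), hv⟩, rfl⟩

theorem quotHom_eq_one {C : Subgroup G} (hPC : P ≤ C) {Z₀ : Subgroup C} [Z₀.Normal] {y : G}
    (hZ₀ : ∀ x : C, x ∈ Z₀ ↔ (x : G) ∈ Subgroup.zpowers y) {v : P} :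
    quotHom hPC Z₀ v = 1 ↔ (v : G) ∈ Subgroup.zpowers y := by
  rw [show quotHom hPC Z₀ v = QuotientGroup.mk (Subgroup.inclusion hPC v) from rfl,
    QuotientGroup.eq_one_iff, hZ₀]
  rfl

end CfsgLib.Block.IndexFour
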