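import Cfsg.Agent.Lib.Block.IndexFour.QuotImage
import Cfsg.Agent.Lib.Block.IndexFour.Quot
import Cfsg.Agent.Lib.Block.IndexFour.Count
import Cfsg.Agent.Lib.Block.IndexFour.FamilyRank
import Cfsg.Agent.Lib.Block.DyadicMajor

/-!
# Blocks whose defect group has a cyclic subgroup of index at most four
-/

open Finset MonoidAlgebra
open scoped ComplexConjugate

set_option autoImplicit false
set_option linter.unusedSectionVars false

namespace CfsgLib.Block.IndexFour

open Cfsg CfsgLib CfsgLib.Block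
open scoped Pair

universe u

variable {M : Ideal AlgInt} [M.IsMaximal] {G : Type u} [Group G] [Fintype G] [DecidableEq G]
  [Fintype (IrrCharacter G)] {B : Set (IrrCharacter G)}

/-- A major subsection of rank at most three. -/
theorem card_le_of_major_rank_three (hM : IsPModular 2 M) {C : Subgroup G} [Fintype C]
    [Fintype (IrrCharacter C)] {x : G} {k : ℕ} (hk : orderOf x = 2 ^ k)
    (hC : ∀ t : G, t ∈ C ↔ Commute t x) {b : Set (IrrCharacter C)}
    (hb : IsInducedBlock M C b B) (hd : blockDefect 2 b = blockDefect 2 B)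
    (hl : blockRank 2 b ≤ 3) : Nat.card B ≤ 2 ^ blockDefect 2 B := by
  classical
  obtain ⟨A, S, hS0, hSsymm, hA0, hrow, hsum, hodd, hS1, hmaj⟩ := exists_avg_matrix hM hk hC hb
  rw [hd] at hrow hsum
  obtain ⟨χ₀, hχ₀, h00⟩ := exists_height_zero hM hb.2.1
  have hR0 : ∀ χ ∈ B, ∀ ψ ∈ B, blockHeight 2 B (χ : G → ℂ) = 0 →
      (4 : ℤ) ^ blockHeight 2 B (ψ : G → ℂ) ≤ S χ ψ := by
    intro χ hχ ψ hψ h0
    rcases Nat.eq_zero_or_pos (blockHeight 2 B (ψ : G → ℂ)) with h1 | h1
    · rw [h1, pow_zero]; exact hS1 χ hχ ψ hψ h0 h1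
    · rw [hSsymm]; exact (hmaj hd ψ hψ h1).2 χ hχ h0
  have h := two_major_count_nat (two_major_count (Finset.univ.filter (· ∈ B))
    (fun χ => blockHeight 2 B (χ : G → ℂ)) A S hS0
    (fun i hi => hrow i (Finset.mem_filter.mp hi).2)
    (fun i hi => hodd i (Finset.mem_filter.mp hi).2) (fun i _ => hA0 i) (fun i hi hpos => ?_)
    (fun i hi j hj => hR0 i (Finset.mem_filter.mp hi).2 j (Finset.mem_filter.mp hj).2)
    (q := (2 : ℤ) ^ blockDefect 2 B) ?_)
  · omega
  · have hiB := (Finset.mem_filter.mp hi).2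
    refine ⟨(hmaj hd i hiB hpos).1, fun hzero => ?_⟩
    have h1 := hrow i hiB
    have h2 := Finset.single_le_sum (f := fun ψ => S i ψ)
      (s := (Finset.univ.filter (· ∈ B)).erase i) (fun ψ _ => hS0 i ψ) (a := χ₀)
      (Finset.mem_erase.mpr ⟨fun e => by rw [e] at h00; omega, by simp [hχ₀]⟩)
    have h3 := (hmaj hd i hiB hpos).2 χ₀ hχ₀ h00
    have h4 : (0 : ℤ) < 4 ^ blockHeight 2 B (i : G → ℂ) := by positivity
    rw [hzero] at h1
    omega
  · rw [hsum, mul_comm (3 : ℤ)]
    exact mul_le_mul_of_nonneg_left (by exact_mod_cast hl) (by positivity)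

variable {D : Subgroup G} {e : Set (IrrCharacter (CQ D))}

/-- The members of height zero when the elements of largest order are self-centralizing. -/
theorem k0_le_order (hM : IsPModular 2 M) (hmax : IsMaximalBrauerPair 2 M B D e) {c : G} {m : ℕ}
    (S : IndexFour D c m)
    (hall : ∀ v ∈ D, orderOf v = 2 * 2 ^ m → ∀ w ∈ D, Commute w v → w ∈ Subgroup.zpowers v) :
    Nat.card {χ : IrrCharacter G // χ ∈ B ∧ blockHeight 2 B (χ : G → ℂ) = 0} ≤ 2 * 2 ^ m := by
  classical
  set v : D := ⟨c, S.mem⟩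
  have hcen : ∀ w : G, w ∈ D → orderOf w = 2 * 2 ^ m →
      D ⊓ Subgroup.centralizer ({w} : Set G) = Subgroup.zpowers w := by
    intro w hw ho
    ext z
    rw [Subgroup.mem_inf, Subgroup.mem_centralizer_singleton_iff]
    refine ⟨fun ⟨hz, hzw⟩ => hall w hw ho z hz hzw, fun hz => ⟨Subgroup.zpowers_le.mpr hw hz, ?_⟩⟩
    obtain ⟨i, rfl⟩ := Subgroup.mem_zpowers_iff.mp hz
    exact (Commute.zpow_self w i).eq
  obtain ⟨b, hb⟩ := exists_eq_pairMk (a := lowPair hM hmax.1.1 v)
    (Q := Subgroup.zpowers (v : G)) rfl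
  have hdef := defect_low hM hmax v fun w hw => by
    obtain ⟨g, hg, -⟩ := (mem_fusClass hM hmax.1.1).mp hw
    have how : orderOf (w : G) = 2 * 2 ^ m := by
      rw [← hg, ← S.order]
      exact (orderOf_injective (MulAut.conj g).toMonoidHom (MulAut.conj g).injective (v : G))
    rw [hcen _ w.2 how, hcen _ v.2 S.order, Nat.card_zpowers, Nat.card_zpowers, how]
    exact le_of_eq S.order.symm
  have hpair := lowPair_pairOf hM hmax v
  rw [hb] at hdef hpair
  dsimp only at hdef hpair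
  haveI := Fintype.ofFinite (IrrCharacter (CQ (Subgroup.zpowers (v : G))))
  obtain ⟨e', hmax'⟩ := exists_maximalPair_at hM hpair.1.2 hdef
  have hmem : ∀ u : G, u ∈ D ⊓ CQ (Subgroup.zpowers (v : G)) → u ∈ Subgroup.zpowers c := fun u hu =>
    hall c S.mem S.order u hu.1 (mem_cq_zpowers_iff.mp hu.2)
  have hqC : c ^ (2 ^ m) ∈ CQ (Subgroup.zpowers (v : G)) :=
    mem_cq_zpowers_iff.mpr (Commute.pow_self c _)
  have hnil : IsNilpotentBlock 2 M b := by
    refine isNilpotentBlock_abelian hM hmax' ?_ (s := ({1, c ^ (2 ^ m)} : Finset G).subtype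
      (· ∈ CQ (Subgroup.zpowers (v : G)))) (fun t ht h2 => Finset.mem_subtype.mpr (by
        simpa using S.sq_one (hmem _ ht) (congrArg Subtype.val h2)))
      (le_trans (by rw [Finset.card_subtype]; exact Finset.card_filter_le _ _)
        (le_trans Finset.card_le_two (by norm_num)))
      (z := ⟨c ^ (2 ^ m), hqC⟩) ⟨pow_mem S.mem _, hqC⟩ (fun e' => S.q_ne (congrArg Subtype.val e'))
      (Subtype.ext S.q_sq) ?_
    · intro a ha w hw
      refine Subtype.ext ?_
      show Commute (a : G) (w : G)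
      obtain ⟨i, hi⟩ := mem_powers_iff_mem_zpowers.mpr (hmem _ ha)
      obtain ⟨j, hj⟩ := mem_powers_iff_mem_zpowers.mpr (hmem _ hw)
      have hi' : c ^ i = (a : G) := hi
      have hj' : c ^ j = (w : G) := hj
      rw [← hi', ← hj']
      exact Commute.pow_pow_self c i j
    · intro g
      exact Subtype.ext ((mem_cq_zpowers_iff.mp g.2).pow_right (2 ^ m)).eq
  have h1 := (rank_one_count hM (exists_pElement_orderOf hmax.1.1 v hM.1).choose_spec
    (fun t => mem_cq_zpowers_iff) ((isBrauerPairOf_zpowers_iff hM hmax.1.2.1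
      (exists_pElement_orderOf hmax.1.1 v hM.1)).mp hpair) (rank_eq_one_of_nilpotent hM hnil)).1
  rw [← defectGroup_card hM hpair.1.2 hdef, card_subgroupOf_inf, Subgroup.zpowers_eq_closure,
    Subgroup.centralizer_closure, hcen _ v.2 S.order, Nat.card_zpowers] at h1
  exact h1.trans (le_of_eq S.order)

/-- The bound. -/
theorem card_le_defectGroup (hM : IsPModular 2 M) (hB : IsPBlock M B) (hD : IsDefectGroup 2 M B D)
    {C : Subgroup G} (hCD : C ≤ D) (hcyc : IsCyclic C) (hidx : C.relIndex D ≤ 4) :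
    Nat.card B ≤ Nat.card D := by
  classical
  have hpf : Fact (Nat.Prime 2) := ⟨hM.1⟩
  have hP := isPGroup_defectGroup hM hB hD
  have hcard := defectGroup_card hM hB hD
  obtain ⟨e, hmax⟩ := exists_maximalPair_at hM hB hD
  rw [hcard]
  have hsmall : CentralSmall D → Nat.card B ≤ 2 ^ blockDefect 2 B := by
    rintro ⟨u, hu, huc, hS⟩
    obtain ⟨b, hPC, Z, hN, -, hind, hd, -, hZ, hq, hdq, hrank⟩ :=
      exists_quot_block hM hmax (y := ⟨u, hu⟩)
        (Subgroup.mem_center_iff.mpr fun v => Subtype.ext (huc v v.2).eq)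
    obtain ⟨k, hk⟩ := exists_pElement_orderOf hmax.1.1 ⟨u, hu⟩ hM.1
    haveI := Fintype.ofFinite (CQ (Subgroup.zpowers u) ⧸ Z)
    haveI := Fintype.ofFinite (IrrCharacter (CQ (Subgroup.zpowers u) ⧸ Z))
    haveI := Fintype.ofFinite (IrrCharacter (CQ (Subgroup.zpowers u)))
    exact card_le_of_major_rank_three hM hk (fun t => mem_cq_zpowers_iff) hind hd
      (hrank.le.trans (rank_le_three_image hPC hM hq hdq hu hZ hS))
  rcases exists_indexFour hP hCD hcyc hidx with hA | ⟨c, m, S⟩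
  · exact hsmall hA
  rcases S.classify with hA | ⟨hall, a, x, N, k, F⟩
  · exact hsmall hA
  set u := c ^ (2 * 2 ^ k) with hu
  have huD : u ∈ D := pow_mem S.mem _
  obtain ⟨b, hPC, Z, hN, -, hind, hd, -, hZ, hq, hdq, hrank⟩ :=
    exists_quot_block hM hmax (y := ⟨u, huD⟩)
      (Subgroup.mem_center_iff.mpr fun v => Subtype.ext (F.central v v.2).eq)
  obtain ⟨l, hl⟩ := exists_pElement_orderOf hmax.1.1 ⟨u, huD⟩ hM.1
  haveI := Fintype.ofFinite (CQ (Subgroup.zpowers u) ⧸ Z)
  haveI := Fintype.ofFinite (IrrCharacter (CQ (Subgroup.zpowers u) ⧸ Z))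
  haveI := Fintype.ofFinite (IrrCharacter (CQ (Subgroup.zpowers u)))
  obtain ⟨c', a', x', E⟩ := exists_ifPres_image hPC S F hZ
  obtain ⟨e', hmax'⟩ := exists_maximalPair_at hM hq hdq
  refine card_le_of_major_rank_four hM hl (fun t => mem_cq_zpowers_iff) hind hd
    (hrank.le.trans (rank_le_four E hM hmax')) ?_
  have hK := k0_le_order hM hmax S hall
  have h2 := hcard
  rw [S.card] at h2
  omega

end CfsgLib.Block.IndexFour
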