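import Cfsg.Agent.Lib.Block.IndexFour.SquareRoots
import Mathlib

/-!
# 2-groups with a cyclic subgroup of index four

`CentralSmall D`: modulo some central element the group `D` has a cyclic subgroup of index two or is
commutative with at most four elements of square one.
-/

open Finset

set_option autoImplicit false
set_option linter.unusedSectionVars false

namespace CfsgLib.Block.IndexFour

universe u

variable {G : Type u} [Group G]

/-- A quotient giving rank at most three. -/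
def SmallQuot (D : Subgroup G) (u : G) : Prop :=
  (∃ x ∈ D, Nat.card D ≤ 2 * Nat.card (Subgroup.zpowers x ⊔ Subgroup.zpowers u : Subgroup G)) ∨
    ((∀ a ∈ D, ∀ b ∈ D, a * b * a⁻¹ * b⁻¹ ∈ Subgroup.zpowers u) ∧
      ∃ s : Finset G, s.card ≤ 4 ∧ ∀ t ∈ D, t * t ∈ Subgroup.zpowers u →
        ∃ w ∈ s, w⁻¹ * t ∈ Subgroup.zpowers u)

/-- Some central element has a small quotient. -/
def CentralSmall (D : Subgroup G) : Prop :=
  ∃ u ∈ D, (∀ v ∈ D, Commute v u) ∧ SmallQuot D u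

/-- A cyclic subgroup of index at most two. -/
theorem centralSmall_of_large {D : Subgroup G} {x : G} (hx : x ∈ D)
    (hidx : Nat.card D ≤ 2 * orderOf x) : CentralSmall D :=
  ⟨1, one_mem D, fun v _ => Commute.one_right v, Or.inl ⟨x, hx, by
    rwa [Subgroup.zpowers_one_eq_bot, sup_bot_eq, Nat.card_zpowers]⟩⟩

/-- An element `c` of largest order, generating a subgroup of index four. -/
structure IndexFour (D : Subgroup G) (c : G) (m : ℕ) : Prop where
  pGroup : IsPGroup 2 D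
  mem : c ∈ D
  order : orderOf c = 2 * 2 ^ m
  card : Nat.card D = 4 * (2 * 2 ^ m)
  exp : ∀ v ∈ D, orderOf v ≤ 2 * 2 ^ m

namespace IndexFour

variable [Finite G] {D : Subgroup G} {c : G} {m : ℕ} (S : IndexFour D c m)
include S

theorem pow_eq_one {l : ℕ} : c ^ l = 1 ↔ 2 * 2 ^ m ∣ l := by
  rw [← S.order, orderOf_dvd_iff_pow_eq_one]

theorem pow_eq {a b : ℕ} : c ^ a = c ^ b ↔ a % (2 * 2 ^ m) = b % (2 * 2 ^ m) := by
  rw [pow_inj_mod, S.order]

theorem q_sq : c ^ (2 ^ m) * c ^ (2 ^ m) = 1 := by rw [← pow_add, S.pow_eq_one, two_mul]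

theorem q_ne : c ^ (2 ^ m) ≠ 1 := fun e => by
  have := Nat.le_of_dvd (Nat.two_pow_pos m) (S.pow_eq_one.mp e)
  have := Nat.two_pow_pos m
  omega

theorem sq_one {v : G} (hv : v ∈ Subgroup.zpowers c) (h2 : v * v = 1) :
    v = 1 ∨ v = c ^ (2 ^ m) := by
  obtain ⟨l, rfl⟩ := mem_powers_iff_mem_zpowers.mpr hv
  simp only at h2 ⊢
  rw [← pow_add, ← two_mul, S.pow_eq_one] at h2
  obtain ⟨k, rfl⟩ := Nat.dvd_of_mul_dvd_mul_left two_pos h2
  rcases Nat.even_or_odd' k with ⟨j, rfl | rfl⟩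
  · exact Or.inl (S.pow_eq_one.mpr ⟨j, by ring⟩)
  · exact Or.inr (by rw [mul_add, mul_one, pow_add, S.pow_eq_one.mpr ⟨j, by ring⟩, one_mul])

/-- A central element outside the cyclic subgroup. -/
theorem of_central {u : G} (hu : u ∈ D) (huc : ∀ v ∈ D, Commute v u)
    (hun : u ∉ Subgroup.zpowers c) : CentralSmall D := by
  refine ⟨u, hu, huc, Or.inl ⟨c, S.mem, ?_⟩⟩
  have hlt : Subgroup.zpowers c < Subgroup.zpowers c ⊔ Subgroup.zpowers u :=
    lt_of_le_of_ne le_sup_left fun e => hun (by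
      rw [e]; exact Subgroup.mem_sup_right (Subgroup.mem_zpowers u))
  obtain ⟨k, hk⟩ := Subgroup.card_dvd_of_le hlt.le
  rw [Nat.card_zpowers, S.order] at hk
  have h1 : k ≠ 1 := fun e => hlt.ne (Subgroup.eq_of_le_of_card_ge hlt.le (by
    rw [Nat.card_zpowers, S.order, hk, e, mul_one]))
  have h0 : k ≠ 0 := fun e => by rw [e, mul_zero] at hk; exact Nat.card_pos.ne' hk
  rw [S.card, hk, show 4 * (2 * 2 ^ m) = 2 * (2 * 2 ^ m * 2) by ring]
  exact Nat.mul_le_mul_left _ (Nat.mul_le_mul_left _ (by omega))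

/-- The cyclic subgroup central. -/
theorem of_gen_central (hc : ∀ v ∈ D, Commute v c) : CentralSmall D := by
  classical
  have hpf : Fact (Nat.Prime 2) := ⟨Nat.prime_two⟩
  set X := (Subgroup.zpowers c).subgroupOf D with hX
  have hN : X.Normal := ⟨fun a ha g => by
    have h1 : ((g * a * g⁻¹ : D) : G) = (a : G) := by
      obtain ⟨l, hl⟩ := mem_powers_iff_mem_zpowers.mpr (Subgroup.mem_subgroupOf.mp ha)
      have hl' : c ^ l = (a : G) := hl
      simp only [Subgroup.coe_mul, Subgroup.coe_inv, ← hl']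
      rw [((hc g g.2).pow_right l).eq, mul_inv_cancel_right]
    rw [Subtype.ext h1]
    exact ha⟩
  have hidx : Nat.card (D ⧸ X) = 2 ^ 2 := by
    have h1 := Subgroup.card_mul_index X
    rw [hX, Nat.card_congr (Subgroup.subgroupOfEquivOfLe (Subgroup.zpowers_le.mpr S.mem)).toEquiv,
      Nat.card_zpowers, S.order, S.card, mul_comm 4] at h1
    rw [← Subgroup.index_eq_card]
    exact Nat.eq_of_mul_eq_mul_left (by positivity) h1
  have hmem : ∀ w : D, (QuotientGroup.mk w : D ⧸ X) = 1 ↔ (w : G) ∈ Subgroup.zpowers c := fun w => by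
    rw [QuotientGroup.eq_one_iff]; rfl
  refine ⟨c, S.mem, hc, Or.inr ⟨fun a ha b hb => ?_, ?_⟩⟩
  · have h1 : (QuotientGroup.mk (⟨a, ha⟩ * ⟨b, hb⟩ * ⟨a, ha⟩⁻¹ * ⟨b, hb⟩⁻¹ : D) : D ⧸ X) = 1 := by
      rw [QuotientGroup.mk_mul, QuotientGroup.mk_mul, QuotientGroup.mk_mul, QuotientGroup.mk_inv,
        QuotientGroup.mk_inv, IsPGroup.commutative_of_card_eq_prime_sq hidx
          (QuotientGroup.mk ⟨a, ha⟩) (QuotientGroup.mk ⟨b, hb⟩),
        mul_inv_cancel_right, mul_inv_cancel]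
    simpa using (hmem _).mp h1
  · haveI := Fintype.ofFinite (D ⧸ X)
    refine ⟨Finset.univ.image fun q : D ⧸ X => ((q.out : D) : G),
      Finset.card_image_le.trans (by rw [Finset.card_univ, ← Nat.card_eq_fintype_card, hidx]; norm_num),
      fun t ht _ => ⟨_, Finset.mem_image_of_mem _ (Finset.mem_univ (QuotientGroup.mk ⟨t, ht⟩)), ?_⟩⟩
    have h1 : (QuotientGroup.mk ((QuotientGroup.mk ⟨t, ht⟩ : D ⧸ X).out⁻¹ * ⟨t, ht⟩) : D ⧸ X) = 1 := by
      rw [QuotientGroup.mk_mul, QuotientGroup.mk_inv, QuotientGroup.out_eq', inv_mul_cancel]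
    simpa using (hmem _).mp h1

/-- Exponent two. -/
theorem two_le (hc : ¬ ∀ v ∈ D, Commute v c) : 1 ≤ m := by
  by_contra hm
  have hm0 : m = 0 := by omega
  have hsq : ∀ v ∈ D, v * v = 1 := by
    intro v hv
    obtain ⟨k, hk⟩ := IsPGroup.iff_orderOf.mp S.pGroup ⟨v, hv⟩
    rw [Subgroup.orderOf_mk] at hk
    have h1 := S.exp v hv
    rw [hm0, hk] at h1
    have hk1 : k ≤ 1 := (Nat.pow_le_pow_iff_right (le_refl 2)).mp (by simpa using h1)
    rw [← pow_two, ← orderOf_dvd_iff_pow_eq_one, hk]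
    exact (pow_dvd_pow 2 hk1).trans (by norm_num)
  refine hc fun v hv => ?_
  have e1 := inv_eq_of_mul_eq_one_right (hsq v hv)
  have e2 := inv_eq_of_mul_eq_one_right (hsq c S.mem)
  have e3 := inv_eq_of_mul_eq_one_right (hsq _ (mul_mem hv S.mem))
  rw [mul_inv_rev, e1, e2] at e3
  exact e3.symm

end IndexFour

/-- The union of a cyclic subgroup and one further coset. -/
theorem exists_double [Finite G] {D : Subgroup G} {c a : G} (hc : c ∈ D) (ha : a ∈ D)
    (hac : a * c * a⁻¹ ∈ Subgroup.zpowers c) (haa : a * a ∈ Subgroup.zpowers c)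
    (han : a ∉ Subgroup.zpowers c) :
    ∃ M : Subgroup G, M ≤ D ∧ c ∈ M ∧ a ∈ M ∧ Nat.card M = 2 * orderOf c ∧
      ∀ v, v ∈ M ↔ ∃ l : ℕ, v = c ^ l ∨ v = a * c ^ l := by
  classical
  obtain ⟨i, hi⟩ := mem_powers_iff_mem_zpowers.mpr hac
  have hconj : ∀ l : ℕ, a * c ^ l = c ^ (i * l) * a := fun l => by
    have h1 : a * c ^ l * a⁻¹ = c ^ (i * l) := by rw [← conj_pow, ← hi, ← pow_mul]
    rw [← h1, inv_mul_cancel_right]
  obtain ⟨j, hj⟩ : ∃ j : ℕ, a * c = c ^ j * a := ⟨i, by simpa using hconj 1⟩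
  -- moving powers to the right
  have hright : ∀ l : ℕ, ∃ r : ℕ, c ^ l * a = a * c ^ r := by
    intro l
    obtain ⟨s, hs⟩ := mem_powers_iff_mem_zpowers.mpr haa
    have hs' : c ^ s = a * a := hs
    refine ⟨i * l, ?_⟩
    have h2 : a * (c ^ l * a) = a * (a * c ^ (i * l)) := by
      rw [← mul_assoc, hconj l, mul_assoc, ← hs', ← mul_assoc a a, ← hs', ← pow_add, ← pow_add, add_comm]
    exact mul_left_cancel h2
  have hmul : ∀ v w : G, (∃ l : ℕ, v = c ^ l ∨ v = a * c ^ l) → (∃ l : ℕ, w = c ^ l ∨ w = a * c ^ l) →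
      ∃ l : ℕ, v * w = c ^ l ∨ v * w = a * c ^ l := by
    rintro v w ⟨p, rfl | rfl⟩ ⟨q, rfl | rfl⟩
    · exact ⟨p + q, Or.inl (pow_add c p q).symm⟩
    · obtain ⟨r, hr⟩ := hright p
      exact ⟨r + q, Or.inr (by rw [← mul_assoc, hr, mul_assoc, ← pow_add])⟩
    · exact ⟨p + q, Or.inr (by rw [mul_assoc, ← pow_add])⟩
    · obtain ⟨r, hr⟩ := hright p
      obtain ⟨s, hs⟩ := mem_powers_iff_mem_zpowers.mpr haa
      have hs' : c ^ s = a * a := hs
      exact ⟨s + (r + q), Or.inl (by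
        rw [mul_assoc a (c ^ p), ← mul_assoc (c ^ p), hr, mul_assoc a (c ^ r), ← mul_assoc a a, ← hs',
          ← pow_add, ← pow_add])⟩
  let N : Submonoid G :=
    { carrier := {v | ∃ l : ℕ, v = c ^ l ∨ v = a * c ^ l}
      one_mem' := ⟨0, Or.inl (pow_zero c).symm⟩
      mul_mem' := fun {v w} hv hw => hmul v w hv hw }
  let M : Subgroup G :=
    { N with
      inv_mem' := fun {v} hv => by
        have h1 : v⁻¹ = v ^ (orderOf v - 1) := inv_eq_of_mul_eq_one_left (by
          rw [← pow_succ, Nat.sub_add_cancel (orderOf_pos v), pow_orderOf_eq_one])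
        show v⁻¹ ∈ N
        rw [h1]
        exact pow_mem (show v ∈ N from hv) _ }
  have hmemM : ∀ v, v ∈ M ↔ ∃ l : ℕ, v = c ^ l ∨ v = a * c ^ l := fun v => Iff.rfl
  refine ⟨M, fun v hv => ?_, ⟨1, Or.inl (pow_one c).symm⟩, ⟨0, Or.inr (by simp)⟩, ?_, hmemM⟩
  · obtain ⟨l, rfl | rfl⟩ := (hmemM v).mp hv
    exacts [pow_mem hc l, mul_mem ha (pow_mem hc l)]
  let f : Subgroup.zpowers c × Bool → M := fun s =>
    ⟨(if s.2 then a else 1) * (s.1 : G), mul_mem
      (by split_ifs; exacts [(hmemM a).mpr ⟨0, Or.inr (by simp)⟩, one_mem M])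
      (by obtain ⟨l, hl⟩ := mem_powers_iff_mem_zpowers.mpr s.1.2; exact (hmemM _).mpr ⟨l, Or.inl hl.symm⟩)⟩
  have hf : Function.Bijective f := by
    constructor
    · rintro ⟨p, s⟩ ⟨q, t⟩ e
      have e' : (if s then a else 1) * (p : G) = (if t then a else 1) * (q : G) := congrArg Subtype.val e
      cases s <;> cases t <;> simp at e'
      · rw [e']
      · exact absurd (by rw [eq_mul_inv_of_mul_eq e'.symm]; exact mul_mem p.2 (inv_mem q.2)) han
      · exact absurd (by rw [eq_mul_inv_of_mul_eq e']; exact mul_mem q.2 (inv_mem p.2)) han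
      · rw [e']
    · rintro ⟨v, hv⟩
      obtain ⟨l, rfl | rfl⟩ := (hmemM v).mp hv
      · exact ⟨(⟨c ^ l, Subgroup.npow_mem_zpowers c l⟩, false), by simp [f]⟩
      · exact ⟨(⟨c ^ l, Subgroup.npow_mem_zpowers c l⟩, true), by simp [f]⟩
  rw [← Nat.card_eq_of_bijective f hf, Nat.card_prod, Nat.card_zpowers, Nat.card_eq_fintype_card,
    Fintype.card_bool, mul_comm]

/-- Some element of square in the subgroup. -/
theorem exists_sq_mem {C : Subgroup G} : ∀ (k : ℕ) (w : G), w ^ (2 ^ k) ∈ C →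
    w ∈ C ∨ ∃ l : ℕ, w ^ l ∉ C ∧ w ^ l * w ^ l ∈ C := by
  intro k
  induction k with
  | zero => intro w hw; exact Or.inl (by simpa using hw)
  | succ k ih =>
    intro w hw
    by_cases h : w ^ (2 ^ k) ∈ C
    · exact ih w h
    · exact Or.inr ⟨2 ^ k, h, by rwa [← pow_add, ← two_mul, ← pow_succ']⟩

namespace IndexFour

variable [Finite G] {D : Subgroup G} {c : G} {m : ℕ} (S : IndexFour D c m)
include S

/-- An element outside `⟨c⟩` commuting with `c`. -/
theorem of_centralizer {w : G} (hw : w ∈ D) (hwc : Commute w c) (hwn : w ∉ Subgroup.zpowers c) :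
    CentralSmall D := by
  classical
  by_cases hcc : ∀ v ∈ D, Commute v c
  · exact S.of_gen_central hcc
  have hm := S.two_le hcc
  obtain ⟨k, hk⟩ := S.pGroup ⟨w, hw⟩
  have hk' : w ^ (2 ^ k) ∈ Subgroup.zpowers c := by
    rw [show w ^ (2 ^ k) = 1 from congrArg Subtype.val hk]; exact one_mem _
  obtain ⟨a, haD, hac, han, haa⟩ : ∃ a ∈ D, Commute a c ∧ a ∉ Subgroup.zpowers c ∧
      a * a = 1 := by
    rcases exists_sq_mem k w hk' with h | ⟨l, hl, hll⟩
    · exact absurd h hwn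
    obtain ⟨s, hs⟩ := mem_powers_iff_mem_zpowers.mpr hll
    have hs' : c ^ s = w ^ l * w ^ l := hs
    have hcl : Commute (w ^ l) c := hwc.pow_left l
    obtain ⟨t, rfl⟩ : 2 ∣ s := by
      by_contra hodd
      have h1 : orderOf (w ^ l * w ^ l) = 2 * 2 ^ m := by
        rw [← hs', Nat.Coprime.orderOf_pow, S.order]
        rw [S.order, ← pow_succ']
        exact Nat.Coprime.pow_left _ ((Nat.Prime.coprime_iff_not_dvd Nat.prime_two).mpr hodd)
      have h2 := S.exp _ (pow_mem hw l)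
      obtain ⟨j, hj⟩ := IsPGroup.iff_orderOf.mp S.pGroup ⟨w ^ l, pow_mem hw l⟩
      rw [Subgroup.orderOf_mk] at hj
      rcases j with _ | j
      · rw [pow_zero, orderOf_eq_one_iff] at hj
        exact hl (hj ▸ one_mem _)
      · rw [← pow_two, orderOf_pow, hj, pow_succ', Nat.gcd_mul_right_left,
          Nat.mul_div_cancel_left _ two_pos] at h1
        rw [hj, pow_succ', h1] at h2
        have := Nat.two_pow_pos m
        omega
    refine ⟨w ^ l * c ^ ((2 * 2 ^ m - 1) * t), mul_mem (pow_mem hw l) (pow_mem S.mem _),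
      hcl.mul_left (Commute.pow_self c _), fun e => hl ?_, ?_⟩
    · simpa using mul_mem e (inv_mem (Subgroup.npow_mem_zpowers c ((2 * 2 ^ m - 1) * t)))
    · rw [← pow_two, (hcl.pow_right _).mul_pow, pow_two, ← hs', ← pow_mul, ← pow_add, S.pow_eq_one]
      exact ⟨2 * t, by
        have := Nat.two_pow_pos m
        rw [mul_assoc (2 * 2 ^ m - 1), Nat.sub_one_mul, mul_comm t 2]
        have := Nat.le_mul_of_pos_left (2 * t) (show 0 < 2 * 2 ^ m by omega)
        omega⟩
  obtain ⟨M, hMD, hcM, haM, hMc, hmemM⟩ := exists_double S.mem haD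
    (by rw [hac.eq, mul_inv_cancel_right]; exact Subgroup.mem_zpowers c)
    (by rw [haa]; exact one_mem _) han
  have habM : ∀ v ∈ M, ∀ z ∈ M, Commute v z := by
    intro v hv z hz
    obtain ⟨p, rfl | rfl⟩ := (hmemM v).mp hv <;> obtain ⟨q, rfl | rfl⟩ := (hmemM z).mp hz
    exacts [Commute.pow_pow_self c p q,
      (hac.symm.pow_left p).mul_right (Commute.pow_pow_self c p q),
      (hac.pow_right q).mul_left (Commute.pow_pow_self c p q),
      ((Commute.refl a).mul_right (hac.pow_right q)).mul_left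
        ((hac.symm.pow_left p).mul_right (Commute.pow_pow_self c p q))]
  have hidx : (M.subgroupOf D).index = 2 := by
    have h1 := Subgroup.card_mul_index (M.subgroupOf D)
    rw [Nat.card_congr (Subgroup.subgroupOfEquivOfLe hMD).toEquiv, hMc, S.order, S.card] at h1
    exact Nat.eq_of_mul_eq_mul_left (show 0 < 2 * (2 * 2 ^ m) by positivity) (by rw [h1]; ring)
  obtain ⟨x, hx, hxM⟩ : ∃ x ∈ D, x ∉ M := by
    by_contra hall
    push Not at hall
    have := Subgroup.card_dvd_of_le (show D ≤ M from hall)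
    have h1 := Nat.le_of_dvd Nat.card_pos this
    rw [hMc, S.order, S.card] at h1
    have := Nat.two_pow_pos m
    omega
  have hnorm := Subgroup.normal_of_index_eq_two hidx
  have hconjM : ∀ v ∈ M, x * v * x⁻¹ ∈ M := fun v hv => by
    simpa using Subgroup.mem_subgroupOf.mp (hnorm.conj_mem ⟨v, hMD hv⟩ (by exact hv) ⟨x, hx⟩)
  -- an element of `M` fixed by `x` is central
  have hcentral : ∀ v ∈ M, x * v * x⁻¹ = v → ∀ z ∈ D, Commute z v := by
    intro v hv hfix z hz
    have hxv : Commute x v := mul_inv_eq_iff_eq_mul.mp hfix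
    by_cases hzM : z ∈ M
    · exact habM z hzM v hv
    · have h1 : x⁻¹ * z ∈ M := by
        have h := Subgroup.mul_mem_iff_of_index_two hidx (a := (⟨x⁻¹, inv_mem hx⟩ : D)) (b := ⟨z, hz⟩)
        simp only [Subgroup.mem_subgroupOf, Subgroup.coe_mul, inv_mem_iff] at h
        exact h.mpr (by simp [hxM, hzM])
      rw [show z = x * (x⁻¹ * z) by rw [mul_inv_cancel_left]]
      exact hxv.mul_left (habM _ h1 v hv)
  set h := 2 ^ m with hh
  obtain ⟨i, hi⟩ := (hmemM _).mp (hconjM c hcM)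
  obtain ⟨g, hg⟩ : 2 ∣ h := hh ▸ dvd_pow_self 2 (by omega)
  -- the image of `a`
  have hq2 : ∃ p : ℕ, x * c ^ h * x⁻¹ = c ^ p := by
    refine ⟨i * h, ?_⟩
    rcases hi with e | e
    · rw [← conj_pow, e, ← pow_mul]
    · rw [← conj_pow, e, (hac.pow_right i).mul_pow, hg, pow_mul, pow_two, haa, one_pow, one_mul,
        ← pow_mul]
  have hxa : x * a * x⁻¹ = a * c ^ h ∨ x * a * x⁻¹ = a := by
    have h2 : x * a * x⁻¹ * (x * a * x⁻¹) = 1 := by
      rw [show x * a * x⁻¹ * (x * a * x⁻¹) = x * (a * a) * x⁻¹ by group, haa, mul_one, mul_inv_cancel]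
    obtain ⟨l, hl | hl⟩ := (hmemM _).mp (hconjM a haM)
    · exfalso
      rw [hl] at h2
      rcases S.sq_one (Subgroup.npow_mem_zpowers c l) h2 with e | e <;> rw [e] at hl
      · exact han (by rw [conj_eq_one_iff.mp hl]; exact one_mem _)
      · obtain ⟨p, hp⟩ := hq2
        have h3 : c ^ p * c ^ p = 1 := by
          rw [← hp, show x * c ^ h * x⁻¹ * (x * c ^ h * x⁻¹) = x * (c ^ h * c ^ h) * x⁻¹ by group,
            S.q_sq, mul_one, mul_inv_cancel]
        rcases S.sq_one (Subgroup.npow_mem_zpowers c p) h3 with e' | e' <;> rw [e'] at hp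
        · exact S.q_ne (conj_eq_one_iff.mp hp)
        · have := conj_injective (hl.trans hp.symm)
          exact han (this ▸ Subgroup.npow_mem_zpowers c h)
    · rw [hl, ← pow_two, (hac.pow_right l).mul_pow, pow_two, haa, one_mul, pow_two] at h2
      rcases S.sq_one (Subgroup.npow_mem_zpowers c l) h2 with e | e <;> rw [hl, e]
      · exact Or.inr (mul_one a)
      · exact Or.inl rfl
  rcases hxa with hxa | hxa
  swap
  · exact S.of_central haD (hcentral a haM hxa) han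
  -- `c ^ r * a` fixed by `x`
  suffices h : ∃ r : ℕ, x * (c ^ r * a) * x⁻¹ = c ^ r * a ∨ Commute x c by
    obtain ⟨r, hr | hr⟩ := h
    · refine S.of_central (mul_mem (pow_mem S.mem r) haD)
        (hcentral _ (mul_mem (pow_mem hcM r) haM) hr) fun e => han ?_
      simpa using mul_mem (inv_mem (Subgroup.npow_mem_zpowers c r)) e
    · exact S.of_gen_central (hcentral c hcM (by rw [hr.eq, mul_inv_cancel_right]))
  have hxa' : ∀ r : ℕ, x * (c ^ r * a) * x⁻¹ = (x * c * x⁻¹) ^ r * (a * c ^ h) := fun r => by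
    rw [conj_pow, ← hxa]; group
  have hxx : x * x ∈ M := by
    have h := Subgroup.mul_mem_iff_of_index_two hidx (a := (⟨x, hx⟩ : D)) (b := ⟨x, hx⟩)
    simpa [Subgroup.mem_subgroupOf] using h
  have hxxc : x * (x * c * x⁻¹) * x⁻¹ = c := by
    rw [show x * (x * c * x⁻¹) * x⁻¹ = x * x * c * (x * x)⁻¹ by group, (habM _ hxx c hcM).eq,
      mul_inv_cancel_right]
  rcases hi with e | e
  · -- `⟨c⟩` normal
    have hi2 : (i * i) % (2 ^ (m + 1)) = 1 := by
      have h1 : c ^ (i * i) = c ^ 1 := by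
        conv_rhs => rw [pow_one, ← hxxc, e, ← conj_pow, e, ← pow_mul]
      rw [S.pow_eq] at h1
      rw [pow_succ', h1, Nat.mod_eq_of_lt (by have := Nat.two_pow_pos m; omega)]
    have hfix : ∀ r : ℕ, ((2 * h : ℕ) : ℤ) ∣ ((i * r + h : ℕ) : ℤ) - (r : ℕ) →
        x * (c ^ r * a) * x⁻¹ = c ^ r * a := by
      intro r hr
      rw [hxa' r, e, ← pow_mul, (hac.pow_right h).eq, ← mul_assoc, ← pow_add,
        (S.pow_eq).mpr (Nat.modEq_iff_dvd.mpr hr).symm]
    have hcent : i % (2 * h) = 1 → Commute x c := fun hc => mul_inv_eq_iff_eq_mul.mp (by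
      rw [e]
      conv_rhs => rw [← pow_one c]
      rw [S.pow_eq, hc, Nat.mod_eq_of_lt (by omega)])
    have hdiv : ∀ t : ℕ, i % (2 * h) = t → ∃ q : ℕ, (i : ℤ) = 2 * h * q + t := fun t ht => ⟨i / (2 * h), by
      have := Nat.div_add_mod i (2 * h)
      rw [ht] at this
      exact_mod_cast this.symm⟩
    rcases sq_one_mod hm hi2 with hc | hc | hc | hc <;> rw [pow_succ', ← hh] at hc
    · exact ⟨0, Or.inr (hcent hc)⟩
    · refine ⟨g, Or.inl (hfix g ?_)⟩
      obtain ⟨q, hq⟩ := hdiv _ hc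
      rw [Nat.cast_sub (by omega)] at hq
      push_cast at hq ⊢
      refine ⟨(g : ℤ) * (q + 1), ?_⟩
      have hg' : (h : ℤ) = 2 * g := by exact_mod_cast hg
      linear_combination (g : ℤ) * hq + hg'
    · refine ⟨1, Or.inl (hfix 1 ?_)⟩
      obtain ⟨q, hq⟩ := hdiv _ hc
      push_cast at hq ⊢
      exact ⟨q + 1, by linear_combination hq⟩
    · by_cases hm2 : 2 ≤ m
      · refine ⟨g, Or.inl (hfix g ?_)⟩
        obtain ⟨q, hq⟩ := hdiv _ hc
        obtain ⟨f, hf⟩ : 4 ∣ h := by rw [hh]; exact pow_dvd_pow 2 hm2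
        rw [Nat.cast_sub (by omega)] at hq
        push_cast at hq ⊢
        have hg' : (h : ℤ) = 2 * g := by exact_mod_cast hg
        have hgf : (g : ℤ) = 2 * f := by
          have : (h : ℤ) = 4 * f := by exact_mod_cast hf
          linarith
        exact ⟨(f : ℤ) * (2 * q + 1), by linear_combination (g : ℤ) * hq + hg' + (h : ℤ) * (2 * q + 1) * hgf⟩
      · exact ⟨0, Or.inr (hcent (by
          have : h = 2 := by rw [hh, show m = 1 by omega, pow_one]
          omega))⟩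
  · -- `⟨c⟩` not normal
    have hodd : i % 2 = 1 := by
      by_contra hev
      obtain ⟨j, rfl⟩ : ∃ j, i = 2 * j := ⟨i / 2, by omega⟩
      have h1 : (x * c * x⁻¹) ^ h = 1 := by
        rw [e, (hac.pow_right (2 * j)).mul_pow, hg, pow_mul, pow_two, haa, one_pow, one_mul, ← hg,
          ← pow_mul, S.pow_eq_one]
        exact ⟨j, by ring⟩
      rw [conj_pow, conj_eq_one_iff] at h1
      exact S.q_ne h1
    obtain ⟨j, rfl⟩ : ∃ j, i = 2 * j + 1 := ⟨i / 2, by omega⟩
    have hpow_odd : ∀ w : ℕ, (a * c ^ (2 * j + 1)) ^ (2 * w + 1) = a * c ^ ((2 * j + 1) * (2 * w + 1)) := by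
      intro w
      rw [(hac.pow_right _).mul_pow, pow_succ a, pow_mul a, pow_two, haa, one_pow, one_mul, ← pow_mul]
    have h2h : ((2 * h : ℕ) : ℤ) ∣ (((2 * j + 1) * (2 * j + 1) + h : ℕ) : ℤ) - (1 : ℕ) := by
      refine Nat.modEq_iff_dvd.mp (Eq.symm (S.pow_eq.mp ?_))
      rw [pow_one]
      conv_rhs => rw [← hxxc, e]
      have e1 : x * (a * c ^ (2 * j + 1)) * x⁻¹ = x * a * x⁻¹ * (x * c * x⁻¹) ^ (2 * j + 1) := by
        rw [conj_pow]; group
      rw [e1, hxa, e, hpow_odd, (hac.pow_right h).eq, ← mul_assoc, mul_assoc (c ^ h) a a, haa, mul_one,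
        ← pow_add, add_comm h]
    obtain ⟨q, hq⟩ := h2h
    push_cast at hq
    have hm2 : 2 ≤ m := by
      by_contra hm1
      have hh2 : (h : ℤ) = 2 := by rw [hh, show m = 1 by omega]; norm_num
      rw [hh2] at hq
      have : (4 : ℤ) * (j * j + j) + 2 = 4 * q := by linear_combination hq
      omega
    obtain ⟨f, hf⟩ : 4 ∣ h := by rw [hh]; exact pow_dvd_pow 2 hm2
    have hgf : g = 2 * f := by omega
    have hfix : ∀ r : ℕ, ((2 * h : ℕ) : ℤ) ∣ (((2 * j + 1) * (2 * r) + h : ℕ) : ℤ) - (2 * r : ℕ) →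
        x * (c ^ (2 * r) * a) * x⁻¹ = c ^ (2 * r) * a := by
      intro r hr
      rw [hxa' (2 * r), e, (hac.pow_right _).mul_pow, pow_mul a, pow_two, haa, one_pow, one_mul,
        ← pow_mul, (hac.pow_right h).eq, ← mul_assoc, ← pow_add,
        (S.pow_eq).mpr (Nat.modEq_iff_dvd.mpr hr).symm]
    rcases Nat.even_or_odd' j with ⟨w, rfl | rfl⟩
    · refine ⟨2 * 1, Or.inl (hfix 1 ?_)⟩
      push_cast at hq ⊢
      have hco : IsCoprime (h : ℤ) (2 * w + 1) := by
        rw [hh, Nat.cast_pow]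
        exact IsCoprime.pow_left ⟨-(w : ℤ), 1, by push_cast; ring⟩
      have hdvd : (h : ℤ) ∣ (8 * w) := hco.dvd_of_dvd_mul_right ⟨2 * q - 1, by linear_combination hq⟩
      obtain ⟨v, hv⟩ := hdvd
      have hv' : v * (2 * (w : ℤ) + 1) + 1 = 2 * q := by
        refine mul_left_cancel₀ (show (h : ℤ) ≠ 0 by positivity) ?_
        linear_combination hq - (2 * (w : ℤ) + 1) * hv
      obtain ⟨v', hv2⟩ : (2 : ℤ) ∣ v + 1 := ⟨q - v * w, by linear_combination hv'⟩
      exact ⟨v', by linear_combination hv + (h : ℤ) * hv2⟩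
    · refine ⟨2 * f, Or.inl (hfix f ?_)⟩
      push_cast at hq ⊢
      have hf' : (h : ℤ) = 4 * f := by exact_mod_cast hf
      exact ⟨(w : ℤ) + 1, by linear_combination (-2 * (w : ℤ) - 1) * hf'⟩

end IndexFour

end CfsgLib.Block.IndexFour
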