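import Cfsg.Agent.Lib.Block.IndexFour.Inverting
import Cfsg.Agent.Lib.Block.IndexFour.Quot
import Cfsg.Agent.Lib.Block.CyclicDefect.AbelianRankTwo
import Cfsg.Agent.Lib.Block.Tame.DihedralMain
import Cfsg.Agent.Lib.Classical.DihedralO2

/-!
# `a` central, all elements outside `A` of square one: the block of the quotient

The quotient by `⟨a⟩` has dihedral defect group, so `h + 3` members have `a` in the kernel.
-/

open Finset MonoidAlgebra

set_option autoImplicit false
set_option linter.unusedSectionVars false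

namespace CfsgLib.Block.IndexFour

open Cfsg CfsgLib CfsgLib.Block
open scoped Pair

universe u

variable {M : Ideal AlgInt} [M.IsMaximal] {G : Type u} [Group G] [Fintype G] [DecidableEq G]
  [Fintype (IrrCharacter G)] {P A : Subgroup G} {c a x : G} {h : ℕ} {e : Set (IrrCharacter (CQ P))}
  {B : Set (IrrCharacter G)} (D : IFPres P A c a x h)
include D

/-- The image of `P` modulo `⟨a⟩` is dihedral. -/
theorem quot_dPres (hout : ∀ v ∈ P, v ∉ A → v * v = 1) [(Subgroup.zpowers a).Normal] :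
    Tame.DPres (P.map (QuotientGroup.mk' (Subgroup.zpowers a)))
      (QuotientGroup.mk' (Subgroup.zpowers a) c) (QuotientGroup.mk' (Subgroup.zpowers a) x) h := by
  classical
  set N := Subgroup.zpowers a with hN
  set π := QuotientGroup.mk' N with hπ
  have hmemN : ∀ g : G, g ∈ N → g = 1 ∨ g = a := by
    intro g hg
    obtain ⟨i, rfl⟩ := Subgroup.mem_zpowers_iff.mp hg
    rcases Int.even_or_odd' i with ⟨j, rfl | rfl⟩
    · exact Or.inl (by rw [zpow_mul, zpow_two, D.sqa, one_zpow])
    · exact Or.inr (by rw [zpow_add_one, zpow_mul, zpow_two, D.sqa, one_zpow, one_mul])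
  have hone : ∀ g : G, π g = 1 ↔ g ∈ N := fun g => QuotientGroup.eq_one_iff g
  have hπa : π a = 1 := (hone a).mpr (Subgroup.mem_zpowers a)
  have hord : orderOf (π c) = 2 * h := by
    refine Nat.dvd_antisymm (D.orderc ▸ orderOf_map_dvd π c) ?_
    rw [← D.orderc, orderOf_dvd_iff_pow_eq_one]
    have h1 : π (c ^ orderOf (π c)) = 1 := by rw [map_pow, pow_orderOf_eq_one]
    rcases hmemN _ ((hone _).mp h1) with e' | e'
    · exact e'
    · exact absurd (e' ▸ Subgroup.npow_mem_zpowers c _) D.nota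
  have hcard : Nat.card (P.map π) = 4 * h := by
    have h1 := CyclicDefect.card_image_mul (N := N) (D := P) (Subgroup.zpowers_le.mpr (D.le D.mema))
    rw [Nat.card_zpowers, orderOf_eq_prime (show a ^ 2 = 1 by rw [pow_two]; exact D.sqa) D.a_ne,
      D.card] at h1
    rw [← hπ] at h1
    omega
  have hxn : π x ∉ Subgroup.zpowers (π c) := by
    intro hm
    obtain ⟨i, hi⟩ := Subgroup.mem_zpowers_iff.mp hm
    have h1 : π ((c ^ i)⁻¹ * x) = 1 := by rw [map_mul, map_inv, map_zpow, hi, inv_mul_cancel]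
    refine D.notA ?_
    have h2 : (c ^ i)⁻¹ * x ∈ A := by
      rcases hmemN _ ((hone _).mp h1) with e' | e' <;> rw [e']
      exacts [one_mem A, D.mema]
    simpa using mul_mem (zpow_mem D.memc i) h2
  have hcases : ∀ v ∈ P.map π, ∃ l : ℕ, v = π c ^ l ∨ v = π x * π c ^ l := by
    rintro _ ⟨v, hv, rfl⟩
    have hA : ∀ y ∈ A, ∃ l : ℕ, π y = π c ^ l := by
      intro y hy
      obtain ⟨l, rfl | rfl⟩ := D.decomp hy
      · exact ⟨l, map_pow π c l⟩
      · exact ⟨l, by rw [map_mul, map_pow, hπa, mul_one]⟩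
    by_cases hvA : v ∈ A
    · exact (hA v hvA).imp fun l hl => Or.inl hl
    · obtain ⟨l, hl⟩ := hA _ (D.inv_mul_mem D.memx hv D.notA hvA)
      exact ⟨l, Or.inr (by rw [← hl, ← map_mul, mul_inv_cancel_left])⟩
  have hsqx : π x * π x = 1 := by rw [← map_mul, hout x D.memx D.notA, map_one]
  have hrel : π x * π c * (π x)⁻¹ = (π c)⁻¹ := by
    rw [← map_inv, ← map_mul, ← map_mul, D.conj_inv hout D.memc, map_inv]
  have hcP : π c ∈ P.map π := Subgroup.mem_map_of_mem _ (D.le D.memc)
  have hxP : π x ∈ P.map π := Subgroup.mem_map_of_mem _ D.memx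
  refine ⟨D.pow2, hcP, hxP, hord, hsqx, hrel, hxn, hcard, hcases, ?_⟩
  have hx' : (π x)⁻¹ = π x := inv_eq_of_mul_eq_one_right hsqx
  have h2 := CfsgLib.Classical.mulEquiv_dihedral_of_inverting (G := P.map π) (x := ⟨π x, hxP⟩)
    (M := ⟨π c, hcP⟩) (Subtype.ext hsqx)
    (fun e' => hxn (by rw [show π x = 1 from congrArg Subtype.val e']; exact one_mem _))
    (Subtype.ext (show π x * π c * π x = (π c)⁻¹ by
      conv_lhs => arg 2; rw [← hx']
      exact hrel))
    (fun e' => hxn (by
      rw [eq_inv_of_mul_eq_one_left (show π x * π c = 1 from congrArg Subtype.val e')]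
      exact inv_mem (Subgroup.mem_zpowers _)))
    (fun g => by
      obtain ⟨l, hl | hl⟩ := hcases g g.2
      · exact Or.inl (Subgroup.mem_zpowers_iff.mpr ⟨l, Subtype.ext (by simp [hl])⟩)
      · refine Or.inr (Subgroup.mem_zpowers_iff.mpr ⟨l, Subtype.ext ?_⟩)
        show _ = π x * (g : G ⧸ N)
        rw [hl, ← mul_assoc, hsqx, one_mul]
        simp)
  rwa [← Subgroup.orderOf_coe, Subgroup.coe_mk, hord] at h2

/-- The members with `a` in the kernel. -/
theorem card_quotSet (hM : IsPModular 2 M) (hmax : IsMaximalBrauerPair 2 M B P e)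
    (hout : ∀ v ∈ P, v ∉ A → v * v = 1) (ha : ∀ g : G, Commute g a)
    [(Subgroup.zpowers a).Normal] :
    Nat.card (quotSet (Subgroup.zpowers a) B) = h + 3 := by
  classical
  have hpf : Fact (Nat.Prime 2) := ⟨hM.1⟩
  set N := Subgroup.zpowers a with hN
  have hBl := hmax.1.2.1
  have hBD := isDefectGroup_of_maximal hM hmax
  have hZc : N ≤ Subgroup.center G :=
    Subgroup.zpowers_le.mpr (Subgroup.mem_center_iff.mpr fun t => (ha t).eq)
  have hZp : IsPGroup 2 N := D.isPGroup.to_le (Subgroup.zpowers_le.mpr (D.le D.mema))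
  haveI := Fintype.ofFinite (G ⧸ N)
  obtain ⟨Bbar, hBbar, hsub, hdg⟩ := QuotientDefect.exists_image_block (N := N) hM hZp hBl
  obtain ⟨θ, hθ⟩ := isPBlock_nonempty hBbar
  have hq : IsPBlock M (quotSet N B) := isPBlock_quotSet hM hZp hZc hBl ⟨θ, hsub θ hθ⟩
  have hBq : Bbar = quotSet N B := isPBlock_eq_of_mem hBbar hq hθ (hsub θ hθ)
  have hdef : IsDefectGroup 2 M (quotSet N B) (P.map (QuotientGroup.mk' N)) := by
    rw [← hBq, hdg]
    exact ⟨_, hBD, rfl⟩
  haveI := Fintype.ofFinite (IrrCharacter (G ⧸ N))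
  obtain ⟨e', he'⟩ := exists_maximalPair_at hM hq hdef
  exact (Tame.DFrame.invariants (M := M) ⟨hM, he', quot_dPres D hout⟩).1

end CfsgLib.Block.IndexFour
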