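import Cfsg.Agent.Lib.Block.IndexFour.FamilyAut

/-!
# Blocks with the family as defect group and `jj` central are nilpotent
-/

open Finset MonoidAlgebra

set_option autoImplicit false
set_option linter.unusedSectionVars false

namespace CfsgLib.Block.IndexFour

open Cfsg CfsgLib CfsgLib.Block
open scoped Pair

universe u

variable {M : Ideal AlgInt} [M.IsMaximal] {G : Type u} [Group G] [Fintype G] [DecidableEq G]
  {P A R : Subgroup G} {c a x : G} {h : ℕ} {e : Set (IrrCharacter (CQ P))}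
  {B : Set (IrrCharacter G)}

/-- Two commuting involutions among the automorphisms of a fully automized subgroup with at most two
automorphisms induced by the defect group agree. -/
theorem eq_of_involutions_auto (hM : IsPModular 2 M) (hmax : IsMaximalBrauerPair 2 M B P e)
    (hfn : (blockFusion hM hmax.1.1).IsFullyNormalized R)
    {s : Finset (MulAut R)} (hs : ∀ β ∈ autInducedBy P R, β ∈ s) (hs2 : s.card ≤ 2)
    {β γ : MulAut R} (hβ : β ∈ (blockFusion hM hmax.1.1).autGroup R)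
    (hγ : γ ∈ (blockFusion hM hmax.1.1).autGroup R) (hβ2 : β * β = 1) (hγ2 : γ * γ = 1)
    (hβ1 : β ≠ 1) (hγ1 : γ ≠ 1) (hc : β * γ = γ * β) : β = γ := by
  classical
  have hpf : Fact (Nat.Prime 2) := ⟨hM.1⟩
  set X := (blockFusion hM hmax.1.1).autGroup R with hX
  obtain ⟨-, S, hS⟩ : (blockFusion hM hmax.1.1).IsFullyAutomized 2 R :=
    fullyAutomized_blockFusion hM hmax hfn
  have hSc : Nat.card (S : Subgroup X) ≤ 2 := by
    refine le_trans ?_ hs2
    let f : ↥(S : Subgroup X) → s := fun γ' => ⟨((γ' : X) : MulAut R), hs _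
      (Subgroup.mem_subgroupOf.mp (hS.le γ'.2))⟩
    refine le_trans (Nat.card_le_card_of_injective f fun u w huw => ?_)
      (le_of_eq (by rw [Nat.card_eq_fintype_card, Fintype.card_coe]))
    exact Subtype.ext (Subtype.ext (congrArg Subtype.val huw :))
  have h4 : ¬ 4 ∣ Nat.card X := by
    intro h4
    rw [S.card_eq_multiplicity] at hSc
    have h1 := ((Nat.prime_two.pow_dvd_iff_le_factorization Nat.card_pos.ne').mp
      (show 2 ^ 2 ∣ Nat.card X by simpa using h4))
    rw [← hX] at hSc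
    have h2 : (2 : ℕ) ^ 2 ≤ 2 ^ (Nat.card X).factorization 2 := Nat.pow_le_pow_right (by norm_num) h1
    omega
  exact congrArg Subtype.val (eq_of_commute_involutions h4 (s := (⟨β, hβ⟩ : X)) (t := ⟨γ, hγ⟩)
    (Subtype.ext hβ2) (Subtype.ext hγ2) (fun e' => hβ1 (congrArg Subtype.val e'))
    (fun e' => hγ1 (congrArg Subtype.val e')) (Subtype.ext hc))

namespace IFPres

variable (D : IFPres P A c a x h)
include D

/-- Conjugation of an outer element of `R`. -/
theorem conj_out_cases (hRP : R ≤ P) (hZ : ∀ t ∈ R, t ∈ A → t * t = 1) {v g : G} (hv : v ∈ R)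
    (hvA : v ∉ A) (hg : g ∈ P) (hgv : g * v * g⁻¹ ∈ R) :
    g * v * g⁻¹ = v ∨ g * v * g⁻¹ = v * jj c x h := by
  obtain ⟨y, hy, hyv⟩ : ∃ y ∈ A, g * v * g⁻¹ = y * v * y⁻¹ := by
    by_cases hgA : g ∈ A
    · exact ⟨g, hgA, rfl⟩
    · refine ⟨g * v⁻¹, ?_, by group⟩
      rw [D.mul_mem_iff hg (inv_mem (hRP hv))]
      simp [hgA, hvA]
  have h1 : v⁻¹ * y * v = x * y * x⁻¹ := by
    have := D.conj_out (v := v⁻¹) (inv_mem (hRP hv)) (fun e' => hvA (by simpa using inv_mem e')) hy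
    rwa [inv_inv] at this
  have hxA : x * y * x⁻¹ ∈ A := D.conj_mem D.memx hy
  have h2 : g * v * g⁻¹ = v * (y⁻¹ * (x * y * x⁻¹)) := by
    rw [hyv, ← (D.comm _ hxA _ (inv_mem hy)).eq, ← h1]
    group
  have h3 : y⁻¹ * (x * y * x⁻¹) ∈ R := by
    have := mul_mem (inv_mem hv) hgv
    rwa [h2, inv_mul_cancel_left] at this
  rcases D.comm_cases hy (hZ _ h3 (mul_mem (inv_mem hy) hxA)) with e' | e'
  · exact Or.inl (by rw [h2, e', mul_one])
  · exact Or.inr (by rw [h2, e'])

/-- The conjugation by the defect group on an elementary abelian subgroup of order eight: one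
transvection with centre `jj`. -/
theorem exists_transvection (hRP : R ≤ P) (hP : IsPGroup 2 P)
    (hcen : ∀ v ∈ P, (∀ u ∈ R, Commute v u) → v ∈ R)
    (hZ : ∀ t ∈ R, t ∈ A → t * t = 1) {v : G} (hv : v ∈ R) (hvA : v ∉ A) :
    ∃ σ ∈ autInducedBy P R, σ * σ = 1 ∧ σ ≠ 1 ∧ (∀ r : R, (r : G) ∈ A → σ r = r) ∧
      (∀ r : R, (r : G) ∉ A → ((σ r : R) : G) = (r : G) * jj c x h) ∧
      ∀ β ∈ autInducedBy P R, β = 1 ∨ β = σ := by
  classical
  set jR : R := ⟨jj c x h, D.sq_one_mem hcen hRP D.jj_mem D.jj_sq⟩ with hjR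
  set vR : R := ⟨v, hv⟩ with hvR
  have hRdec : ∀ r : R, (r : G) ∈ A ∨ ((vR⁻¹ * r : R) : G) ∈ A := fun r =>
    or_iff_not_imp_left.mpr fun hr => D.inv_mul_mem (hRP hv) (hRP r.2) hvA hr
  have hcentA : ∀ r : R, (r : G) ∈ A → ∀ g ∈ P, g * (r : G) * g⁻¹ = r := fun r hr g hg => by
    rw [(D.central_of_sq hr (hZ r r.2 hr) hg).eq, mul_inv_cancel_right]
  -- the automorphisms induced by `P`
  have hind : ∀ β ∈ autInducedBy P R, (∀ r : R, (r : G) ∈ A → β r = r) ∧
      (β vR = vR ∨ β vR = vR * jR) := by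
    intro β hβ
    obtain ⟨g, hg, hβg⟩ := CfsgLib.Fusion.mem_autInducedBy_iff.mp hβ
    have hval : ∀ r : R, ((β r : R) : G) = g * r * g⁻¹ := fun r => by
      rw [← hβg r r.2, CfsgLib.Fusion.autFun_coe]
    refine ⟨fun r hr => Subtype.ext (by rw [hval, hcentA r hr g hg]), ?_⟩
    have hgv : g * v * g⁻¹ ∈ R := hval vR ▸ (β vR).2
    exact (D.conj_out_cases hRP hZ hv hvA hg hgv).imp
      (fun e' => Subtype.ext ((hval vR).trans e')) (fun e' => Subtype.ext ((hval vR).trans e'))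
  have hext : ∀ β γ : MulAut R, (∀ r : R, (r : G) ∈ A → β r = γ r) → β vR = γ vR → β = γ := by
    intro β γ hA hv'
    refine MulEquiv.ext fun r => (hRdec r).elim (hA r) fun hr => ?_
    have e1 := hA _ hr
    rw [map_mul, map_mul, map_inv, map_inv, hv'] at e1
    exact mul_left_cancel e1
  -- a non-trivial one
  haveI := hP.isNilpotent
  have hne : R ≠ P := by
    rintro rfl
    exact D.c_sq_ne (hZ c (D.le D.memc) D.memc)
  obtain ⟨t, ⟨htP, htN⟩, htR⟩ :=
    SetLike.exists_of_lt (CfsgLib.Fusion.lt_inf_normalizer hRP hne)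
  obtain ⟨σ, hσP, hσ⟩ : ∃ σ ∈ autInducedBy P R, ∀ r : R, ((σ r : R) : G) = t * r * t⁻¹ := by
    let f : R →* R := MonoidHom.mk'
      (fun r => (⟨t * r * t⁻¹, (Subgroup.mem_normalizer_iff.mp htN r).mp r.2⟩ : R))
      fun u w => Subtype.ext (by show t * (u * w) * t⁻¹ = t * u * t⁻¹ * (t * w * t⁻¹); group)
    let σ : MulAut R := MulEquiv.ofBijective f (Finite.injective_iff_bijective.mp fun u w huw =>
      Subtype.ext (mul_left_cancel (mul_right_cancel (congrArg Subtype.val huw))))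
    exact ⟨σ, Subgroup.subset_closure ⟨t, htP, fun r => rfl⟩, fun r => rfl⟩
  obtain ⟨hσA, hσv⟩ := hind σ hσP
  have hσne : σ vR ≠ vR := fun e' => htR (hcen t htP fun u hu => by
    refine mul_inv_eq_iff_eq_mul.mp ?_
    rw [← hσ ⟨u, hu⟩]
    exact congrArg Subtype.val
      (congrArg (fun f : MulAut R => f ⟨u, hu⟩) (hext σ 1 hσA e')))
  have hσv' : σ vR = vR * jR := hσv.resolve_left hσne
  have hjA : (jR : G) ∈ A := D.jj_mem
  have hjj : jR * jR = 1 := Subtype.ext D.jj_sq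
  have hσj : σ jR = jR := hσA jR hjA
  have hout' : ∀ r : R, ((vR⁻¹ * r : R) : G) ∈ A → σ r = r * jR := by
    intro r hr
    obtain ⟨w, hw, rfl⟩ : ∃ w : R, (w : G) ∈ A ∧ vR * w = r := ⟨_, hr, mul_inv_cancel_left _ _⟩
    rw [map_mul, hσv', hσA w hw, mul_assoc, mul_assoc]
    exact congrArg (vR * ·) (Subtype.ext (D.comm _ hjA _ hw).eq)
  have hcases : ∀ r : R, σ r = r ∨ σ r = r * jR := fun r => (hRdec r).imp (hσA r) (hout' r)
  have hσ2 : σ * σ = 1 := hext _ 1 (fun r hr => by rw [MulAut.mul_apply, hσA r hr, hσA r hr]; rfl)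
    (by rw [MulAut.mul_apply, hσv', map_mul, hσv', hσj, mul_assoc, hjj, mul_one]; rfl)
  have hσ1 : σ ≠ 1 := fun e' => hσne (by rw [e']; rfl)
  refine ⟨σ, hσP, hσ2, hσ1, hσA, fun r hr => congrArg Subtype.val
    (hout' r ((hRdec r).resolve_left hr)), fun β hβ => ?_⟩
  obtain ⟨hβA, hβv⟩ := hind β hβ
  exact hβv.imp (fun e' => hext β 1 hβA e')
    (fun e' => hext β σ (fun r hr => (hβA r hr).trans (hσA r hr).symm) (e'.trans hσv'.symm))

/-- The elementary abelian subgroup of order eight. -/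
theorem aut_eq_one_of_elem (hM : IsPModular 2 M) (hmax : IsMaximalBrauerPair 2 M B P e) (hRP : R ≤ P)
    (hcen : ∀ v ∈ P, (∀ u ∈ R, Commute v u) → v ∈ R)
    (hfn : (blockFusion hM hmax.1.1).IsFullyNormalized R)
    (α : MulAut R) (hαX : α ∈ (blockFusion hM hmax.1.1).autGroup R) (hα : ¬ 2 ∣ orderOf α)
    (hfix : ∀ w : R, (w : G) = jj c x h → α w = w)
    (hZ : ∀ t ∈ R, t ∈ A → t * t = 1) {v : G} (hv : v ∈ R) (hvA : v ∉ A) : α = 1 := by
  classical
  have hpf : Fact (Nat.Prime 2) := ⟨hM.1⟩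
  obtain ⟨σ, hσP, hσ2, hσ1, hσA, hσout, hσall⟩ :=
    D.exists_transvection hRP hmax.1.1.1 hcen hZ hv hvA
  set jR : R := ⟨jj c x h, D.sq_one_mem hcen hRP D.jj_mem D.jj_sq⟩ with hjR
  have hσj : σ jR = jR := hσA jR D.jj_mem
  have hcases : ∀ r : R, σ r = r ∨ σ r = r * jR := fun r =>
    (em ((r : G) ∈ A)).imp (hσA r) fun hr => Subtype.ext (hσout r hr)
  have hαj : α jR = jR := hfix jR rfl
  have hαj' : α⁻¹ jR = jR := α.injective (by rw [hαj]; exact α.apply_symm_apply jR)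
  -- the conjugate commutes with it
  set τ := α * σ * α⁻¹ with hτ
  have hτcases : ∀ r : R, τ r = r ∨ τ r = r * jR := by
    intro r
    rcases hcases (α⁻¹ r) with e' | e'
    · left
      rw [hτ, MulAut.mul_apply, MulAut.mul_apply, e']
      exact α.apply_symm_apply r
    · right
      rw [hτ, MulAut.mul_apply, MulAut.mul_apply, e', map_mul, hαj]
      exact congrArg (· * jR) (α.apply_symm_apply r)
  have hτj : τ jR = jR := by
    rw [hτ, MulAut.mul_apply, MulAut.mul_apply, hαj', hσj, hαj]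
  have hcomm : σ * τ = τ * σ := MulEquiv.ext fun r => by
    simp only [MulAut.mul_apply]
    rcases hcases r with e1 | e1 <;> rcases hτcases r with e2 | e2 <;>
      simp [e1, e2, hσj, hτj, mul_assoc]
  have hX : ∀ β ∈ autInducedBy P R, β ∈ (blockFusion hM hmax.1.1).autGroup R :=
    CfsgLib.Fusion.autInducedBy_le_autGroup hRP
  have hτσ : σ = τ := by
    refine eq_of_involutions_auto hM hmax hfn (s := ({1, σ} : Finset (MulAut R))) (fun β hβ => ?_)
      Finset.card_le_two (hX σ hσP) (mul_mem (mul_mem hαX (hX σ hσP)) (inv_mem hαX)) hσ2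
      (by
        rw [hτ]
        calc α * σ * α⁻¹ * (α * σ * α⁻¹) = α * (σ * σ) * α⁻¹ := by group
          _ = 1 := by rw [hσ2, mul_one, mul_inv_cancel])
      hσ1 (fun e' => hσ1 (by rw [hτ] at e'; exact conj_eq_one_iff.mp e')) hcomm
    rw [Finset.mem_insert, Finset.mem_singleton]
    exact hσall β hβ
  refine D.aut_eq_one_of_inv hRP hcen α hα hfix fun r hr => ?_
  by_contra hout
  have h1 : σ (α r) = α r := by
    have h := congrArg (fun f : MulAut R => f (α r)) hτσ
    simp only [hτ, MulAut.mul_apply] at h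
    rwa [show α⁻¹ (α r) = r from α.symm_apply_apply r, hσA r hr] at h
  have h2 : σ (α r) = α r * jR := Subtype.ext (hσout _ hout)
  rw [h1] at h2
  exact D.jj_ne (congrArg Subtype.val (left_eq_mul.mp h2))

end IFPres

/-- The block is nilpotent if `jj` is central. -/
theorem isNilpotentBlock_family (hM : IsPModular 2 M) (hmax : IsMaximalBrauerPair 2 M B P e)
    (D : IFPres P A c a x h) (hj : ∀ g : G, Commute g (IFPres.jj c x h)) :
    IsNilpotentBlock 2 M B := by
  refine isNilpotentBlock_of_aut hM hmax fun R hRP hcen hfn α hαX hα => ?_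
  have hfix : ∀ w : R, (w : G) = IFPres.jj c x h → α w = w := fun w hw =>
    autGroup_fix hM hmax hRP hαX fun g => hw ▸ hj g
  by_cases hy : ∃ y ∈ R, y ∈ A ∧ y * y ≠ 1
  · obtain ⟨y, hyR, hyA, hy2⟩ := hy
    exact D.aut_eq_one_of_sq_ne hRP hcen α hα hfix hyR hyA hy2
  push Not at hy
  obtain ⟨v, hv, hvA⟩ := D.exists_out hRP hcen hy
  by_cases h2 : v * v = 1
  · exact D.aut_eq_one_of_elem hM hmax hRP hcen hfn α hαX hα hfix hy hv hvA
  · exact D.aut_eq_one_of_out hRP hcen α hα hfix hy hv hvA h2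

end CfsgLib.Block.IndexFour
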