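import Cfsg.Agent.Lib.Block.IndexFour.Tally
import Cfsg.Agent.Lib.Block.IndexFour.FamilyNilpotent
import Cfsg.Agent.Lib.Block.Tame.Fusion
import Cfsg.Agent.Lib.Block.FreeInertial.Count

/-!
# Fusion of the elements of a defect group in the family

The involutions of the centre are pairwise not fused and two elements of order at least four of `A`
are fused only by conjugation in the defect group.
-/

open Finset MonoidAlgebra

set_option autoImplicit false
set_option linter.unusedSectionVars false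

namespace CfsgLib.Block.IndexFour

open Cfsg CfsgLib CfsgLib.Block
open Cfsg.FusionSystem (centralizerIn normalizerIn extender)
open scoped Pair

universe u

variable {M : Ideal AlgInt} [M.IsMaximal] {G : Type u} [Group G] [Fintype G] [DecidableEq G]
  {P A : Subgroup G} {c a x : G} {h : ℕ} {e : Set (IrrCharacter (CQ P))}
  {B : Set (IrrCharacter G)}

/-- An element with largest centralizer in its class spans a fully centralized subgroup. -/
theorem fullyCentralized_zpowers {p : ℕ} (hM : IsPModular p M)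
    (hmax : IsMaximalBrauerPair p M B P e) (y : P)
    (hbig : ∀ z ∈ fusClass hM hmax.1.1 y, Nat.card (P ⊓ Subgroup.centralizer ({(z : G)} : Set G) : Subgroup G) ≤
      Nat.card (P ⊓ Subgroup.centralizer ({(y : G)} : Set G) : Subgroup G)) :
    (blockFusion hM hmax.1.1).IsFullyCentralized (Subgroup.zpowers (y : G)) := by
  classical
  refine ⟨Subgroup.zpowers_le.mpr y.2, ?_⟩
  rintro Q ⟨φ, hφ, rfl⟩
  set z : P := ⟨φ ⟨(y : G), Subgroup.mem_zpowers _⟩, ((blockFusion hM hmax.1.1).le_of_mem hφ).2 _⟩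
  have hz : z ∈ fusClass hM hmax.1.1 y := (mem_fusClass_iff_hom hM hmax).mpr ⟨φ, hφ, rfl⟩
  have hr : φ.range = Subgroup.zpowers (z : G) := by
    rw [MonoidHom.range_eq_map, show (⊤ : Subgroup (Subgroup.zpowers (y : G))) =
      Subgroup.zpowers ⟨(y : G), Subgroup.mem_zpowers _⟩ from
        eq_comm.mp (eq_top_iff.mpr fun v _ => by
          obtain ⟨i, hi⟩ := Subgroup.mem_zpowers_iff.mp v.2
          exact Subgroup.mem_zpowers_iff.mpr ⟨i, Subtype.ext (by simpa using hi)⟩),
      MonoidHom.map_zpowers]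
  have hcent : ∀ v : G, centralizerIn P (Subgroup.zpowers v) = P ⊓ Subgroup.centralizer ({v} : Set G) := by
    intro v
    rw [centralizerIn, Subgroup.zpowers_eq_closure, Subgroup.centralizer_closure]
  rw [hr, hcent, hcent]
  exact hbig z hz

/-- A map between two elements extends to the centralizer of the first if the second spans a fully
centralized subgroup. -/
theorem exists_hom_centralizer {p : ℕ} (hM : IsPModular p M) (hmax : IsMaximalBrauerPair p M B P e)
    {y z : P} (hz : z ∈ fusClass hM hmax.1.1 y)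
    (hbig : ∀ w ∈ fusClass hM hmax.1.1 z, Nat.card (P ⊓ Subgroup.centralizer ({(w : G)} : Set G) : Subgroup G) ≤
      Nat.card (P ⊓ Subgroup.centralizer ({(z : G)} : Set G) : Subgroup G))
    {R : Subgroup G} (hR : R ≤ P ⊓ Subgroup.centralizer ({(y : G)} : Set G)) (hy : (y : G) ∈ R) :
    ∃ ψ ∈ (blockFusion hM hmax.1.1).Hom R, ψ ⟨(y : G), hy⟩ = (z : G) := by
  classical
  have hF := isBlockFusionSystemOn_blockFusion hM hmax
  set F := blockFusion hM hmax.1.1
  obtain ⟨φ, hφ, hφy⟩ := (mem_fusClass_iff_hom hM hmax).mp hz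
  have hr : φ.range = Subgroup.zpowers (z : G) := by
    rw [MonoidHom.range_eq_map, show (⊤ : Subgroup (Subgroup.zpowers (y : G))) =
      Subgroup.zpowers ⟨(y : G), Subgroup.mem_zpowers _⟩ from
        eq_comm.mp (eq_top_iff.mpr fun v _ => by
          obtain ⟨i, hi⟩ := Subgroup.mem_zpowers_iff.mp v.2
          exact Subgroup.mem_zpowers_iff.mpr ⟨i, Subtype.ext (by simpa using hi)⟩),
      MonoidHom.map_zpowers, hφy]
  obtain ⟨ψ, hψ, hag⟩ :=
    (receptive_of_defect hM hF (fullyCentralized_zpowers hM hmax z hbig)).2 _ φ hφ hr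
  have hext : R ≤ extender P (Subgroup.zpowers (y : G)) φ := fun v hv => by
    obtain ⟨hvP, hvC⟩ := hR hv
    have hvy : Commute v (y : G) := Subgroup.mem_centralizer_singleton_iff.mp hvC
    have hfix : ∀ w : Subgroup.zpowers (y : G), v * (w : G) * v⁻¹ = w := fun w => by
      obtain ⟨i, hi⟩ := Subgroup.mem_zpowers_iff.mp w.2
      rw [← hi, (hvy.zpow_right i).eq, mul_inv_cancel_right]
    refine Subgroup.subset_closure ⟨hvP, ?_, 1, one_mem P, fun w hw => ?_⟩
    · refine centralizer_le_normalizer' _ ?_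
      rw [Subgroup.zpowers_eq_closure, Subgroup.centralizer_closure]
      exact hvC
    · rw [one_mul, inv_one, mul_one]
      exact congrArg φ (Subtype.ext (hfix w))
  refine ⟨ψ.comp ((conjHom R 1).codRestrict _ fun w => by simpa [conjHom] using hext w.2),
    F.comp_mem (F.conj_mem (hR.trans inf_le_left) (one_mem P)) hψ _, ?_⟩
  rw [MonoidHom.comp_apply, ← hφy, ← hag (y : G) (Subgroup.mem_zpowers _) (hext hy)]
  exact congrArg ψ (Subtype.ext (by simp [conjHom]))

variable [Fintype (IrrCharacter G)] (D : IFPres P A c a x h)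
include D

theorem stab_cq (hM : IsPModular 2 M) (hmax : IsMaximalBrauerPair 2 M B P e) :
    ∀ t ∈ Subgroup.normalizer (P : Set G), StabilizesBlock (CQ P) e t → ¬ 2 ∣ orderOf t → t ∈ CQ P := by
  intro t ht _ hodd
  let f : Subgroup.normalizer (P : Set G) →* MulAut P := P.normalizerMonoidHom
  have hα : ¬ 2 ∣ orderOf (f ⟨t, ht⟩) := fun hd => hodd (hd.trans ((orderOf_map_dvd f _).trans
    (by rw [Subgroup.orderOf_mk])))
  have h1 := D.aut_odd _ hα
  refine Subgroup.mem_centralizer_iff.mpr fun w hw => ?_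
  have h2 := congrArg Subtype.val (congrArg (fun g : MulAut P => g ⟨w, hw⟩) h1)
  exact (mul_inv_eq_iff_eq_mul.mp (show t * w * t⁻¹ = w from h2)).symm

/-- The centralizers of the elements which are not of square one. -/
theorem card_centralizer_le {w : G} (hw : w ∈ P) (h2 : w * w ≠ 1) :
    Nat.card (P ⊓ Subgroup.centralizer ({w} : Set G) : Subgroup G) ≤ 4 * h := by
  classical
  by_cases hwA : w ∈ A
  · rw [← D.cardA]
    refine Subgroup.card_le_of_le fun v hv => ?_
    exact D.mem_of_commute hv.1 hwA h2 (Subgroup.mem_centralizer_singleton_iff.mp hv.2)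
  · set s : Finset G := {1, c ^ h, a, c ^ h * a}
    set S : Finset G := s ∪ s.image (w * ·)
    let f : (P ⊓ Subgroup.centralizer ({w} : Set G) : Subgroup G) → S := fun v => ⟨(v : G), by
      obtain ⟨z, hz, hz2, e'⟩ := D.commute_out hw hwA v.2.1
        (Subgroup.mem_centralizer_singleton_iff.mp v.2.2).symm
      have hzs : z ∈ s := by
        simp only [s, Finset.mem_insert, Finset.mem_singleton]
        exact D.sq_one_cases hz hz2
      rcases e' with e' | e' <;> rw [e']
      · exact Finset.mem_union_left _ hzs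
      · exact Finset.mem_union_right _ (Finset.mem_image_of_mem _ hzs)⟩
    refine le_trans (Nat.card_le_card_of_injective f fun u v huv =>
      Subtype.ext (congrArg Subtype.val huv :)) ?_
    rw [Nat.card_eq_fintype_card, Fintype.card_coe]
    have h4 : s.card ≤ 4 := Finset.card_le_four
    have := D.two_le
    exact (Finset.card_union_le _ _).trans (by have := Finset.card_image_le (f := (w * ·)) (s := s); omega)

theorem centralizer_eq {y : G} (hy : y ∈ A) (h2 : y * y ≠ 1) :
    P ⊓ Subgroup.centralizer ({y} : Set G) = A :=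
  le_antisymm (fun _ hv => D.mem_of_commute hv.1 hy h2 (Subgroup.mem_centralizer_singleton_iff.mp hv.2))
    fun v hv => ⟨D.le hv, Subgroup.mem_centralizer_singleton_iff.mpr (D.comm v hv y hy)⟩

theorem sq_ne_of_fused {p : ℕ} (hM : IsPModular p M) (hmax : IsMaximalBrauerPair p M B P e) {y z : P}
    (hz : z ∈ fusClass hM hmax.1.1 y) (h2 : (y : G) * (y : G) ≠ 1) : (z : G) * (z : G) ≠ 1 := fun e' => by
  have h1 := orderOf_of_fused hM hmax.1.1 hz
  apply h2
  rw [← pow_two, ← orderOf_dvd_iff_pow_eq_one, ← h1]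
  exact orderOf_dvd_of_pow_eq_one (by rw [pow_two]; exact e')

/-- Central involutions are fused only if they are equal. -/
theorem eq_of_fused_central (hM : IsPModular 2 M) (hmax : IsMaximalBrauerPair 2 M B P e) {y z : P}
    (hy : (y : G) ∈ A) (hy2 : (y : G) * (y : G) = 1) (hz : (z : G) ∈ A)
    (hz2 : (z : G) * (z : G) = 1) (hf : z ∈ fusClass hM hmax.1.1 y) : z = y := by
  have hfix : ∀ (v : G), v ∈ P → ∀ w ∈ A, w * w = 1 → v * w * v⁻¹ = w := fun v hv w hw hw2 => by
    rw [(D.central_of_sq hw hw2 hv).eq, mul_inv_cancel_right]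
  have hdef := defect_low hM hmax z fun w _ => Subgroup.card_le_of_le fun v hv => ⟨hv.1,
    Subgroup.mem_centralizer_singleton_iff.mpr (D.central_of_sq hz hz2 hv.1)⟩
  obtain ⟨u, hu, hu'⟩ := Tame.exists_conj_of_fused hM hmax (stab_cq D hM hmax) hf hdef fun v hv =>
    ⟨v, hv, 1, by rw [hfix v hv _ hy hy2, zpow_one], by rw [hfix v hv _ hz hz2, zpow_one]⟩
  rw [hfix u hu _ hy hy2] at hu'
  exact Subtype.ext hu'.symm

/-- The automorphisms of `A` in the system are induced by `P`. -/
theorem autGroup_A (hM : IsPModular 2 M) (hmax : IsMaximalBrauerPair 2 M B P e) {α : MulAut A}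
    (hα : α ∈ (blockFusion hM hmax.1.1).autGroup A) :
    ∃ u ∈ P, ∀ t : A, ((α t : A) : G) = u * t * u⁻¹ := by
  classical
  set F := blockFusion hM hmax.1.1
  have hfn : F.IsFullyNormalized A := by
    refine ⟨D.le, fun Q _ => Subgroup.card_le_of_le fun v hv => ⟨hv.1, ?_⟩⟩
    show v ∈ Subgroup.normalizer (A : Set G)
    rw [Subgroup.mem_normalizer_iff]
    intro w
    refine ⟨fun hw => D.conj_mem hv.1 hw, fun hw => ?_⟩
    have := D.conj_mem (inv_mem hv.1) hw
    simpa [mul_assoc] using this
  have hp : IsPGroup 2 (F.autGroup A) := isPGroup_two_of_odd fun β hβ => Subtype.ext (by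
    obtain ⟨s, hs, hs4⟩ := D.exists_sq_one_finset A
    obtain ⟨k, hk⟩ := D.h_even
    refine aut_eq_one_of_invariant (D.isPGroup.to_le D.le) (β : MulAut A)
      (by rwa [Subgroup.orderOf_coe]) ⊤ (by simp) (fun u _ w _ => Subtype.ext (D.comm _ u.2 _ w.2).eq)
      (fun _ _ => Subgroup.mem_top _) (fun t _ ht => hs t t.2 ht) hs4 (z := ⟨c ^ h, D.q_mem⟩)
      (Subgroup.mem_top _) (fun e' => D.q_ne (congrArg Subtype.val e')) (Subtype.ext D.q_sq) ?_
    set y : A := ⟨c ^ k, pow_mem D.memc k⟩
    have hy : (⟨c ^ h, D.q_mem⟩ : A) = y * y := Subtype.ext (by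
      show c ^ h = c ^ k * c ^ k
      rw [← pow_add, hk, two_mul])
    have h1 : ((β : MulAut A) y : A) * (β : MulAut A) y ≠ 1 := fun e' => D.q_ne (by
      rw [← map_mul, ← hy] at e'
      exact congrArg Subtype.val ((β : MulAut A).injective (e'.trans (map_one _).symm)))
    rw [hy, map_mul]
    refine Subtype.ext (((D.sq_sq ((β : MulAut A) y).2 ?_).resolve_left
      fun e' => h1 (Subtype.ext e')).trans (congrArg Subtype.val hy))
    have : ((β : MulAut A) y : A) * (β : MulAut A) y * (((β : MulAut A) y : A) * (β : MulAut A) y) = 1 := by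
      rw [← map_mul, ← map_mul, ← hy,
        show (⟨c ^ h, D.q_mem⟩ : A) * ⟨c ^ h, D.q_mem⟩ = 1 from Subtype.ext D.q_sq, map_one]
    exact congrArg Subtype.val this)
  obtain ⟨-, S, hS⟩ : F.IsFullyAutomized 2 A := fullyAutomized_blockFusion hM hmax hfn
  have htop : (S : Subgroup (F.autGroup A)) = ⊤ := (S.is_maximal' (hp.to_subgroup ⊤) le_top).symm
  have hmem : (⟨α, hα⟩ : F.autGroup A) ∈ (autInducedBy P A).subgroupOf (F.autGroup A) := by
    rw [← hS, htop]; trivial
  obtain ⟨u, hu, huα⟩ := CfsgLib.Fusion.mem_autInducedBy_iff.mp (Subgroup.mem_subgroupOf.mp hmem)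
  exact ⟨u, hu, fun t => (CfsgLib.Fusion.autFun_coe α t).symm.trans (huα t t.2)⟩

/-- Elements of order at least four of `A` are fused only by conjugation. -/
theorem eq_or_conj_of_fused (hM : IsPModular 2 M) (hmax : IsMaximalBrauerPair 2 M B P e) {y z : P}
    (hy : (y : G) ∈ A) (hy2 : (y : G) * (y : G) ≠ 1) (hz : (z : G) ∈ A)
    (hf : z ∈ fusClass hM hmax.1.1 y) : (z : G) = y ∨ (z : G) = x * y * x⁻¹ := by
  classical
  have hz2 := sq_ne_of_fused D hM hmax hf hy2
  obtain ⟨ψ, hψ, hψy⟩ := exists_hom_centralizer hM hmax hf (fun w hw => by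
    rw [centralizer_eq D hz hz2, D.cardA]
    exact card_centralizer_le D w.2 (sq_ne_of_fused D hM hmax hw hz2))
    (centralizer_eq D hy hy2).ge hy
  set F := blockFusion hM hmax.1.1
  have himg : ∀ t : A, ψ t ∈ A := fun t => D.mem_of_commute ((F.le_of_mem hψ).2 t) hz hz2 (by
    show ψ t * (z : G) = (z : G) * ψ t
    rw [← hψy, ← map_mul, ← map_mul]
    exact congrArg ψ (Subtype.ext (D.comm _ t.2 _ hy).eq))
  let f : A →* A := ψ.codRestrict A himg
  let α : MulAut A := MulEquiv.ofBijective f (Finite.injective_iff_bijective.mp fun u w huw =>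
    F.injective_of_mem hψ (congrArg Subtype.val huw))
  have hα : α ∈ F.autGroup A := Subgroup.subset_closure (by
    show A.subtype.comp α.toMonoidHom ∈ F.Hom A
    exact (show A.subtype.comp α.toMonoidHom = ψ from MonoidHom.ext fun _ => rfl) ▸ hψ)
  obtain ⟨u, hu, hαu⟩ := autGroup_A D hM hmax hα
  have h1 : (z : G) = u * y * u⁻¹ := hψy.symm.trans (hαu ⟨y, hy⟩)
  by_cases huA : u ∈ A
  · left
    rw [h1, (D.comm _ huA _ hy).eq, mul_inv_cancel_right]
  · right
    rw [h1, D.conj_out hu huA hy]

end CfsgLib.Block.IndexFour
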