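import Cfsg.Agent.Lib.Block.IndexFour.RigidFour

/-!
# The self-centralizing cyclic subgroup is not normal
-/

open Finset

set_option autoImplicit false
set_option linter.unusedSectionVars false

namespace CfsgLib.Block.IndexFour

universe u

variable {G : Type u} [Group G] [Finite G] {D : Subgroup G} {c : G} {m : ℕ} (S : IndexFour D c m)
include S

/-- Subgroups of index two. -/
theorem IndexFour.index_two {M : Subgroup G} (hMD : M ≤ D) (hMc : Nat.card M = 2 * (2 * 2 ^ m)) :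
    (∀ x ∈ D, ∀ v ∈ M, x * v * x⁻¹ ∈ M) ∧ (∀ x ∈ D, x * x ∈ M) ∧
      ∀ x ∈ D, ∀ v ∈ D, x ∉ M → v ∉ M → x⁻¹ * v ∈ M := by
  have hidx : (M.subgroupOf D).index = 2 := by
    have h1 := Subgroup.card_mul_index (M.subgroupOf D)
    rw [Nat.card_congr (Subgroup.subgroupOfEquivOfLe hMD).toEquiv, hMc, S.card] at h1
    exact Nat.eq_of_mul_eq_mul_left (show 0 < 2 * (2 * 2 ^ m) by positivity) (by rw [h1]; ring)
  have hnorm := Subgroup.normal_of_index_eq_two hidx
  have hmul : ∀ v w : G, v ∈ D → w ∈ D → (v * w ∈ M ↔ (v ∈ M ↔ w ∈ M)) := by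
    intro v w hv hw
    have h := Subgroup.mul_mem_iff_of_index_two hidx (a := (⟨v, hv⟩ : D)) (b := ⟨w, hw⟩)
    simpa [Subgroup.mem_subgroupOf] using h
  refine ⟨fun x hx v hv => ?_, fun x hx => (hmul x x hx hx).mpr Iff.rfl, fun x hx v hv hxM hvM => ?_⟩
  · simpa using Subgroup.mem_subgroupOf.mp (hnorm.conj_mem ⟨v, hMD hv⟩ hv ⟨x, hx⟩)
  · exact (hmul _ _ (inv_mem hx) hv).mpr (by simp [hxM, hvM])

/-- Not normal, with a quaternion normalizer: impossible. -/
theorem false_of_quaternion (hm : m = 1)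
    (hall : ∀ v ∈ D, orderOf v = 2 * 2 ^ m → ∀ w ∈ D, Commute w v → w ∈ Subgroup.zpowers v)
    {M : Subgroup G} (hMD : M ≤ D) (hMc : Nat.card M = 2 * (2 * 2 ^ m)) (hcM : c ∈ M)
    (hNc : ∀ v ∈ M, v * c * v⁻¹ ∈ Subgroup.zpowers c) {x : G} (hx : x ∈ D)
    (hxc : x * c * x⁻¹ ∉ Subgroup.zpowers c) : False := by
  classical
  obtain ⟨hnorm, hsq, -⟩ := S.index_two hMD hMc
  have hord : orderOf c = 4 := by rw [S.order, hm]; rfl
  have h4 : c ^ 4 = 1 := by rw [← hord]; exact pow_orderOf_eq_one c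
  have hc2 : c * c ≠ 1 := fun e => by
    have := Nat.le_of_dvd two_pos (orderOf_dvd_iff_pow_eq_one.mpr (show c ^ 2 = 1 by rw [pow_two]; exact e))
    omega
  set d := x * c * x⁻¹ with hd
  have hdM : d ∈ M := hnorm x hx c hcM
  have hxM : x ∉ M := fun e => hxc (hNc x e)
  have hexp : ∀ v ∈ M, v * c * v⁻¹ = c ∨ v * c * v⁻¹ = c⁻¹ := by
    intro v hv
    obtain ⟨i, hi⟩ := mem_powers_iff_mem_zpowers.mpr (hNc v hv)
    have hi' : v * c * v⁻¹ = c ^ i := hi.symm
    have hodd := S.exp_odd hi'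
    rw [hi', ← pow_mod_orderOf, hord]
    rcases (show i % 4 = 1 ∨ i % 4 = 3 by omega) with e | e <;> rw [e]
    · exact Or.inl (pow_one c)
    · exact Or.inr (eq_inv_of_mul_eq_one_left (by rw [← pow_succ]; exact h4))
  have hcd : d * c * d⁻¹ = c⁻¹ := by
    refine (hexp d hdM).resolve_left fun e => hxc ?_
    exact hall c S.mem S.order d (hMD hdM) (mul_inv_eq_iff_eq_mul.mp e)
  have hd2c : d * d * (c * c) = 1 := by
    -- squares of the elements of the larger coset lie in `⟨c⟩` and have order two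
    have hidx : ((Subgroup.zpowers c).subgroupOf M).index = 2 := by
      have h1 := Subgroup.card_mul_index ((Subgroup.zpowers c).subgroupOf M)
      rw [Nat.card_congr (Subgroup.subgroupOfEquivOfLe (Subgroup.zpowers_le.mpr hcM)).toEquiv,
        Nat.card_zpowers, S.order, hMc, mul_comm 2 (2 * 2 ^ m)] at h1
      exact Nat.eq_of_mul_eq_mul_left (by positivity) h1
    have hdd : d * d ∈ Subgroup.zpowers c := by
      have h := Subgroup.mul_mem_iff_of_index_two hidx (a := (⟨d, hdM⟩ : M)) (b := ⟨d, hdM⟩)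
      simpa [Subgroup.mem_subgroupOf] using h
    have hdd4 : d * d * (d * d) = 1 := by
      rw [hd, show x * c * x⁻¹ * (x * c * x⁻¹) * (x * c * x⁻¹ * (x * c * x⁻¹)) =
        x * (c * c * (c * c)) * x⁻¹ by group, show c * c * (c * c) = c ^ 4 by
          rw [show 4 = 2 * 2 by norm_num, pow_mul, pow_two, pow_two], h4, mul_one, mul_inv_cancel]
    rcases S.sq_one hdd hdd4 with e | e
    · exfalso
      rw [hd, show x * c * x⁻¹ * (x * c * x⁻¹) = x * (c * c) * x⁻¹ by group, conj_eq_one_iff] at e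
      exact hc2 e
    · rw [e, hm, pow_one, pow_two, show c * c * (c * c) = c ^ 4 by
        rw [show 4 = 2 * 2 by norm_num, pow_mul, pow_two, pow_two], h4]
  set w := c * d with hw
  have hcd' : d * c = c⁻¹ * d := by rw [← hcd, inv_mul_cancel_right]
  have hw2 : w * w = d * d := by
    rw [hw, mul_assoc c d, ← mul_assoc d c, hcd', mul_assoc c⁻¹, mul_inv_cancel_left]
  have hwne : w * w ≠ 1 := by
    rw [hw2]
    intro e
    exact hc2 (by rwa [e, one_mul] at hd2c)
  have hwo : orderOf w = 2 * 2 ^ m := by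
    rw [hm, show 2 * 2 ^ 1 = 2 ^ (1 + 1) from rfl]
    refine orderOf_eq_prime_pow (by rw [pow_one, pow_two]; exact hwne) ?_
    rw [show (2 : ℕ) ^ (1 + 1) = 2 * 2 from rfl, pow_mul, pow_two, pow_two, hw2]
    rw [hd, show x * c * x⁻¹ * (x * c * x⁻¹) * (x * c * x⁻¹ * (x * c * x⁻¹)) =
      x * (c * c * (c * c)) * x⁻¹ by group, show c * c * (c * c) = c ^ 4 by
        rw [show 4 = 2 * 2 by norm_num, pow_mul, pow_two, pow_two], h4, mul_one, mul_inv_cancel]
  have hwM : w ∈ M := mul_mem hcM hdM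
  have hcwc : c * w * c⁻¹ = w⁻¹ := by
    refine eq_inv_of_mul_eq_one_left ?_
    rw [hw, show c * (c * d) * c⁻¹ * (c * d) = c * c * (d * d) by group]
    have h1 : Commute (c * c) (d * d) := by
      rw [show d * d = (c * c)⁻¹ from eq_inv_of_mul_eq_one_left hd2c]
      exact (Commute.refl _).inv_right
    rw [h1.eq]
    exact hd2c
  have hxw : x * w * x⁻¹ = w ∨ x * w * x⁻¹ = w⁻¹ := by
    have e1 : x * d * x⁻¹ = x * x * c * (x * x)⁻¹ := by rw [hd]; group
    have e2 : x * w * x⁻¹ = d * (x * d * x⁻¹) := by rw [hw, hd]; group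
    rcases hexp _ (hsq x hx) with e | e
    · refine Or.inr ?_
      rw [e2, e1, e]
      refine eq_inv_of_mul_eq_one_left ?_
      rw [hw, show d * c * (c * d) = d * (c * c) * d by group]
      have h1 : c * c = (d * d)⁻¹ := eq_inv_of_mul_eq_one_right hd2c
      rw [h1]
      group
    · refine Or.inl ?_
      rw [e2, e1, e, hw]
      have := congrArg (·⁻¹) hcd
      simp only [mul_inv_rev, inv_inv] at this
      nth_rw 2 [← this]
      group
  have key : ∀ z ∈ D, z ∉ M → ¬ Commute z w := fun z hz hzM h1 =>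
    hzM (Subgroup.zpowers_le.mpr hwM (hall w (hMD hwM) hwo z hz h1))
  rcases hxw with e | e
  · exact key x hx hxM (mul_inv_eq_iff_eq_mul.mp e)
  · refine key (x * c) (mul_mem hx S.mem) (fun e' => hxM ?_) (mul_inv_eq_iff_eq_mul.mp ?_)
    · simpa using mul_mem e' (inv_mem hcM)
    · rw [show x * c * w * (x * c)⁻¹ = x * (c * w * c⁻¹) * x⁻¹ by group, hcwc,
        show x * w⁻¹ * x⁻¹ = (x * w * x⁻¹)⁻¹ by group, e, inv_inv]

/-- `⟨c⟩` not normal. -/
theorem classify_moved (hm : 1 ≤ m)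
    (hall : ∀ v ∈ D, orderOf v = 2 * 2 ^ m → ∀ w ∈ D, Commute w v → w ∈ Subgroup.zpowers v)
    {x : G} (hx : x ∈ D) (hxc : x * c * x⁻¹ ∉ Subgroup.zpowers c) :
    CentralSmall D ∨ ∃ a x M k, FamQuot D M c a x m k := by
  classical
  have hpf : Fact (Nat.Prime 2) := ⟨Nat.prime_two⟩
  have hpos := Nat.two_pow_pos m
  have hself := hall c S.mem S.order
  set X := (Subgroup.zpowers c).subgroupOf D with hX
  -- a normalizing element
  obtain ⟨w, hwD, hwn, hwN⟩ : ∃ w ∈ D, w ∉ Subgroup.zpowers c ∧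
      ∀ l : ℕ, w ^ l * c * (w ^ l)⁻¹ ∈ Subgroup.zpowers c := by
    haveI : Group.IsNilpotent D := S.pGroup.isNilpotent
    have hlt : X < ⊤ := lt_top_iff_ne_top.mpr fun e => hxc (by
      have h1 : (⟨x, hx⟩ : D) ∈ X := by rw [e]; trivial
      obtain ⟨l, hl⟩ := mem_powers_iff_mem_zpowers.mpr (Subgroup.mem_subgroupOf.mp h1)
      rw [show x = c ^ l from hl.symm, (Commute.pow_self c l).eq, mul_inv_cancel_right]
      exact Subgroup.mem_zpowers c)
    obtain ⟨w, hwN, hwX⟩ := SetLike.exists_of_lt (normalizerCondition_of_isNilpotent X hlt)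
    refine ⟨w, w.2, hwX, fun l => ?_⟩
    have h1 := (Subgroup.mem_normalizer_iff.mp (pow_mem hwN l) ⟨c, S.mem⟩).mp (Subgroup.mem_zpowers c)
    simpa [hX, Subgroup.mem_subgroupOf] using h1
  obtain ⟨k, hk⟩ := S.pGroup ⟨w, hwD⟩
  obtain ⟨y, hy, hyn, hyy, hyc⟩ : ∃ y ∈ D, y ∉ Subgroup.zpowers c ∧ y * y ∈ Subgroup.zpowers c ∧
      y * c * y⁻¹ ∈ Subgroup.zpowers c := by
    rcases exists_sq_mem (C := Subgroup.zpowers c) k w (by
      rw [show w ^ (2 ^ k) = 1 from congrArg Subtype.val hk]; exact one_mem _) with h | ⟨l, hl, hll⟩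
    · exact absurd h hwn
    · exact ⟨w ^ l, pow_mem hwD l, hl, hll, hwN l⟩
  obtain ⟨i, hi⟩ := mem_powers_iff_mem_zpowers.mpr hyc
  have hi' : y * c * y⁻¹ = c ^ i := hi.symm
  have hodd := S.exp_odd hi'
  set h := 2 ^ m with hh
  have hne : i % (2 * h) ≠ 1 := fun e => hyn (hself y hy (mul_inv_eq_iff_eq_mul.mp (by
    rw [hi']
    conv_rhs => rw [← pow_one c]
    rw [S.pow_eq, ← hh, e, Nat.mod_eq_of_lt (by omega)])))
  have hi2 : i * i % 2 ^ (m + 1) = 1 := by
    have h1 : c ^ (i * i) = c ^ 1 := by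
      obtain ⟨s, hs⟩ := mem_powers_iff_mem_zpowers.mpr hyy
      rw [pow_one, pow_mul, ← hi', conj_pow, ← hi',
        show y * (y * c * y⁻¹) * y⁻¹ = (y * y) * c * (y * y)⁻¹ by group, ← (hs : c ^ s = y * y),
        (Commute.pow_self c s).eq, mul_inv_cancel_right]
    rw [S.pow_eq] at h1
    rw [pow_succ', ← hh, h1, Nat.mod_eq_of_lt (by omega)]
  obtain ⟨M₀, hM₀D, hcM₀, hyM₀, hM₀c, hmemM₀⟩ := exists_double S.mem hy hyc hyy hyn
  rw [S.order] at hM₀c
  have hN₀ : ∀ v ∈ M₀, v * c * v⁻¹ ∈ Subgroup.zpowers c := by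
    intro v hv
    obtain ⟨l, rfl | rfl⟩ := (hmemM₀ v).mp hv
    · rw [(Commute.pow_self c l).eq, mul_inv_cancel_right]; exact Subgroup.mem_zpowers c
    · rw [show y * c ^ l * c * (y * c ^ l)⁻¹ = y * (c ^ l * c * (c ^ l)⁻¹) * y⁻¹ by group,
        (Commute.pow_self c l).eq, mul_inv_cancel_right]
      exact hyc
  by_cases hm1 : m = 1
  · exact (false_of_quaternion S hm1 hall hM₀D hM₀c hcM₀ hN₀ hx hxc).elim
  have hm2 : 2 ≤ m := by omega
  obtain ⟨f, hf⟩ : 4 ∣ h := by rw [hh]; exact pow_dvd_pow 2 hm2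
  by_cases hi4 : i % 4 = 3
  · -- every element outside `⟨c⟩` has order at most four
    exfalso
    obtain ⟨s, hs⟩ := mem_powers_iff_mem_zpowers.mpr hyy
    have hs' : c ^ s = y * y := hs
    have h1 : (i * s) % (2 * h) = s % (2 * h) := by
      rw [hh, ← S.pow_eq, pow_mul, ← hi', conj_pow, hs']
      simp [mul_assoc]
    have hsd : h ∣ s := S.dvd_of_three hi4 h1
    obtain ⟨l, hl | hl⟩ := (hmemM₀ _).mp ((S.index_two hM₀D hM₀c).1 x hx c hcM₀)
    · exact hxc (hl ▸ Subgroup.npow_mem_zpowers c l)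
    have e1 : (y * c ^ l) * (y * c ^ l) = c ^ (i * l + s + l) := by
      rw [pow_add, pow_add, hs', show c ^ (i * l) = y * c ^ l * y⁻¹ by rw [← conj_pow, hi', ← pow_mul]]
      group
    have e2 : (2 * h) ∣ 2 * (i * l + s + l) := by
      refine Nat.mul_dvd_mul_left 2 ?_
      have h2 := sq_one_mod hm hi2
      rw [pow_succ', ← hh] at h2
      have h3 : h ∣ i + 1 := by
        have h8 := Nat.div_add_mod i (2 * h)
        rcases h2 with e | e | e | e
        · exact absurd e hne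
        · exact ⟨2 * (i / (2 * h)) + 2, by rw [mul_add, ← mul_assoc, mul_comm h 2]; omega⟩
        · have : i % (2 * h) % 4 = 3 := by rw [Nat.mod_mod_of_dvd _ ⟨2 * f, by rw [hf]; ring⟩, hi4]
          omega
        · exact ⟨2 * (i / (2 * h)) + 1, by rw [mul_add, ← mul_assoc, mul_comm h 2]; omega⟩
      rw [show i * l + s + l = (i + 1) * l + s by ring]
      exact dvd_add (h3.mul_right l) hsd
    have e3 : (y * c ^ l) ^ 4 = 1 := by
      rw [show 4 = 2 * 2 by norm_num, pow_mul, pow_two, pow_two, e1, ← pow_add, ← two_mul, S.pow_eq_one]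
      exact e2
    rw [← hl, conj_pow, conj_eq_one_iff, S.pow_eq_one] at e3
    have := Nat.le_of_dvd (by norm_num) e3
    omega
  -- the modular normalizer
  have hrel : y * c * y⁻¹ = c ^ (h + 1) := by
    rw [hi', S.pow_eq, ← hh, Nat.mod_eq_of_lt (show h + 1 < 2 * h by omega)]
    have h2 := sq_one_mod hm hi2
    rw [pow_succ', ← hh] at h2
    have h5 : i % (2 * h) % 4 = i % 4 := Nat.mod_mod_of_dvd _ ⟨2 * f, by rw [hf]; ring⟩
    omega
  obtain ⟨M, a, hMD, hP, hMc, han, -⟩ := S.exists_modular hm2 hy hrel hyy hyn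
  obtain ⟨hnorm, hsqM, hdiff⟩ := S.index_two hMD hMc
  have hNM : ∀ v ∈ M, v * c * v⁻¹ ∈ Subgroup.zpowers c := by
    intro v hv
    obtain ⟨l, rfl | rfl⟩ := hP.cases v hv
    · rw [(Commute.pow_self c l).eq, mul_inv_cancel_right]; exact Subgroup.mem_zpowers c
    · rw [show a * c ^ l * c * (a * c ^ l)⁻¹ = a * (c ^ l * c * (c ^ l)⁻¹) * a⁻¹ by group,
        (Commute.pow_self c l).eq, mul_inv_cancel_right, hP.rel]
      exact Subgroup.npow_mem_zpowers c _
  have hxM : x ∉ M := fun e => hxc (hNM x e)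
  obtain ⟨l, hl⟩ : ∃ l, x * c * x⁻¹ = a * c ^ l := by
    obtain ⟨l, hl | hl⟩ := hP.cases _ (hnorm x hx c hP.memx)
    · exact absurd (hl ▸ Subgroup.npow_mem_zpowers c l) hxc
    · exact ⟨l, hl⟩
  have hlodd : l % 2 = 1 := by
    by_contra hev
    have h1 : (x * c * x⁻¹) ^ h = 1 := by rw [hl, hh, hP.pow_h_out]; omega
    rw [conj_pow, conj_eq_one_iff] at h1
    exact S.q_ne h1
  set j := (2 * f + 1) * l with hj
  have hjodd : j % 2 = 1 := by rw [hj, Nat.mul_mod]; simp [hlodd, Nat.add_mod]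
  have hxc2 : ∀ t : ℕ, x * c ^ (2 * t) * x⁻¹ = c ^ (2 * (j * t)) := by
    intro t
    rw [← conj_pow, pow_mul, pow_two, hl, hP.sq_out, ← pow_mul, ← hh, hj, hf]
    congr 1
    ring
  have hMc2 : ∀ v ∈ M, ∀ t : ℕ, Commute v (c ^ (2 * t)) := by
    intro v hv t
    obtain ⟨r, rfl | rfl⟩ := hP.cases v hv
    · exact Commute.pow_pow_self c r _
    · exact (hP.commute_even t).mul_left (Commute.pow_pow_self c r _)
  have hDc2 : ∀ v ∈ D, v ∉ M → ∀ t : ℕ, v * c ^ (2 * t) * v⁻¹ = c ^ (2 * (j * t)) := by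
    intro v hv hvM t
    rw [show v * c ^ (2 * t) * v⁻¹ = x * ((x⁻¹ * v) * c ^ (2 * t) * (x⁻¹ * v)⁻¹) * x⁻¹ by group,
      (hMc2 _ (hdiff x hx v hv hxM hvM) t).eq, mul_inv_cancel_right, hxc2]
  have hcenOf : ∀ t : ℕ, x * c ^ (2 * t) * x⁻¹ = c ^ (2 * t) → ∀ v ∈ D, Commute v (c ^ (2 * t)) := by
    intro t ht v hv
    by_cases hvM : v ∈ M
    · exact hMc2 v hvM t
    · refine mul_inv_eq_iff_eq_mul.mp ?_
      rw [hDc2 v hv hvM, ← hxc2, ht]
  have hjj : j * j % 2 ^ (m - 1 + 1) = 1 := by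
    have h1 : c ^ (2 * (j * (j * 1))) = c ^ (2 * 1) := by
      rw [← hxc2, ← hxc2, show x * (x * c ^ (2 * 1) * x⁻¹) * x⁻¹ = (x * x) * c ^ (2 * 1) * (x * x)⁻¹ by group,
        (hMc2 _ (hsqM x hx) 1).eq, mul_inv_cancel_right]
    rw [S.pow_eq, Nat.mul_mod_mul_left, Nat.mul_mod_mul_left, ← hh, mul_one] at h1
    rw [Nat.sub_add_cancel hm, ← hh]
    have := Nat.eq_of_mul_eq_mul_left two_pos h1
    rw [this, Nat.mod_eq_of_lt (by omega)]
  have hroots := sq_one_mod (show 1 ≤ m - 1 by omega) hjj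
  rw [Nat.sub_add_cancel hm, ← hh] at hroots
  have hg : (2 : ℕ) * 2 ^ (m - 1) = h := by rw [← pow_succ', Nat.sub_add_cancel hm, hh]
  have hj4 : j % h % 4 = j % 4 := Nat.mod_mod_of_dvd _ ⟨f, hf⟩
  have hrel' : a * c * a⁻¹ = c ^ (h * 1 + 1) := by rw [mul_one]; exact hP.rel
  have hMp : ∀ v ∈ M, ∃ p q : ℕ, p ≤ 1 ∧ v = a ^ p * c ^ q := by
    intro v hv
    obtain ⟨r, hr | hr⟩ := hP.cases v hv
    · exact ⟨0, r, by omega, by simpa using hr⟩
    · exact ⟨1, r, le_rfl, by simpa using hr⟩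
  by_cases hjone : j % h = 1
  · -- quotient by `⟨c ^ 2⟩`
    have hcen : ∀ v ∈ D, Commute v (c ^ 2) := hcenOf 1 (by
      rw [hxc2, mul_one, mul_one, S.pow_eq, Nat.mul_mod_mul_left, ← hh, hjone,
        Nat.mod_eq_of_lt (show 2 < 2 * h by omega)])
    set U := Subgroup.zpowers (c ^ 2) with hU
    have hUC : U ≤ Subgroup.zpowers c := Subgroup.zpowers_le.mpr (Subgroup.npow_mem_zpowers c 2)
    have hUcard : Nat.card U = h := by
      rw [hU, Nat.card_zpowers, orderOf_pow, S.order, Nat.gcd_eq_right (dvd_mul_right 2 h),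
        Nat.mul_div_cancel_left _ two_pos]
    obtain ⟨w, hw, hww⟩ : ∃ w ∈ D, w * w ∉ U := by
      by_cases hxx : x * x ∈ U
      · refine ⟨x * c, mul_mem hx S.mem, fun e => han ?_⟩
        rw [show x * c * (x * c) = (x * c * x⁻¹) * (x * x) * c by group, hl] at e
        have h1 := mul_mem (mul_mem (hUC e) (inv_mem (Subgroup.mem_zpowers c))) (inv_mem (hUC hxx))
        rw [mul_inv_cancel_right, mul_inv_cancel_right] at h1
        simpa using mul_mem h1 (inv_mem (Subgroup.npow_mem_zpowers c l))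
      · exact ⟨x, hx, hxx⟩
    refine Or.inl ⟨c ^ 2, pow_mem S.mem 2, hcen, Or.inl ⟨w, hw, ?_⟩⟩
    set W := Subgroup.zpowers w ⊔ U with hW
    have hUW : U ≤ W := le_sup_right
    have hWD : W ≤ D := sup_le (Subgroup.zpowers_le.mpr hw) (Subgroup.zpowers_le.mpr (pow_mem S.mem 2))
    obtain ⟨r, hr⟩ := Subgroup.card_dvd_of_le hUW
    obtain ⟨r', hr'⟩ := Subgroup.card_dvd_of_le hWD
    rw [hUcard] at hr
    have hwW : w ∈ W := Subgroup.mem_sup_left (Subgroup.mem_zpowers w)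
    have hr2 : r ≠ 2 := fun e => hww (by
      have hidx : (U.subgroupOf W).index = 2 := by
        have h1 := Subgroup.card_mul_index (U.subgroupOf W)
        rw [Nat.card_congr (Subgroup.subgroupOfEquivOfLe hUW).toEquiv, hUcard, hr, e] at h1
        exact Nat.eq_of_mul_eq_mul_left hpos h1
      have h := Subgroup.mul_mem_iff_of_index_two hidx (a := (⟨w, hwW⟩ : W)) (b := ⟨w, hwW⟩)
      simpa [Subgroup.mem_subgroupOf] using h)
    have hr1 : r ≠ 1 := fun e => hww (by
      have h1 := Subgroup.eq_of_le_of_card_ge hUW (by rw [hr, e, hUcard, mul_one])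
      rw [h1]; exact mul_mem hwW hwW)
    have h8 : r * r' = 8 := by
      rw [S.card, hr, ← hh, mul_assoc] at hr'
      exact Nat.eq_of_mul_eq_mul_left hpos (by rw [← hr']; ring)
    have hr4 : 4 ≤ r := by
      have hdvd : r ∣ 8 := ⟨r', h8.symm⟩
      have := Nat.le_of_dvd (by norm_num) hdvd
      have : r ≠ 0 := fun e => by rw [e, zero_mul] at h8; omega
      have : r ≠ 3 := fun e => by rw [e] at hdvd; norm_num at hdvd
      omega
    rw [S.card, hr, ← hh]
    calc 4 * (2 * h) = 2 * (h * 4) := by ring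
      _ ≤ 2 * (h * r) := Nat.mul_le_mul_left _ (Nat.mul_le_mul_left _ hr4)
  · -- the family
    have hxq : x * c ^ h * x⁻¹ = c ^ h := by
      rw [hf, show 4 * f = 2 * (2 * f) by ring, hxc2, S.pow_eq, ← hh]
      obtain ⟨u, hu⟩ : ∃ u, j = 2 * u + 1 := ⟨j / 2, by omega⟩
      rw [hu, show 2 * ((2 * u + 1) * (2 * f)) = 2 * (2 * f) + 2 * h * u by rw [hf]; ring,
        Nat.add_mul_mod_self_left]
    have hxa : x * a * x⁻¹ = a ∨ x * a * x⁻¹ = a * c ^ h := by
      have h2 := hP.sq_one_mem (hnorm x hx a hP.memy) (by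
        rw [show x * a * x⁻¹ * (x * a * x⁻¹) = x * (a * a) * x⁻¹ by group,
          hP.sqy, mul_one, mul_inv_cancel])
      simp only [Finset.mem_insert, Finset.mem_singleton] at h2
      rcases h2 with e1 | e1 | e1 | e1
      · exact absurd (by rw [conj_eq_one_iff.mp e1]; exact one_mem _) han
      · refine absurd ?_ han
        rw [show a = c ^ h from conj_injective (e1.trans hxq.symm)]
        exact Subgroup.npow_mem_zpowers c h
      · exact Or.inl e1
      · exact Or.inr e1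
    obtain ⟨k, g', hk0, hkm, hgc, hkg, hgh, hge, hfixg, hsqd, hout⟩ : ∃ k g' : ℕ, 0 < k ∧ k < m + 1 ∧
        (2 * g' = h ∨ 2 * g' = 4) ∧ 2 * 2 ^ k = 2 * g' ∧ 2 * g' ∣ h ∧ 2 ∣ g' ∧ x * c ^ (2 * g') * x⁻¹ = c ^ (2 * g') ∧
        (∀ r : ℕ, (h : ℤ) ∣ (2 : ℤ) * (j * r) - 2 * r → 2 * g' ∣ 4 * r) ∧
        ∀ t : ℕ, 2 * t % (2 * g') = g' → ¬ (2 * (j * t)) % (2 * h) = (2 * t) % (2 * h) := by
      by_cases hj3 : j % 4 = 3
      · refine ⟨m - 1, 2 ^ (m - 1), by omega, by omega, Or.inl hg, rfl, hg.symm ▸ dvd_refl h,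
          dvd_pow_self 2 (by omega), by rw [hg]; exact hxq, fun r hr => ?_, fun t ht hcon => ?_⟩
        · rw [hg]
          refine hh ▸ S.dvd_of_three hj3 ((Nat.modEq_iff_dvd.mpr ?_).symm)
          push_cast
          obtain ⟨z, hz⟩ := hr
          exact ⟨z, by
            have hh' : (h : ℤ) = 2 ^ m := by exact_mod_cast hh
            linear_combination 2 * hz + 2 * z * hh'⟩
        · have h1 : h ∣ 2 * t := hh ▸ S.dvd_of_three hj3 (by
            rw [show j * (2 * t) = 2 * (j * t) by ring]; exact hcon)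
          rw [hg, Nat.mod_eq_zero_of_dvd h1] at ht
          have := Nat.two_pow_pos (m - 1)
          omega
      · have hm3 : 3 ≤ m := by
          by_contra
          have : m = 2 := by omega
          rw [this] at hh
          omega
        have hg8 : j % h = 2 ^ (m - 1) + 1 := by
          have : 4 ∣ 2 ^ (m - 1) := pow_dvd_pow 2 (show 2 ≤ m - 1 by omega)
          omega
        obtain ⟨q, hq⟩ : ∃ q, j = h * q + (2 ^ (m - 1) + 1) := ⟨j / h, by
          have := Nat.div_add_mod j h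
          rw [hg8] at this
          exact this.symm⟩
        refine ⟨1, 2, by omega, by omega, Or.inr rfl, by norm_num, ?_, dvd_refl 2, ?_, fun r _ => dvd_mul_right 4 r,
          fun t ht hcon => ?_⟩
        · rw [hf]; exact dvd_mul_right 4 f
        · rw [show (2 : ℕ) * 2 = 2 * 2 from rfl, hxc2, S.pow_eq, ← hh, hq,
            show 2 * ((h * q + (2 ^ (m - 1) + 1)) * 2) = 2 * 2 + 2 * h * (2 * q + 1) by rw [← hg]; ring,
            Nat.add_mul_mod_self_left]
        · have hto : t % 2 = 1 := by omega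
          obtain ⟨z, hz⟩ := Nat.modEq_iff_dvd.mp hcon.symm
          rw [hq, ← hg] at hz
          push_cast at hz
          have e : (t : ℤ) * (2 * q + 1) = 2 * z :=
            mul_left_cancel₀ (show (2 * 2 ^ (m - 1) : ℤ) ≠ 0 by positivity) (by linear_combination hz)
          obtain ⟨t', rfl⟩ : ∃ t', t = 2 * t' + 1 := ⟨t / 2, by omega⟩
          push_cast at e
          have e' : (2 : ℤ) * (2 * t' * q + t' + q) + 1 = 2 * z := by linear_combination e
          omega
    set U := Subgroup.zpowers (c ^ (2 * g')) with hU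
    have hcen : ∀ v ∈ D, Commute v (c ^ (2 * g')) := hcenOf g' hfixg
    have hqU : c ^ h ∈ U := by
      obtain ⟨z, hz⟩ := hgh
      rw [hz, pow_mul]
      exact Subgroup.npow_mem_zpowers _ z
    have hUC : U ≤ Subgroup.zpowers c := Subgroup.zpowers_le.mpr (Subgroup.npow_mem_zpowers c _)
    refine Or.inr ⟨a, x, M, k, hk0, hkm, ?_, hMD, hP.memx, hP.memy, hMc, han, ?_, hx, hxM, ?_, ?_,
      ?_, ?_⟩
    all_goals try rw [hkg]
    · exact hcen
    · rw [hP.sqy]; exact one_mem _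
    · intro v hv w hw
      obtain ⟨p, q, -, rfl⟩ := hMp v hv
      obtain ⟨r, s, -, rfl⟩ := hMp w hw
      exact Subgroup.zpowers_le.mpr hqU (comm_mem hrel' p q r s)
    · rcases hxa with e1 | e1 <;> rw [e1]
      · rw [mul_inv_cancel]; exact one_mem _
      · have hca : Commute a (c ^ h) := by
          rw [hf, show 4 * f = 2 * (2 * f) by ring]; exact hP.commute_even _
        rw [hca.eq, mul_inv_cancel_right]
        exact hqU
    · intro v hv hcom
      obtain ⟨p, q, hp, rfl⟩ := hMp v hv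
      have hidx : ((Subgroup.zpowers c).subgroupOf M).index = 2 := by
        have h1 := Subgroup.card_mul_index ((Subgroup.zpowers c).subgroupOf M)
        rw [Nat.card_congr (Subgroup.subgroupOfEquivOfLe (Subgroup.zpowers_le.mpr hP.memx)).toEquiv,
          Nat.card_zpowers, S.order, hMc, ← hh, mul_comm 2 (2 * h)] at h1
        exact Nat.eq_of_mul_eq_mul_left (by omega) h1
      have hmul : ∀ v w : G, v ∈ M → w ∈ M → (v * w ∈ Subgroup.zpowers c ↔
          (v ∈ Subgroup.zpowers c ↔ w ∈ Subgroup.zpowers c)) := by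
        intro v w hv hw
        have h := Subgroup.mul_mem_iff_of_index_two hidx (a := (⟨v, hv⟩ : M)) (b := ⟨w, hw⟩)
        simpa [Subgroup.mem_subgroupOf] using h
      have haM := hP.memy
      have hxap : x * a ^ p * x⁻¹ = a ^ p ∨ x * a ^ p * x⁻¹ = a ^ p * c ^ h := by
        rcases (show p = 0 ∨ p = 1 by omega) with rfl | rfl
        · exact Or.inl (by simp)
        · rw [pow_one]; exact hxa
      obtain ⟨z, hzU, hxap⟩ : ∃ z ∈ U, x * a ^ p * x⁻¹ = a ^ p * z := by
        rcases hxap with e1 | e1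
        · exact ⟨1, one_mem U, by rw [e1, mul_one]⟩
        · exact ⟨_, hqU, e1⟩
      have e2 : x * (a ^ p * c ^ q) * x⁻¹ * (a ^ p * c ^ q)⁻¹ =
          a ^ p * (z * ((x * c * x⁻¹) ^ q * (c ^ q)⁻¹)) * (a ^ p)⁻¹ := by
        rw [show x * (a ^ p * c ^ q) * x⁻¹ = x * a ^ p * x⁻¹ * (x * c ^ q * x⁻¹) by group, hxap, ← conj_pow]
        group
      rw [e2] at hcom
      obtain ⟨r, hr⟩ := mem_powers_iff_mem_zpowers.mpr hcom
      have hap : Commute (a ^ p) ((c ^ (2 * g')) ^ r) := ((hcen a (hMD haM)).pow_left p).pow_right r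
      have h1 : z * ((x * c * x⁻¹) ^ q * (c ^ q)⁻¹) ∈ U := by
        rw [show z * ((x * c * x⁻¹) ^ q * (c ^ q)⁻¹) = (a ^ p)⁻¹ *
          (a ^ p * (z * ((x * c * x⁻¹) ^ q * (c ^ q)⁻¹)) * (a ^ p)⁻¹) * a ^ p by group,
          ← (hr : (c ^ (2 * g')) ^ r = _), mul_assoc, ← hap.eq, inv_mul_cancel_left]
        exact Subgroup.npow_mem_zpowers _ r
      have h2 : (x * c * x⁻¹) ^ q * (c ^ q)⁻¹ ∈ U := by
        have := mul_mem (inv_mem hzU) h1
        rwa [inv_mul_cancel_left] at this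
      obtain ⟨s, rfl⟩ : 2 ∣ q := by
        by_contra hqo
        obtain ⟨s, rfl⟩ : ∃ s, q = 2 * s + 1 := ⟨q / 2, by omega⟩
        refine hxc ?_
        have h3 := mul_mem (hUC h2) (Subgroup.npow_mem_zpowers c (2 * s + 1))
        rw [inv_mul_cancel_right, pow_succ] at h3
        have h4 : (x * c * x⁻¹) ^ (2 * s) ∈ Subgroup.zpowers c := by
          rw [conj_pow, hxc2]; exact Subgroup.npow_mem_zpowers c _
        have := mul_mem (inv_mem h4) h3
        rwa [inv_mul_cancel_left] at this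
      rw [conj_pow, hxc2] at h2
      obtain ⟨e, he⟩ := mem_powers_iff_mem_zpowers.mpr h2
      have h5 : (h : ℤ) ∣ (2 : ℤ) * (j * s) - 2 * s ∨ 2 * g' ∣ 4 * s := by
        by_cases hgg : 2 * g' = h
        · refine Or.inl ?_
          have h6 : c ^ (2 * g' * e + 2 * s) = c ^ (2 * (j * s)) := by
            have he' : (c ^ (2 * g')) ^ e = c ^ (2 * (j * s)) * (c ^ (2 * s))⁻¹ := he
            rw [pow_add, pow_mul, he', inv_mul_cancel_right]
          rw [S.pow_eq, ← hh, hgg] at h6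
          obtain ⟨w, hw⟩ := Nat.modEq_iff_dvd.mp h6
          push_cast at hw
          exact ⟨2 * w + e, by linear_combination hw⟩
        · refine Or.inr ?_
          have hkm2 : 2 * g' = 4 := hgc.resolve_left hgg
          rw [hkm2]; exact dvd_mul_right 4 s
      have h7 : 2 * g' ∣ 4 * s := h5.elim (hsqd s) id
      have hq4 : c ^ (4 * s) ∈ U := by
        obtain ⟨w, hw⟩ := h7
        rw [hw, pow_mul]; exact Subgroup.npow_mem_zpowers _ w
      rcases (show p = 0 ∨ p = 1 by omega) with rfl | rfl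
      · rw [pow_zero, one_mul, ← pow_add, ← two_mul, ← mul_assoc]; exact hq4
      · rw [pow_one, hP.sq_out, ← hh, show (h + 2) * (2 * s) = h * (2 * s) + 4 * s by ring, pow_add]
        refine mul_mem ?_ hq4
        have h8 := pow_mem hqU (2 * s)
        rwa [← pow_mul] at h8
    · intro v hv hvM hcon
      obtain ⟨e, he⟩ := mem_powers_iff_mem_zpowers.mpr hcon
      have hg2 : 2 ^ k = g' := Nat.eq_of_mul_eq_mul_left two_pos hkg
      obtain ⟨g'', rfl⟩ := hge
      have hvv : v * v = c ^ (2 * (g'' * (2 * e + 1))) := by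
        have h1 : c ^ (2 ^ k) * (c ^ (2 * (2 * g''))) ^ e = v * v := by
          have he' : (c ^ (2 * (2 * g''))) ^ e = (c ^ (2 ^ k))⁻¹ * (v * v) := he
          rw [he', mul_inv_cancel_left]
        rw [← h1, hg2, ← pow_mul, ← pow_add]
        congr 1
        ring
      refine hout (g'' * (2 * e + 1)) ?_ ?_
      · rw [show 2 * (g'' * (2 * e + 1)) = 2 * g'' + 2 * (2 * g'') * e by ring, Nat.add_mul_mod_self_left]
        refine Nat.mod_eq_of_lt ?_
        have : 0 < 2 * g'' := hg2 ▸ Nat.two_pow_pos k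
        omega
      · rw [hh, ← S.pow_eq, ← hDc2 v hv hvM, ← hvv]
        simp [mul_assoc]

end CfsgLib.Block.IndexFour
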