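import Cfsg.Agent.Lib.Block.IndexFour.RigidNormal
import Cfsg.Agent.Lib.Block.IndexFour.RigidMoved

/-!
# 2-groups with a cyclic subgroup of index at most four
-/

open Finset

set_option autoImplicit false
set_option linter.unusedSectionVars false

namespace CfsgLib.Block.IndexFour

universe u

variable {G : Type u} [Group G] [Finite G] {D : Subgroup G}

/-- The two cases for a fixed generator. -/
theorem IndexFour.classify {c : G} {m : ℕ} (S : IndexFour D c m) :
    CentralSmall D ∨
      ((∀ v ∈ D, orderOf v = 2 * 2 ^ m → ∀ w ∈ D, Commute w v → w ∈ Subgroup.zpowers v) ∧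
        ∃ a x M k, FamQuot D M c a x m k) := by
  classical
  by_cases hcc : ∀ v ∈ D, Commute v c
  · exact Or.inl (S.of_gen_central hcc)
  have hm := S.two_le hcc
  by_cases hall : ∀ v ∈ D, orderOf v = 2 * 2 ^ m → ∀ w ∈ D, Commute w v → w ∈ Subgroup.zpowers v
  swap
  · push Not at hall
    obtain ⟨v, hv, ho, w, hw, hwv, hwn⟩ := hall
    exact Or.inl ((show IndexFour D v m from ⟨S.pGroup, hv, ho, S.card, S.exp⟩).of_centralizer hw hwv hwn)
  suffices h : CentralSmall D ∨ ∃ a x M k, FamQuot D M c a x m k from h.imp_right fun h => ⟨hall, h⟩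
  by_cases hN : ∀ v ∈ D, v * c * v⁻¹ ∈ Subgroup.zpowers c
  · by_cases hsq : ∀ v ∈ D, v * v ∈ Subgroup.zpowers c
    · exact Or.inr (classify_squares S hm (hall c S.mem S.order) hN hsq)
    · push Not at hsq
      obtain ⟨x, hx, hxx⟩ := hsq
      exact classify_cyclic S hm (hall c S.mem S.order) hN hx hxx
  · push Not at hN
    obtain ⟨x, hx, hxc⟩ := hN
    exact classify_moved S hm hall hx hxc

/-- An element of largest order. -/
theorem exists_indexFour (hD : IsPGroup 2 D) {C : Subgroup G} (hCD : C ≤ D) (hcyc : IsCyclic C)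
    (hidx : C.relIndex D ≤ 4) : CentralSmall D ∨ ∃ c m, IndexFour D c m := by
  classical
  haveI := Fintype.ofFinite D
  obtain ⟨c, -, hmax⟩ := Finset.exists_max_image (Finset.univ : Finset D) (fun v => orderOf (v : G))
    Finset.univ_nonempty
  have hC : Nat.card C ≤ orderOf (c : G) := by
    obtain ⟨g, hg⟩ := hcyc.exists_generator
    have h1 := hmax ⟨(g : G), hCD g.2⟩ (Finset.mem_univ _)
    rwa [Subgroup.orderOf_coe g, orderOf_eq_card_of_forall_mem_zpowers hg] at h1
  have hle : Nat.card D ≤ 4 * orderOf (c : G) := by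
    have h1 := Subgroup.card_mul_index (C.subgroupOf D)
    rw [Nat.card_congr (Subgroup.subgroupOfEquivOfLe hCD).toEquiv] at h1
    have hidx' : (C.subgroupOf D).index ≤ 4 := hidx
    rw [← h1]
    calc Nat.card C * (C.subgroupOf D).index ≤ orderOf (c : G) * 4 := Nat.mul_le_mul hC hidx'
      _ = _ := mul_comm _ _
  by_cases hlarge : Nat.card D ≤ 2 * orderOf (c : G)
  · exact Or.inl (centralSmall_of_large c.2 hlarge)
  obtain ⟨r, hr⟩ := IsPGroup.iff_orderOf.mp hD c
  rw [← Subgroup.orderOf_coe] at hr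
  have hpf : Fact (Nat.Prime 2) := ⟨Nat.prime_two⟩
  obtain ⟨s, hs⟩ := IsPGroup.iff_card.mp hD
  rcases r with _ | m
  · exfalso
    apply hlarge
    have h1 : ∀ v : D, v = 1 := fun v => by
      have h2 := hmax v (Finset.mem_univ _)
      simp only [hr, pow_zero] at h2
      exact Subtype.ext (orderOf_eq_one_iff.mp (le_antisymm h2 (orderOf_pos _)))
    haveI : Subsingleton D := ⟨fun a b => by rw [h1 a, h1 b]⟩
    rw [Nat.card_of_subsingleton c]
    have := orderOf_pos (c : G)
    omega
  refine Or.inr ⟨c, m, hD, c.2, by rw [hr, pow_succ'], ?_, fun v hv => ?_⟩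
  · have hs2 : s = m + 3 := by
      rw [hs, hr] at hle hlarge
      push Not at hlarge
      rw [← pow_succ'] at hlarge
      rw [show (4 : ℕ) = 2 ^ 2 from rfl, ← pow_add] at hle
      have h1 := (Nat.pow_lt_pow_iff_right (le_refl 2)).mp hlarge
      have h2 := (Nat.pow_le_pow_iff_right (le_refl 2)).mp hle
      omega
    rw [hs, hs2]
    ring
  · have := hmax ⟨v, hv⟩ (Finset.mem_univ _)
    simpa [hr, pow_succ'] using this

end CfsgLib.Block.IndexFour
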