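import Cfsg.Agent.Lib.Block.IndexFour.Aut
import Mathlib.GroupTheory.Index

/-!
# 2-groups with an abelian subgroup `C_{2h} × C_2` of index two

`IFPres P A c a x h`: the group `P` of order `8 h` has an abelian subgroup `A = ⟨c⟩ × ⟨a⟩` of index
two, an element `x` outside `A` fixing only elements of square one in `A`, and `c ^ h` is no square
from outside `A`.
-/

open Finset

set_option autoImplicit false
set_option linter.unusedSectionVars false

namespace CfsgLib.Block.IndexFour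

universe u

variable {G : Type u} [Group G]

/-- The presentation of the quotients. -/
structure IFPres (P A : Subgroup G) (c a x : G) (h : ℕ) : Prop where
  pow2 : ∃ m : ℕ, 0 < m ∧ h = 2 ^ m
  le : A ≤ P
  memc : c ∈ A
  mema : a ∈ A
  memx : x ∈ P
  notA : x ∉ A
  card : Nat.card P = 8 * h
  cardA : Nat.card A = 4 * h
  comm : ∀ y ∈ A, ∀ z ∈ A, Commute y z
  orderc : orderOf c = 2 * h
  sqa : a * a = 1
  nota : a ∉ Subgroup.zpowers c
  centa : Commute x a
  fix : ∀ y ∈ A, Commute x y → y * y = 1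
  sq_out : ∀ v ∈ P, v ∉ A → v * v ≠ c ^ h

namespace IFPres

variable [Finite G] {P A : Subgroup G} {c a x : G} {h : ℕ} (D : IFPres P A c a x h)
include D

theorem two_le : 2 ≤ h := by
  obtain ⟨m, hm, rfl⟩ := D.pow2
  exact Nat.le_self_pow hm.ne' 2

theorem h_even : 2 ∣ h := by
  obtain ⟨m, hm, rfl⟩ := D.pow2
  exact dvd_pow_self 2 hm.ne'

theorem four_dvd (h4 : 4 ≤ h) : 4 ∣ h := by
  obtain ⟨m, hm, rfl⟩ := D.pow2
  rcases m with _ | _ | m
  · omega
  · simp at h4
  · exact ⟨2 ^ m, by ring⟩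

theorem isPGroup : IsPGroup 2 P := by
  obtain ⟨m, -, hm⟩ := D.pow2
  exact IsPGroup.of_card (n := m + 3) (by rw [D.card, hm]; ring)

theorem pow_eq_one {l : ℕ} : c ^ l = 1 ↔ 2 * h ∣ l := by
  rw [← D.orderc, orderOf_dvd_iff_pow_eq_one]

theorem q_sq : c ^ h * c ^ h = 1 := by
  rw [← pow_add, D.pow_eq_one, two_mul]

theorem q_ne : c ^ h ≠ 1 := fun e => by
  have := Nat.le_of_dvd (by have := D.two_le; omega) (D.pow_eq_one.mp e)
  have := D.two_le
  omega

theorem q_mem : c ^ h ∈ A := pow_mem D.memc h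

theorem a_ne : a ≠ 1 := fun e => D.nota (e ▸ one_mem _)

theorem qa_ne : c ^ h * a ≠ 1 := fun e => D.nota (by
  rw [eq_inv_of_mul_eq_one_right e]
  exact inv_mem (Subgroup.npow_mem_zpowers c h))

theorem a_ne_q : a ≠ c ^ h := fun e => D.nota (e ▸ Subgroup.npow_mem_zpowers c h)

/-- The elements of `A`. -/
theorem decomp {y : G} (hy : y ∈ A) : ∃ l : ℕ, y = c ^ l ∨ y = c ^ l * a := by
  classical
  have := Fintype.ofFinite A
  let f : Fin (2 * h) × Bool → A := fun s =>
    ⟨c ^ (s.1 : ℕ) * if s.2 then a else 1, mul_mem (pow_mem D.memc _) (by split <;> first | exact D.mema | exact one_mem A)⟩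
  have hinj : Function.Injective f := by
    rintro ⟨l, s⟩ ⟨l', s'⟩ e
    have e' : c ^ (l : ℕ) * (if s then a else 1) = c ^ (l' : ℕ) * (if s' then a else 1) :=
      congrArg Subtype.val e
    have hs : s = s' := by
      by_contra hne
      apply D.nota
      cases s <;> cases s' <;> simp at hne e'
      · rw [show a = (c ^ (l' : ℕ))⁻¹ * c ^ (l : ℕ) by rw [e']; group]
        exact mul_mem (inv_mem (Subgroup.npow_mem_zpowers c _)) (Subgroup.npow_mem_zpowers c _)
      · rw [show a = (c ^ (l : ℕ))⁻¹ * c ^ (l' : ℕ) by rw [← e']; group]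
        exact mul_mem (inv_mem (Subgroup.npow_mem_zpowers c _)) (Subgroup.npow_mem_zpowers c _)
    subst hs
    have h1 := mul_right_cancel e'
    rw [pow_inj_mod, D.orderc, Nat.mod_eq_of_lt l.2, Nat.mod_eq_of_lt l'.2] at h1
    rw [Fin.ext h1]
  have hbij : Function.Bijective f := (Fintype.bijective_iff_injective_and_card f).mpr ⟨hinj, by
    rw [Fintype.card_prod, Fintype.card_fin, Fintype.card_bool, ← Nat.card_eq_fintype_card, D.cardA]
    ring⟩
  obtain ⟨⟨l, s⟩, e⟩ := hbij.2 ⟨y, hy⟩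
  have e' := congrArg Subtype.val e
  cases s
  · exact ⟨l, Or.inl (by simpa [f] using e'.symm)⟩
  · exact ⟨l, Or.inr (by simpa [f] using e'.symm)⟩

/-- The squares in `A`. -/
theorem sq_eq {y : G} (hy : y ∈ A) : ∃ l : ℕ, y * y = c ^ (2 * l) := by
  obtain ⟨l, rfl | rfl⟩ := D.decomp hy
  · exact ⟨l, by rw [← pow_add, two_mul]⟩
  · refine ⟨l, ?_⟩
    calc c ^ l * a * (c ^ l * a) = c ^ l * (a * c ^ l) * a := by group
      _ = c ^ l * (c ^ l * a) * a := by rw [(D.comm a D.mema _ (pow_mem D.memc l)).eq]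
      _ = c ^ l * c ^ l * (a * a) := by group
      _ = _ := by rw [D.sqa, mul_one, ← pow_add, two_mul]

theorem sq_one_cases {y : G} (hy : y ∈ A) (h2 : y * y = 1) :
    y = 1 ∨ y = c ^ h ∨ y = a ∨ y = c ^ h * a := by
  obtain ⟨l, hl⟩ := D.decomp hy
  have hd : h ∣ l := by
    have h1 : c ^ (2 * l) = 1 := by
      rcases hl with rfl | rfl
      · rwa [two_mul, pow_add]
      · rw [two_mul, pow_add]
        calc c ^ l * c ^ l = c ^ l * c ^ l * (a * a) := by rw [D.sqa, mul_one]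
          _ = c ^ l * (c ^ l * a) * a := by group
          _ = c ^ l * (a * c ^ l) * a := by rw [(D.comm a D.mema _ (pow_mem D.memc l)).eq]
          _ = c ^ l * a * (c ^ l * a) := by group
          _ = 1 := h2
    exact Nat.dvd_of_mul_dvd_mul_left two_pos (D.pow_eq_one.mp h1)
  obtain ⟨k, rfl⟩ := hd
  have hk : c ^ (h * k) = 1 ∨ c ^ (h * k) = c ^ h := by
    obtain ⟨j, rfl | rfl⟩ := Nat.even_or_odd' k
    · exact Or.inl (D.pow_eq_one.mpr ⟨j, by ring⟩)
    · exact Or.inr (by rw [mul_add, mul_one, pow_add, D.pow_eq_one.mpr ⟨j, by ring⟩, one_mul])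
  rcases hl with rfl | rfl <;> rcases hk with e | e <;> rw [e] <;> simp

/-- A square of square one in `A` is `1` or `c ^ h`. -/
theorem sq_sq {y : G} (hy : y ∈ A) (h4 : y * y * (y * y) = 1) : y * y = 1 ∨ y * y = c ^ h := by
  obtain ⟨l, hl⟩ := D.sq_eq hy
  rw [hl] at h4 ⊢
  rcases D.sq_one_cases (pow_mem D.memc _) h4 with e | e | e | e
  · exact Or.inl e
  · exact Or.inr e
  · exact absurd (e ▸ Subgroup.npow_mem_zpowers c _) D.nota
  · refine absurd ?_ D.nota
    rw [show a = (c ^ h)⁻¹ * c ^ (2 * l) by rw [e]; group]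
    exact mul_mem (inv_mem (Subgroup.npow_mem_zpowers c h)) (Subgroup.npow_mem_zpowers c _)

theorem index_two : (A.subgroupOf P).index = 2 := by
  have h1 := Subgroup.card_mul_index (A.subgroupOf P)
  rw [Nat.card_congr (Subgroup.subgroupOfEquivOfLe D.le).toEquiv, D.cardA, D.card] at h1
  have h2 := D.two_le
  exact Nat.eq_of_mul_eq_mul_left (by omega : 0 < 4 * h) (by rw [h1]; ring)

theorem mul_mem_iff {v w : G} (hv : v ∈ P) (hw : w ∈ P) : v * w ∈ A ↔ (v ∈ A ↔ w ∈ A) := by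
  have h := Subgroup.mul_mem_iff_of_index_two D.index_two (a := (⟨v, hv⟩ : P)) (b := ⟨w, hw⟩)
  simpa [Subgroup.mem_subgroupOf] using h

theorem inv_mul_mem {v w : G} (hv : v ∈ P) (hw : w ∈ P) (hvA : v ∉ A) (hwA : w ∉ A) :
    v⁻¹ * w ∈ A := by
  rw [D.mul_mem_iff (inv_mem hv) hw]
  simp [hvA, hwA]

theorem out_sq_mem {v : G} (hv : v ∈ P) : v * v ∈ A := (D.mul_mem_iff hv hv).mpr Iff.rfl

theorem conj_mem {v y : G} (hv : v ∈ P) (hy : y ∈ A) : v * y * v⁻¹ ∈ A := by
  rw [D.mul_mem_iff (mul_mem hv (D.le hy)) (inv_mem hv), D.mul_mem_iff hv (D.le hy)]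
  simp [hy]

/-- The action of an element outside `A`. -/
theorem conj_out {v y : G} (hv : v ∈ P) (hvA : v ∉ A) (hy : y ∈ A) :
    v * y * v⁻¹ = x * y * x⁻¹ := by
  have hm := D.inv_mul_mem D.memx hv D.notA hvA
  calc v * y * v⁻¹ = x * ((x⁻¹ * v) * y * (x⁻¹ * v)⁻¹) * x⁻¹ := by group
    _ = _ := by rw [(D.comm _ hm y hy).eq, mul_inv_cancel_right]

theorem inv_conj {y : G} (hy : y ∈ A) : x⁻¹ * y * x = x * y * x⁻¹ := by
  have := D.conj_out (v := x⁻¹) (inv_mem D.memx) (fun e => D.notA (by simpa using inv_mem e)) hy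
  rwa [inv_inv] at this

/-- `c ^ h` is fixed. -/
theorem conj_q : x * c ^ h * x⁻¹ = c ^ h := by
  have hc' : x * c * x⁻¹ ∈ A := D.conj_mem D.memx D.memc
  have h1 : x * c ^ h * x⁻¹ = (x * c * x⁻¹) ^ h := (conj_pow ..).symm
  have h2 : (x * c * x⁻¹) ^ h ≠ 1 := fun e => D.q_ne (by
    rw [← h1] at e; exact conj_eq_one_iff.mp e)
  rw [h1]
  obtain ⟨k, hk⟩ := D.h_even
  obtain ⟨l, hl⟩ := D.sq_eq hc'
  have h3 : (x * c * x⁻¹) ^ h = (c ^ h) ^ l := by
    rw [hk, pow_mul, pow_two, hl, ← pow_mul, ← pow_mul]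
    ring_nf
  rw [h3] at h2 ⊢
  obtain ⟨j, rfl | rfl⟩ := Nat.even_or_odd' l
  · exact absurd (by rw [pow_mul, pow_two, D.q_sq, one_pow]) h2
  · rw [pow_succ, pow_mul, pow_two, D.q_sq, one_pow, one_mul]

/-- The elements of square one of `A` are central. -/
theorem central_of_sq {z v : G} (hz : z ∈ A) (h2 : z * z = 1) (hv : v ∈ P) : Commute v z := by
  by_cases hvA : v ∈ A
  · exact D.comm v hvA z hz
  refine mul_inv_eq_iff_eq_mul.mp ?_
  rw [D.conj_out hv hvA hz]
  have hq : Commute x (c ^ h) := mul_inv_eq_iff_eq_mul.mp D.conj_q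
  have hx : Commute x z := by
    rcases D.sq_one_cases hz h2 with rfl | rfl | rfl | rfl
    exacts [Commute.one_right x, hq, D.centa, hq.mul_right D.centa]
  rw [hx.eq, mul_inv_cancel_right]

theorem fix_out {v y : G} (hv : v ∈ P) (hvA : v ∉ A) (hy : y ∈ A) (hc : Commute v y) : y * y = 1 := by
  refine D.fix y hy (mul_inv_eq_iff_eq_mul.mp ?_)
  rw [← D.conj_out hv hvA hy, hc.eq, mul_inv_cancel_right]

/-- The centralizer of an element of `A` of order at least four. -/
theorem mem_of_commute {v y : G} (hv : v ∈ P) (hy : y ∈ A) (h2 : y * y ≠ 1) (hc : Commute v y) :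
    v ∈ A := by_contra fun hvA => h2 (D.fix_out hv hvA hy hc)

/-- The centralizer of an element outside `A`. -/
theorem commute_out {v w : G} (hv : v ∈ P) (hvA : v ∉ A) (hw : w ∈ P) (hc : Commute v w) :
    ∃ z ∈ A, z * z = 1 ∧ (w = z ∨ w = v * z) := by
  by_cases hwA : w ∈ A
  · exact ⟨w, hwA, D.fix_out hv hvA hwA hc, Or.inl rfl⟩
  · refine ⟨v⁻¹ * w, D.inv_mul_mem hv hw hvA hwA, D.fix_out hv hvA (D.inv_mul_mem hv hw hvA hwA)
      ((Commute.inv_right (Commute.refl v)).mul_right hc), Or.inr (by group)⟩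

theorem c_sq_ne : c * c ≠ 1 := fun e => by
  rw [← pow_two, D.pow_eq_one] at e
  have := Nat.le_of_dvd two_pos e
  have := D.two_le
  omega

/-- The centre. -/
theorem center_cases {v : G} (hv : v ∈ P) (hc : ∀ w ∈ P, Commute v w) : v ∈ A ∧ v * v = 1 := by
  have hvA := D.mem_of_commute hv D.memc D.c_sq_ne (hc c (D.le D.memc))
  exact ⟨hvA, D.fix v hvA (hc x D.memx).symm⟩

theorem out_sq {v : G} (hv : v ∈ P) (hvA : v ∉ A) :
    v * v * (v * v) = 1 ∧ (v * v = 1 ∨ v * v = a ∨ v * v = c ^ h * a) := by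
  have h1 := D.fix_out hv hvA (D.out_sq_mem hv) ((Commute.refl v).mul_right (Commute.refl v))
  refine ⟨h1, ?_⟩
  rcases D.sq_one_cases (D.out_sq_mem hv) h1 with e | e | e | e
  exacts [Or.inl e, absurd e (D.sq_out v hv hvA), Or.inr (Or.inl e), Or.inr (Or.inr e)]

theorem mem_of_sq_q {v : G} (hv : v ∈ P) (h2 : v * v = c ^ h) : v ∈ A :=
  by_contra fun hvA => D.sq_out v hv hvA h2

theorem mem_of_sq_sq_ne {v : G} (hv : v ∈ P) (h2 : v * v * (v * v) ≠ 1) : v ∈ A :=
  by_contra fun hvA => h2 (D.out_sq hv hvA).1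

/-- The elements of order at least four of `A`, in terms of `P`. -/
theorem sq_ne_cases {y : G} (hy : y ∈ A) (h2 : y * y ≠ 1) :
    y * y * (y * y) ≠ 1 ∨ y * y = c ^ h :=
  or_iff_not_imp_left.mpr fun h4 => (D.sq_sq hy (not_not.mp h4)).resolve_left h2

/-! ### The commutators with `x` -/

/-- The commutator map. -/
theorem comm_hom {y z : G} (hy : y ∈ A) (hz : z ∈ A) :
    (y * z)⁻¹ * (x * (y * z) * x⁻¹) = (y⁻¹ * (x * y * x⁻¹)) * (z⁻¹ * (x * z * x⁻¹)) := by
  have h1 : Commute (y⁻¹ * (x * y * x⁻¹)) z⁻¹ :=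
    (D.comm _ (mul_mem (inv_mem hy) (D.conj_mem D.memx hy)) _ hz).inv_right
  calc (y * z)⁻¹ * (x * (y * z) * x⁻¹) = z⁻¹ * (y⁻¹ * (x * y * x⁻¹)) * (x * z * x⁻¹) := by group
    _ = _ := by rw [← h1.eq]; group

theorem comm_pow (l : ℕ) :
    (c ^ l)⁻¹ * (x * c ^ l * x⁻¹) = (c⁻¹ * (x * c * x⁻¹)) ^ l := by
  induction l with
  | zero => simp
  | succ l ih => rw [pow_succ, D.comm_hom (pow_mem D.memc l) D.memc, ih, ← pow_succ]

theorem comm_eq_one {y : G} (hy : y ∈ A) : y⁻¹ * (x * y * x⁻¹) = 1 ↔ y * y = 1 := by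
  constructor
  · intro e
    exact D.fix y hy (mul_inv_eq_iff_eq_mul.mp (inv_mul_eq_one.mp e).symm)
  · intro e
    rw [(D.central_of_sq hy e D.memx).eq, mul_inv_cancel_right, inv_mul_cancel]

theorem order_comm : orderOf (c⁻¹ * (x * c * x⁻¹)) = h := by
  refine Nat.dvd_antisymm ?_ ?_
  · refine orderOf_dvd_of_pow_eq_one ?_
    rw [← D.comm_pow, D.comm_eq_one (pow_mem D.memc h)]
    exact D.q_sq
  · have h1 := pow_orderOf_eq_one (c⁻¹ * (x * c * x⁻¹))
    rw [← D.comm_pow, D.comm_eq_one (pow_mem D.memc _), ← pow_add, ← two_mul, D.pow_eq_one] at h1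
    exact Nat.dvd_of_mul_dvd_mul_left two_pos h1

omit D in
/-- The involution in the derived group. -/
def jj (c x : G) (h : ℕ) : G := (c⁻¹ * (x * c * x⁻¹)) ^ (h / 2)

theorem jj_mem : jj c x h ∈ A := pow_mem (mul_mem (inv_mem D.memc) (D.conj_mem D.memx D.memc)) _

theorem jj_sq : jj c x h * jj c x h = 1 := by
  obtain ⟨k, hk⟩ := D.h_even
  rw [jj, ← pow_add, show h / 2 + h / 2 = h by omega]
  conv_lhs => rw [← D.order_comm]
  exact pow_orderOf_eq_one _

theorem jj_ne : jj c x h ≠ 1 := fun e => by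
  have h1 := orderOf_dvd_of_pow_eq_one e
  rw [D.order_comm] at h1
  have := D.two_le
  have := Nat.le_of_dvd (by omega) h1
  omega

theorem jj_central {v : G} (hv : v ∈ P) : Commute v (jj c x h) := D.central_of_sq D.jj_mem D.jj_sq hv

theorem jj_eq_comm : (c ^ (h / 2))⁻¹ * (x * c ^ (h / 2) * x⁻¹) = jj c x h := D.comm_pow _

theorem jj_eq_q (h4 : 4 ≤ h) : jj c x h = c ^ h := by
  obtain ⟨k, hk⟩ := D.four_dvd h4
  set d := c⁻¹ * (x * c * x⁻¹)
  have hd : d ∈ A := mul_mem (inv_mem D.memc) (D.conj_mem D.memx D.memc)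
  have e : jj c x h = d ^ k * d ^ k := by rw [jj, ← pow_add]; congr 1; omega
  refine (D.sq_sq (pow_mem hd k) ?_).elim (fun e' => absurd (e.trans e') D.jj_ne) fun e' => e.trans e'
  rw [← e]
  exact D.jj_sq

/-- The commutators of square one. -/
theorem comm_cases {y : G} (hy : y ∈ A) (h2 : (y⁻¹ * (x * y * x⁻¹)) * (y⁻¹ * (x * y * x⁻¹)) = 1) :
    y⁻¹ * (x * y * x⁻¹) = 1 ∨ y⁻¹ * (x * y * x⁻¹) = jj c x h := by
  set d := c⁻¹ * (x * c * x⁻¹) with hd
  obtain ⟨l, hl⟩ : ∃ l : ℕ, y⁻¹ * (x * y * x⁻¹) = d ^ l := by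
    obtain ⟨l, rfl | rfl⟩ := D.decomp hy
    · exact ⟨l, D.comm_pow l⟩
    · refine ⟨l, ?_⟩
      rw [D.comm_hom (pow_mem D.memc l) D.mema, D.comm_pow, (D.comm_eq_one D.mema).mpr D.sqa, mul_one]
  rw [hl] at h2 ⊢
  rw [← pow_add, ← orderOf_dvd_iff_pow_eq_one, hd, D.order_comm] at h2
  obtain ⟨k, hk⟩ := D.h_even
  have hkl : h / 2 ∣ l := by
    rw [hk, ← two_mul] at h2
    rw [show h / 2 = k by omega]
    exact Nat.dvd_of_mul_dvd_mul_left two_pos h2
  obtain ⟨i, rfl⟩ := hkl
  have hj : jj c x h * jj c x h = 1 := D.jj_sq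
  obtain ⟨i', rfl | rfl⟩ := Nat.even_or_odd' i
  · left
    rw [pow_mul, pow_mul, pow_two]
    show (jj c x h * jj c x h) ^ i' = 1
    rw [hj, one_pow]
  · right
    rw [pow_mul, pow_succ, pow_mul, pow_two]
    show (jj c x h * jj c x h) ^ i' * jj c x h = jj c x h
    rw [hj, one_pow, one_mul]

/-- Two elements outside `A`. -/
theorem out_mul_sq {v y : G} (hv : v ∈ P) (hvA : v ∉ A) (hy : y ∈ A) :
    v * y * (v * y) = v * v * (y * y * (y⁻¹ * (x * y * x⁻¹))) := by
  have h1 : v⁻¹ * y * v = x * y * x⁻¹ := by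
    have := D.conj_out (v := v⁻¹) (inv_mem hv) (fun e => hvA (by simpa using inv_mem e)) hy
    rwa [inv_inv] at this
  calc v * y * (v * y) = v * v * ((v⁻¹ * y * v) * y) := by group
    _ = v * v * (y * (x * y * x⁻¹)) := by rw [h1, (D.comm _ (D.conj_mem D.memx hy) y hy).eq]
    _ = _ := by group

/-! ### The automorphisms -/

/-- Automorphisms of odd order fix `c ^ h`. -/
theorem aut_fix_q (α : MulAut P) (hα : ¬ 2 ∣ orderOf α) :
    ((α ⟨c ^ h, D.le D.q_mem⟩ : P) : G) = c ^ h := by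
  classical
  set α' : P → G := fun v => ((α v : P) : G) with hα'
  have hmul : ∀ v w : P, α' (v * w) = α' v * α' w := fun v w => by simp [hα']
  have hne : α' ⟨c ^ h, D.le D.q_mem⟩ ≠ 1 := fun e => D.q_ne (congrArg Subtype.val
    (α.injective ((Subtype.ext e : α ⟨c ^ h, D.le D.q_mem⟩ = 1).trans (map_one α).symm)))
  show α' ⟨c ^ h, D.le D.q_mem⟩ = c ^ h
  by_cases h4 : 4 ≤ h
  · obtain ⟨k, hk⟩ := D.four_dvd h4
    set y : P := ⟨c ^ k, D.le (pow_mem D.memc k)⟩
    have hy : (⟨c ^ h, D.le D.q_mem⟩ : P) = y * y * (y * y) := Subtype.ext (by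
      show c ^ h = c ^ k * c ^ k * (c ^ k * c ^ k)
      rw [← pow_add, ← pow_add]; congr 1; omega)
    rw [hy, hmul, hmul] at hne ⊢
    have hA := D.mem_of_sq_sq_ne (α y).2 hne
    have hsq : α' y * α' y * (α' y * α' y) * (α' y * α' y * (α' y * α' y)) = 1 := by
      rw [← hmul, ← hmul, ← hmul, ← hy, show (⟨c ^ h, D.le D.q_mem⟩ : P) * ⟨c ^ h, D.le D.q_mem⟩ = 1 from
        Subtype.ext D.q_sq]
      simp [hα']
    exact (D.sq_sq (mul_mem hA hA) hsq).resolve_left hne
  have h2 : h = 2 := by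
    obtain ⟨k, hk⟩ := D.h_even
    have := D.two_le
    omega
  -- the central involutions and the squares
  have hcent : ∀ z : P, (z : G) ∈ A ∧ (z : G) * (z : G) = 1 →
      α' z ∈ A ∧ α' z * α' z = 1 := fun z hz => by
    refine D.center_cases (α z).2 fun w hw => ?_
    obtain ⟨w', hw'⟩ := α.surjective ⟨w, hw⟩
    have : z * w' = w' * z := Subtype.ext (D.central_of_sq hz.1 hz.2 w'.2).symm.eq
    have h' := congrArg α' this
    rw [hmul, hmul, show α' w' = w from congrArg Subtype.val hw'] at h'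
    exact h'
  obtain ⟨hqA, hq2⟩ := hcent ⟨c ^ h, D.le D.q_mem⟩ ⟨D.q_mem, D.q_sq⟩
  -- `α q` is the square of `α c`
  have hc2 : α' ⟨c, D.le D.memc⟩ * α' ⟨c, D.le D.memc⟩ = α' ⟨c ^ h, D.le D.q_mem⟩ := by
    rw [← hmul]
    exact congrArg α' (Subtype.ext (by show c * c = c ^ h; rw [h2, pow_two]))
  rcases D.sq_one_cases hqA hq2 with e | e | e | e
  · exact absurd e hne
  · exact e
  all_goals
    exfalso
    set s := α' ⟨c ^ h, D.le D.q_mem⟩ with hs
    -- `α c` lies outside `A` with square `s`, and then `c ^ h * s` is not a square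
    have hw : α' ⟨c, D.le D.memc⟩ ∉ A := fun hwA => by
      rcases D.sq_sq hwA (by rw [hc2]; exact hq2) with e' | e' <;> rw [hc2] at e'
      · exact hne e'
      · rw [e'] at e
        first
          | exact D.a_ne_q e.symm
          | exact D.a_ne (mul_left_cancel (a := c ^ h) (by rw [mul_one]; exact e.symm))
    set r : G := c ^ h * s with hr
    have hrA : r ∈ A ∧ r * r = 1 := by
      refine ⟨mul_mem D.q_mem hqA, ?_⟩
      rw [hr, mul_assoc, ← mul_assoc s (c ^ h) s, (D.comm s hqA _ D.q_mem).eq, mul_assoc (c ^ h) s s,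
        hq2, mul_one, D.q_sq]
    have hs1 : s ≠ c ^ h := by
      intro e'
      rw [e'] at e
      first
        | exact D.a_ne_q e.symm
        | exact D.a_ne (mul_left_cancel (a := c ^ h) (by rw [mul_one]; exact e.symm))
    have hrne : r ≠ 1 := fun e' => hs1 (mul_left_cancel (a := c ^ h) (by rw [← hr, e', D.q_sq]))
    have hnsq : ∀ v : P, (v : G) * (v : G) ≠ r := by
      intro v hv
      by_cases hvA : (v : G) ∈ A
      · rcases D.sq_sq hvA (by rw [hv]; exact hrA.2) with e' | e' <;> rw [hv] at e'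
        · exact hrne e'
        · exact hne (mul_left_cancel (a := c ^ h) (by rw [mul_one]; exact hr ▸ e'))
      · have hy := D.inv_mul_mem (α ⟨c, D.le D.memc⟩).2 v.2 hw hvA
        set y := (α' ⟨c, D.le D.memc⟩)⁻¹ * (v : G) with hyd
        have hvy : (v : G) = α' ⟨c, D.le D.memc⟩ * y := by rw [hyd]; group
        have h5 := D.out_mul_sq (α ⟨c, D.le D.memc⟩).2 hw hy
        rw [show ((α ⟨c, D.le D.memc⟩ : P) : G) = α' ⟨c, D.le D.memc⟩ from rfl, ← hvy, hv, hc2] at h5
        have h5' : c ^ h = y * y * (y⁻¹ * (x * y * x⁻¹)) := by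
          refine mul_left_cancel (a := s) ?_
          rw [← h5, hr, (D.comm s hqA _ D.q_mem).eq]
        by_cases hy2 : y * y = 1
        · rw [hy2, one_mul, (D.comm_eq_one hy).mpr hy2] at h5'
          exact D.q_ne h5'
        have hyq : y * y = c ^ h := (D.sq_ne_cases hy hy2).resolve_left fun h' => h' (by
          obtain ⟨l, hl⟩ := D.sq_eq hy
          rw [hl, ← pow_add, D.pow_eq_one, h2]
          exact ⟨l, by ring⟩)
        rw [hyq] at h5'
        exact hy2 ((D.comm_eq_one hy).mp (mul_left_cancel (a := c ^ h) (by rw [← h5', mul_one])))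
    -- `r` is fixed, so all central involutions are
    obtain ⟨hr'A, hr'2⟩ := hcent ⟨r, D.le hrA.1⟩ hrA
    set t := α' ⟨r, D.le hrA.1⟩ with ht
    have htne : t ≠ 1 := fun e' => hrne (congrArg Subtype.val
      (α.injective ((Subtype.ext e' : α ⟨r, D.le hrA.1⟩ = 1).trans (map_one α).symm)))
    have htnsq : ∀ v : P, (v : G) * (v : G) ≠ t := by
      intro v hv
      obtain ⟨v', rfl⟩ := α.surjective v
      refine hnsq v' (congrArg Subtype.val (α.injective (a₁ := v' * v') (a₂ := ⟨r, D.le hrA.1⟩) ?_))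
      rw [map_mul]
      exact Subtype.ext hv
    have htr : t = r := by
      have hq' : t ≠ c ^ h := fun e' => htnsq ⟨c, D.le D.memc⟩ (by
        show c * c = t
        rw [e', h2, pow_two])
      have hs' : t ≠ s := fun e' => htnsq (α ⟨c, D.le D.memc⟩) (by rw [e']; exact hc2)
      rcases D.sq_one_cases hr'A hr'2 with e' | e' | e' | e'
      · exact absurd e' htne
      · exact absurd e' hq'
      all_goals
        first
          | exact absurd (e'.trans e.symm) hs'
          | rw [e', hr, e, ← mul_assoc, D.q_sq, one_mul]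
          | rw [e', hr, e]
    let Z : Subgroup P :=
      { carrier := {z | (z : G) ∈ A ∧ (z : G) * (z : G) = 1}
        one_mem' := ⟨one_mem A, one_mul 1⟩
        mul_mem' := fun {u w} hu hw => ⟨mul_mem hu.1 hw.1, by
          rw [Subgroup.coe_mul, mul_assoc, ← mul_assoc (w : G) u w, (D.comm _ hw.1 _ hu.1).eq,
            mul_assoc (u : G) w w, hw.2, mul_one, hu.2]⟩
        inv_mem' := fun {u} hu => by
          rw [show u⁻¹ = u from inv_eq_of_mul_eq_one_right (Subtype.ext hu.2)]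
          exact hu }
    have hZinv : ∀ z ∈ Z, α z ∈ Z := fun z hz => hcent z hz
    let αZ : MulAut Z := MulEquiv.ofBijective
      (MonoidHom.mk' (fun z : Z => (⟨α z, hZinv z z.2⟩ : Z)) fun u w => Subtype.ext (map_mul α (u : P) w))
      (Finite.injective_iff_bijective.mp fun u w huw =>
        Subtype.ext (α.injective (congrArg Subtype.val huw)))
    have hpow : ∀ (n : ℕ) (z : Z), ((((αZ ^ n) z : Z) : P)) = (α ^ n) z := by
      intro n
      induction n with
      | zero => simp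
      | succ n ih =>
        intro z
        rw [pow_succ', pow_succ', MulAut.mul_apply, MulAut.mul_apply, ← ih z]
        rfl
    have hodd : ¬ 2 ∣ orderOf αZ := fun hd => hα (hd.trans (orderOf_dvd_of_pow_eq_one
      (MulEquiv.ext fun z => Subtype.ext (by rw [hpow, pow_orderOf_eq_one]; rfl))))
    have h1 := aut_eq_one_of_four ((D.isPGroup).to_subgroup Z)
      (fun u w => Subtype.ext (Subtype.ext (D.comm _ u.2.1 _ w.2.1).eq)) αZ hodd
      (s := ({1, ⟨⟨c ^ h, D.le D.q_mem⟩, D.q_mem, D.q_sq⟩, ⟨⟨a, D.le D.mema⟩, D.mema, D.sqa⟩,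
        ⟨⟨c ^ h, D.le D.q_mem⟩, D.q_mem, D.q_sq⟩ * ⟨⟨a, D.le D.mema⟩, D.mema, D.sqa⟩} : Finset Z))
      (fun z _ => by
        simp only [Finset.mem_insert, Finset.mem_singleton]
        rcases D.sq_one_cases z.2.1 z.2.2 with e' | e' | e' | e'
        exacts [Or.inl (Subtype.ext (Subtype.ext e')), Or.inr (Or.inl (Subtype.ext (Subtype.ext e'))),
          Or.inr (Or.inr (Or.inl (Subtype.ext (Subtype.ext e')))),
          Or.inr (Or.inr (Or.inr (Subtype.ext (Subtype.ext e'))))])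
      Finset.card_le_four (z := (⟨⟨r, D.le hrA.1⟩, hrA⟩ : Z))
      (fun e' => hrne (congrArg (fun z : Z => ((z : P) : G)) e'))
      (Subtype.ext (Subtype.ext (by simpa [pow_two] using hrA.2)))
      (Subtype.ext (Subtype.ext htr))
    have h5 := congrArg (fun f : MulAut Z => (((f ⟨⟨c ^ h, D.le D.q_mem⟩, D.q_mem, D.q_sq⟩ : Z) : P) : G)) h1
    exact hs1 h5

/-- The automorphisms of odd order are trivial. -/
theorem aut_odd (α : MulAut P) (hα : ¬ 2 ∣ orderOf α) : α = 1 := by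
  classical
  have hq := D.aut_fix_q α hα
  set qP : P := ⟨c ^ h, D.le D.q_mem⟩ with hqP
  have hinvA : ∀ v : P, (v : G) ∈ A → ((α v : P) : G) ∈ A := by
    have key : ∀ v : P, (v : G) ∈ A → (v : G) * (v : G) ≠ 1 → ((α v : P) : G) ∈ A := by
      intro v hv h2
      rcases D.sq_ne_cases hv h2 with h4 | h4
      · refine D.mem_of_sq_sq_ne (α v).2 fun e => h4 ?_
        have : α (v * v * (v * v)) = 1 := Subtype.ext (by simpa using e)
        exact congrArg Subtype.val (α.injective (this.trans (map_one α).symm))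
      · refine D.mem_of_sq_q (α v).2 ?_
        rw [← Subgroup.coe_mul, ← map_mul, show v * v = qP from Subtype.ext h4]
        exact hq
    intro v hv
    by_cases h2 : (v : G) * (v : G) = 1
    · set cP : P := ⟨c, D.le D.memc⟩
      have h1 := key cP D.memc D.c_sq_ne
      have h3 := key (v * cP) (mul_mem hv D.memc) fun e => D.c_sq_ne (by
        rw [Subgroup.coe_mul, mul_assoc, ← mul_assoc (cP : G) v cP, (D.comm _ D.memc _ hv).eq,
          mul_assoc (v : G) cP cP, ← mul_assoc (v : G) v, h2, one_mul] at e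
        exact e)
      have h4 := mul_mem h3 (inv_mem h1)
      rwa [map_mul, Subgroup.coe_mul, mul_inv_cancel_right] at h4
    · exact key v hv h2
  set T := A.subgroupOf P with hT
  let αT : MulAut T := MulEquiv.ofBijective
    (MonoidHom.mk' (fun z : T => (⟨α z, hinvA z z.2⟩ : T)) fun u w => Subtype.ext (map_mul α (u : P) w))
    (Finite.injective_iff_bijective.mp fun u w huw =>
      Subtype.ext (α.injective (congrArg Subtype.val huw)))
  have hpow : ∀ (n : ℕ) (z : T), ((((αT ^ n) z : T) : P)) = (α ^ n) z := by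
    intro n
    induction n with
    | zero => simp
    | succ n ih =>
      intro z
      rw [pow_succ', pow_succ', MulAut.mul_apply, MulAut.mul_apply, ← ih z]
      rfl
  have hodd : ¬ 2 ∣ orderOf αT := fun hd => hα (hd.trans (orderOf_dvd_of_pow_eq_one
    (MulEquiv.ext fun z => Subtype.ext (by rw [hpow, pow_orderOf_eq_one]; rfl))))
  have h1 : αT = 1 := aut_eq_one_of_four ((D.isPGroup).to_subgroup T)
    (fun u w => Subtype.ext (Subtype.ext (D.comm _ u.2 _ w.2).eq)) αT hodd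
    (s := ({1, ⟨qP, D.q_mem⟩, ⟨⟨a, D.le D.mema⟩, D.mema⟩, ⟨qP, D.q_mem⟩ * ⟨⟨a, D.le D.mema⟩, D.mema⟩} : Finset T))
    (fun z hz => by
      simp only [Finset.mem_insert, Finset.mem_singleton]
      rcases D.sq_one_cases z.2 (by rw [← pow_two]; exact congrArg (fun t : T => ((t : P) : G)) hz) with e | e | e | e
      exacts [Or.inl (Subtype.ext (Subtype.ext e)), Or.inr (Or.inl (Subtype.ext (Subtype.ext e))),
        Or.inr (Or.inr (Or.inl (Subtype.ext (Subtype.ext e)))),
        Or.inr (Or.inr (Or.inr (Subtype.ext (Subtype.ext e))))])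
    Finset.card_le_four (z := (⟨qP, D.q_mem⟩ : T))
    (fun e => D.q_ne (congrArg (fun t : T => ((t : P) : G)) e))
    (Subtype.ext (Subtype.ext (by rw [pow_two]; exact D.q_sq)))
    (Subtype.ext (Subtype.ext hq))
  exact aut_eq_one_of_fix_index_two D.isPGroup α hα T (le_of_eq D.index_two) fun t ht =>
    congrArg Subtype.val (congrArg (fun f : MulAut T => f ⟨t, ht⟩) h1)

end IFPres

end CfsgLib.Block.IndexFour
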