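import Cfsg.Agent.Lib.Block.IndexFour.Aut
import Cfsg.Agent.Lib.Block.FusionSat
import Cfsg.Agent.Lib.Block.NilpotentChar
import Cfsg.Agent.Lib.Block.NilpotentBijection

/-!
# A criterion for nilpotency at the prime two

A 2-block is nilpotent, so of rank one, if the automorphisms of odd order of the centric fully
normalized subgroups in its fusion system are trivial.
-/

open Finset MonoidAlgebra

set_option autoImplicit false
set_option linter.unusedSectionVars false

namespace CfsgLib.Block.IndexFour

open Cfsg CfsgLib CfsgLib.Block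
open Cfsg.FusionSystem (centralizerIn)
open scoped Pair

universe u

/-! ### Restriction of automorphisms -/

/-- An automorphism of odd order preserving a commutative subgroup of index at most two with at most
four elements of square one, one of them fixed, is trivial. -/
theorem aut_eq_one_of_invariant {R : Type u} [Group R] [Finite R] (hR : IsPGroup 2 R) (α : MulAut R)
    (hα : ¬ 2 ∣ orderOf α) (T : Subgroup R) (hT : T.index ≤ 2)
    (hcomm : ∀ a ∈ T, ∀ b ∈ T, a * b = b * a) (hinv : ∀ t ∈ T, α t ∈ T) {s : Finset R}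
    (hs : ∀ t ∈ T, t * t = 1 → t ∈ s) (hs4 : s.card ≤ 4) {z : R} (hzT : z ∈ T) (hz : z ≠ 1)
    (hz2 : z * z = 1) (hfix : α z = z) : α = 1 := by
  classical
  let αT : MulAut T := MulEquiv.ofBijective
    (MonoidHom.mk' (fun t : T => (⟨α t, hinv t t.2⟩ : T)) fun u w => Subtype.ext (map_mul α (u : R) w))
    (Finite.injective_iff_bijective.mp fun u w huw =>
      Subtype.ext (α.injective (congrArg Subtype.val huw)))
  have hpow : ∀ (n : ℕ) (t : T), (((αT ^ n) t : T) : R) = (α ^ n) t := by
    intro n
    induction n with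
    | zero => simp
    | succ n ih =>
      intro t
      rw [pow_succ', pow_succ', MulAut.mul_apply, MulAut.mul_apply, ← ih t]
      rfl
  have hodd : ¬ 2 ∣ orderOf αT := fun hd => hα (hd.trans (orderOf_dvd_of_pow_eq_one
    (MulEquiv.ext fun t => Subtype.ext (by rw [hpow, pow_orderOf_eq_one]; rfl))))
  have hsub : ∀ t : T, t ^ 2 = 1 → t ∈ s.subtype (· ∈ T) := fun t ht => Finset.mem_subtype.mpr
    (hs t t.2 (by rw [← pow_two]; exact congrArg Subtype.val ht))
  have h1 : αT = 1 := aut_eq_one_of_four (hR.to_subgroup T)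
    (fun a b => Subtype.ext (hcomm a a.2 b b.2)) αT hodd hsub
    (le_trans (by rw [Finset.card_subtype]; exact Finset.card_filter_le _ _) hs4)
    (z := ⟨z, hzT⟩) (fun e => hz (congrArg Subtype.val e))
    (Subtype.ext (by rw [SubmonoidClass.coe_pow, pow_two]; exact hz2)) (Subtype.ext hfix)
  exact aut_eq_one_of_fix_index_two hR α hα T hT fun t ht =>
    congrArg Subtype.val (congrArg (fun f : MulAut T => f ⟨t, ht⟩) h1)

/-! ### The criterion -/

variable {M : Ideal AlgInt} [M.IsMaximal] {G : Type u} [Group G] [Fintype G] [DecidableEq G]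
  {P R : Subgroup G} {e : Set (IrrCharacter (CQ P))} {B : Set (IrrCharacter G)}

/-- The automorphisms in the system fix the central elements. -/
theorem autGroup_fix {p : ℕ} (hM : IsPModular p M) (hmax : IsMaximalBrauerPair p M B P e)
    (hRP : R ≤ P) {α : MulAut R} (hα : α ∈ (blockFusion hM hmax.1.1).autGroup R) {z : R}
    (hz : ∀ g : G, Commute g (z : G)) : α z = z := by
  obtain ⟨-, -, y, -, -, hval⟩ :=
    exists_of_mem_autGroup hM (isBlockFusionSystemOn_blockFusion hM hmax) hRP hα
  exact Subtype.ext (by rw [hval, (hz y).eq, mul_inv_cancel_right])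

/-- The subgroups which matter for nilpotency. -/
theorem fullyAutomized_blockFusion {p : ℕ} (hM : IsPModular p M)
    (hmax : IsMaximalBrauerPair p M B P e) (hfn : (blockFusion hM hmax.1.1).IsFullyNormalized R) :
    (blockFusion hM hmax.1.1).IsFullyAutomized p R := by
  have hpf : Fact p.Prime := ⟨hM.1⟩
  have hF := isBlockFusionSystemOn_blockFusion hM hmax
  exact CfsgLib.Fusion.fullyAutomized_of_top hmax.1.1.1 (fullyAutomized_top hM hF)
    (fun Q hQ => receptive_of_defect hM hF (isFullyCentralized_of_fullyNormalized hM hF hQ)) R hfn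

/-- A block whose system has no automorphisms of odd order on centric subgroups is nilpotent. -/
theorem isNilpotentBlock_of_aut (hM : IsPModular 2 M) (hmax : IsMaximalBrauerPair 2 M B P e)
    (h : ∀ R : Subgroup G, R ≤ P → (∀ v ∈ P, (∀ u ∈ R, Commute v u) → v ∈ R) →
      (blockFusion hM hmax.1.1).IsFullyNormalized R →
      ∀ α ∈ (blockFusion hM hmax.1.1).autGroup R, ¬ 2 ∣ orderOf α → α = 1) :
    IsNilpotentBlock 2 M B := by
  classical
  have hpf : Fact (Nat.Prime 2) := ⟨hM.1⟩
  have hF := isBlockFusionSystemOn_blockFusion hM hmax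
  set F := blockFusion hM hmax.1.1 with hFdef
  have hP := hmax.1.1.1
  have hle : F ≤ innerFusionSystem P := by
    refine CfsgLib.Fusion.le_of_autGroup_le hP (isSaturated_blockFusion hM hF) fun R hR => ?_
    have hfn : F.IsFullyNormalized R := by
      rcases hR with rfl | hR
      · exact CfsgLib.Fusion.isFullyNormalized_self
      · exact hR.2.1
    have hRP := hfn.1
    have hcen : ∀ v ∈ P, (∀ u ∈ R, Commute v u) → v ∈ R := by
      intro v hv hvR
      rcases hR with rfl | hR
      · exact hv
      · refine hR.1.2 R ⟨conjHom R 1, F.conj_mem hRP (one_mem P), ?_⟩ ⟨hv, ?_⟩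
        · ext w
          simp [conjHom]
        · exact Subgroup.mem_centralizer_iff.mpr fun u hu => (hvR u hu).symm.eq
    have hp : IsPGroup 2 (F.autGroup R) := isPGroup_two_of_odd fun α hα => Subtype.ext
      (h R hRP hcen hfn α α.2 (by rwa [Subgroup.orderOf_coe]))
    obtain ⟨-, S, hS'⟩ := fullyAutomized_blockFusion hM hmax hfn
    have htop : (S : Subgroup (F.autGroup R)) = ⊤ := (S.is_maximal' (hp.to_subgroup ⊤) le_top).symm
    intro α hα
    have hmem : (⟨α, hα⟩ : F.autGroup R) ∈ (autInducedBy P R).subgroupOf (F.autGroup R) := by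
      rw [← hS', htop]; trivial
    obtain ⟨u, hu, huα⟩ := CfsgLib.Fusion.mem_autInducedBy_iff.mp (Subgroup.mem_subgroupOf.mp hmem)
    refine Subgroup.subset_closure ⟨hRP, u, hu, fun x => ?_⟩
    exact (CfsgLib.Fusion.autFun_coe α x).symm.trans (huα x x.2)
  refine (isNilpotentBlock_iff_inner hM hF).mpr fun Q => Set.Subset.antisymm (hle Q) ?_
  rintro φ ⟨hQ, u, hu, hφ⟩
  have := F.conj_mem hQ hu
  rwa [show φ = conjHom Q u from MonoidHom.ext fun x => hφ x]

/-- A nilpotent block has rank one. -/
theorem rank_eq_one_of_nilpotent {p : ℕ} (hM : IsPModular p M) (h : IsNilpotentBlock p M B) :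
    blockRank p B = 1 :=
  (blockRank_eq_one_of_unitRow hM.1.ne_one (isNilpotentBlock_unitRow hM h)).1

/-- Abelian defect group with at most four elements of square one and a central involution. -/
theorem isNilpotentBlock_abelian (hM : IsPModular 2 M) (hmax : IsMaximalBrauerPair 2 M B P e)
    (hcomm : ∀ a ∈ P, ∀ b ∈ P, Commute a b) {s : Finset G} (hs : ∀ t ∈ P, t * t = 1 → t ∈ s)
    (hs4 : s.card ≤ 4) {z : G} (hzP : z ∈ P) (hz : z ≠ 1) (hz2 : z * z = 1)
    (hzc : ∀ g : G, Commute g z) : IsNilpotentBlock 2 M B := by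
  classical
  refine isNilpotentBlock_of_aut hM hmax fun R hRP hcen _ α hα hodd => ?_
  have hPR : P ≤ R := fun v hv => hcen v hv fun u hu => hcomm v hv u (hRP hu)
  refine aut_eq_one_of_invariant (hmax.1.1.1.to_le hRP) α hodd ⊤ (by simp) (fun a _ b _ =>
    Subtype.ext (hcomm a (hRP a.2) b (hRP b.2)).eq) (fun _ _ => Subgroup.mem_top _)
    (s := s.subtype (· ∈ R)) (fun t _ ht => Finset.mem_subtype.mpr
      (hs t (hRP t.2) (congrArg Subtype.val ht)))
    (le_trans (by rw [Finset.card_subtype]; exact Finset.card_filter_le _ _) hs4)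
    (z := ⟨z, hPR hzP⟩) (Subgroup.mem_top _) (fun e' => hz (congrArg Subtype.val e'))
    (Subtype.ext hz2) (autGroup_fix hM hmax hRP hα hzc)

end CfsgLib.Block.IndexFour
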