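import Cfsg.Agent.Lib.Block.IndexFour.Family
import Cfsg.Agent.Lib.Block.IndexFour.Fuse

/-!
# Automorphisms of subgroups containing their centralizer

In a group `P` of the family the automorphisms of odd order, fixing `jj`, of a subgroup containing
its centralizer are trivial, except possibly for an elementary abelian subgroup of order eight.
-/

open Finset

set_option autoImplicit false
set_option linter.unusedSectionVars false

namespace CfsgLib.Block.IndexFour

universe u

variable {G : Type u} [Group G] [Finite G] {P A R : Subgroup G} {c a x : G} {h : ℕ}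

namespace IFPres

variable (D : IFPres P A c a x h)
include D

/-- At most four elements of square one in `A`. -/
theorem exists_sq_one_finset (R : Subgroup G) :
    ∃ s : Finset R, (∀ t : R, (t : G) ∈ A → t * t = 1 → t ∈ s) ∧ s.card ≤ 4 := by
  classical
  have := Fintype.ofFinite R
  refine ⟨Finset.univ.filter fun t : R => (t : G) ∈ A ∧ t * t = 1,
    fun t h1 h2 => Finset.mem_filter.mpr ⟨Finset.mem_univ _, h1, h2⟩, ?_⟩
  refine le_trans (Finset.card_le_card_of_injOn (t := ({1, c ^ h, a, c ^ h * a} : Finset G))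
    (fun t : R => (t : G)) (fun t ht => ?_) (fun _ _ _ _ e => Subtype.ext e)) Finset.card_le_four
  obtain ⟨h1, h2⟩ := (Finset.mem_filter.mp ht).2
  simp only [Finset.coe_insert, Finset.coe_singleton, Set.mem_insert_iff, Set.mem_singleton_iff]
  exact D.sq_one_cases h1 (congrArg Subtype.val h2)

theorem sq_one_mem (hcen : ∀ v ∈ P, (∀ u ∈ R, Commute v u) → v ∈ R) (hRP : R ≤ P) {z : G}
    (hz : z ∈ A) (h2 : z * z = 1) : z ∈ R :=
  hcen z (D.le hz) fun _ hu => (D.central_of_sq hz h2 (hRP hu)).symm

theorem relIndex_le (hRP : R ≤ P) : (A.subgroupOf R).index ≤ 2 := by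
  have h1 : A.relIndex P = 2 := D.index_two
  exact le_trans (Subgroup.relIndex_le_of_le_right (H := A) hRP (by rw [h1]; norm_num)) h1.le

theorem aut_eq_one_of_inv (hRP : R ≤ P) (hcen : ∀ v ∈ P, (∀ u ∈ R, Commute v u) → v ∈ R)
    (α : MulAut R) (hα : ¬ 2 ∣ orderOf α)
    (hfix : ∀ w : R, (w : G) = jj c x h → α w = w)
    (hinv : ∀ t : R, (t : G) ∈ A → ((α t : R) : G) ∈ A) : α = 1 := by
  obtain ⟨s, hs, hs4⟩ := D.exists_sq_one_finset R
  have hj : jj c x h ∈ R := D.sq_one_mem hcen hRP D.jj_mem D.jj_sq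
  exact aut_eq_one_of_invariant (D.isPGroup.to_le hRP) α hα (A.subgroupOf R) (D.relIndex_le hRP)
    (fun u hu w hw => Subtype.ext (D.comm _ hu _ hw).eq) (fun t ht => hinv t ht)
    (fun t ht h2 => hs t ht h2) hs4 (z := ⟨jj c x h, hj⟩) D.jj_mem
    (fun e => D.jj_ne (congrArg Subtype.val e)) (Subtype.ext D.jj_sq) (hfix _ rfl)

/-- The case of an element of order at least four in `R ∩ A`. -/
theorem aut_eq_one_of_sq_ne (hRP : R ≤ P) (hcen : ∀ v ∈ P, (∀ u ∈ R, Commute v u) → v ∈ R)
    (α : MulAut R) (hα : ¬ 2 ∣ orderOf α) (hfix : ∀ w : R, (w : G) = jj c x h → α w = w)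
    {y : G} (hyR : y ∈ R) (hyA : y ∈ A) (hy : y * y ≠ 1) : α = 1 := by
  by_cases hjq : jj c x h = c ^ h
  · -- the elements of order at least four stay in `A`
    have key : ∀ t : R, (t : G) ∈ A → (t : G) * (t : G) ≠ 1 → ((α t : R) : G) ∈ A := by
      intro t ht h2
      rcases D.sq_ne_cases ht h2 with h4 | h4
      · refine D.mem_of_sq_sq_ne (hRP (α t).2) fun e => h4 ?_
        have : α (t * t * (t * t)) = 1 := Subtype.ext (by simpa using e)
        exact congrArg Subtype.val (α.injective (this.trans (map_one α).symm))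
      · refine D.mem_of_sq_q (hRP (α t).2) ?_
        rw [← Subgroup.coe_mul, ← map_mul, hfix (t * t) (by rw [Subgroup.coe_mul, h4, hjq]),
          Subgroup.coe_mul, h4]
    refine D.aut_eq_one_of_inv hRP hcen α hα hfix fun t ht => ?_
    by_cases h2 : (t : G) * (t : G) = 1
    · set yR : R := ⟨y, hyR⟩
      have h1 := key yR hyA hy
      have h3 := key (t * yR) (mul_mem ht hyA) fun e => hy (by
        rw [Subgroup.coe_mul] at e
        calc y * y = (t : G) * (t : G) * (y * y) := by rw [h2, one_mul]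
          _ = (t : G) * (t * y) * y := by group
          _ = (t : G) * (y * t) * y := by rw [(D.comm _ ht y hyA).eq]
          _ = (t : G) * (yR : G) * ((t : G) * (yR : G)) := by simp only [yR]; group
          _ = 1 := e)
      have h4 := mul_mem h3 (inv_mem h1)
      rwa [map_mul, Subgroup.coe_mul, mul_inv_cancel_right] at h4
    · exact key t ht h2
  · -- then `h = 2` and `R` contains `A`
    have h2 : h = 2 := by
      have := D.two_le
      have := D.h_even
      have : ¬ 4 ≤ h := fun h4 => hjq (D.jj_eq_q h4)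
      omega
    obtain ⟨l, hl⟩ := D.decomp hyA
    have haR : a ∈ R := D.sq_one_mem hcen hRP D.mema D.sqa
    have hcl : c ^ l ∈ R := by
      rcases hl with e | e
      · rwa [← e]
      · have := mul_mem hyR (inv_mem haR)
        rwa [e, mul_inv_cancel_right] at this
    have hlodd : ¬ 2 ∣ l := by
      rintro ⟨k, rfl⟩
      apply hy
      have hc2 : c ^ (2 * k) * c ^ (2 * k) = 1 := by
        rw [← pow_add, D.pow_eq_one, h2]
        exact ⟨k, by ring⟩
      rcases hl with e | e <;> rw [e]
      · exact hc2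
      · calc c ^ (2 * k) * a * (c ^ (2 * k) * a) = c ^ (2 * k) * (a * c ^ (2 * k)) * a := by group
          _ = c ^ (2 * k) * (c ^ (2 * k) * a) * a := by
            rw [(D.comm a D.mema _ (pow_mem D.memc _)).eq]
          _ = c ^ (2 * k) * c ^ (2 * k) * (a * a) := by group
          _ = 1 := by rw [hc2, D.sqa, one_mul]
    have hc : c ∈ R := by
      have h1 : (c ^ l) ^ l = c := by
        conv_rhs => rw [← pow_one c]
        rw [← pow_mul, pow_inj_mod, D.orderc, h2]
        rcases (show l % 4 = 1 ∨ l % 4 = 3 by omega) with e | e <;> simp [Nat.mul_mod, e]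
      exact h1 ▸ pow_mem hcl l
    have hAR : A ≤ R := fun w hw => by
      obtain ⟨k, rfl | rfl⟩ := D.decomp hw
      · exact pow_mem hc k
      · exact mul_mem (pow_mem hc k) haR
    by_cases hRA : R ≤ A
    · exact D.aut_eq_one_of_inv hRP hcen α hα hfix fun t _ => hRA (α t).2
    · obtain ⟨v, hv, hvA⟩ := SetLike.not_le_iff_exists.mp hRA
      have hRP' : R = P := le_antisymm hRP fun w hw => by
        by_cases hwA : w ∈ A
        · exact hAR hwA
        · have := mul_mem hv (hAR (D.inv_mul_mem (hRP hv) hw hvA hwA))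
          rwa [mul_inv_cancel_left] at this
      subst hRP'
      exact D.aut_odd α hα

/-- The case `R ∩ A = Z`: the other elements of `R`. -/
theorem exists_out (hRP : R ≤ P) (hcen : ∀ v ∈ P, (∀ u ∈ R, Commute v u) → v ∈ R)
    (hZ : ∀ t ∈ R, t ∈ A → t * t = 1) : ∃ v ∈ R, v ∉ A := by
  by_contra hall
  push Not at hall
  refine D.notA (hall x (hcen x D.memx fun u hu => ?_))
  exact D.central_of_sq (hall u hu) (hZ u hu (hall u hu)) D.memx

theorem sq_out_eq (hRP : R ≤ P) (hZ : ∀ t ∈ R, t ∈ A → t * t = 1) {v : G} (hv : v ∈ R) (hvA : v ∉ A)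
    {w : G} (hw : w ∈ R) (hwA : w ∉ A) : w * w = v * v := by
  have hy := D.inv_mul_mem (hRP hv) (hRP hw) hvA hwA
  have h2 := hZ _ (mul_mem (inv_mem hv) hw) hy
  have h5 := D.out_mul_sq (hRP hv) hvA hy
  rwa [h2, (D.comm_eq_one hy).mpr h2, mul_inv_cancel_left, mul_one, mul_one] at h5

/-- The outer elements have square different from one. -/
theorem aut_eq_one_of_out (hRP : R ≤ P) (hcen : ∀ v ∈ P, (∀ u ∈ R, Commute v u) → v ∈ R)
    (α : MulAut R) (hα : ¬ 2 ∣ orderOf α) (hfix : ∀ w : R, (w : G) = jj c x h → α w = w)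
    (hZ : ∀ t ∈ R, t ∈ A → t * t = 1) {v : G} (hv : v ∈ R) (hvA : v ∉ A) (h2 : v * v ≠ 1) :
    α = 1 := by
  refine D.aut_eq_one_of_inv hRP hcen α hα hfix fun t ht => ?_
  by_contra hout
  refine h2 ((D.sq_out_eq hRP hZ hv hvA (α t).2 hout).symm.trans ?_)
  rw [← Subgroup.coe_mul, ← map_mul, show t * t = 1 from Subtype.ext (hZ t t.2 ht), map_one]
  rfl

end IFPres

end CfsgLib.Block.IndexFour
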