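import Cfsg.Agent.Lib.Block.IndexFour.Local
import Cfsg.Agent.Lib.Block.Tame.LocalFun

/-!
# All elements outside `A` of square one

Then `x` inverts `A` and `jj = c ^ h`; the elements `c ^ l`, `l` odd, have subsections of rank one.
-/

open Finset MonoidAlgebra
open scoped ComplexConjugate

set_option autoImplicit false
set_option linter.unusedSectionVars false

namespace CfsgLib.Block.IndexFour

open Cfsg CfsgLib CfsgLib.Block
open scoped Pair

universe u

variable {M : Ideal AlgInt} [M.IsMaximal] {G : Type u} [Group G] [Fintype G] [DecidableEq G]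
  {P A : Subgroup G} {c a x : G} {h : ℕ} {e : Set (IrrCharacter (CQ P))}
  {B : Set (IrrCharacter G)}

namespace IFPres

variable (D : IFPres P A c a x h) (hout : ∀ v ∈ P, v ∉ A → v * v = 1)
include D hout

theorem conj_inv {y : G} (hy : y ∈ A) : x * y * x⁻¹ = y⁻¹ := by
  have hx2 := hout x D.memx D.notA
  have hxy := hout (x * y) (mul_mem D.memx (D.le hy)) fun e => D.notA (by
    simpa using mul_mem e (inv_mem hy))
  rw [show x⁻¹ = x from inv_eq_of_mul_eq_one_right hx2]
  refine eq_inv_of_mul_eq_one_left ?_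
  rw [mul_assoc (x * y) x y]
  exact hxy

theorem jj_eq : jj c x h = c ^ h := by
  obtain ⟨k, hk⟩ := D.h_even
  rw [jj, D.conj_inv hout D.memc, show h / 2 = k by omega, show c⁻¹ * c⁻¹ = (c ^ 2)⁻¹ by group,
    inv_pow, ← pow_mul, ← hk]
  exact inv_eq_of_mul_eq_one_right D.q_sq

theorem odd_facts {l : ℕ} (hl : Odd l) : c ^ l * c ^ l ≠ 1 ∧ (c ^ l) ^ h = c ^ h := by
  obtain ⟨k, rfl⟩ := hl
  refine ⟨fun e => ?_, ?_⟩
  · rw [← pow_add, ← two_mul, D.pow_eq_one] at e
    obtain ⟨i, hi⟩ := Nat.dvd_of_mul_dvd_mul_left two_pos e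
    obtain ⟨j, hj⟩ := D.h_even
    have : 2 * (j * i) = 2 * k + 1 := by rw [← mul_assoc, ← hj, ← hi]
    omega
  · rw [← pow_mul, show (2 * k + 1) * h = 2 * h * k + h by ring, pow_add,
      D.pow_eq_one.mpr ⟨k, rfl⟩, one_mul]

end IFPres

variable [Fintype (IrrCharacter G)] (D : IFPres P A c a x h)
include D

/-- The subsections at elements of `A` whose powers contain the central involution have rank one. -/
theorem rank_low_A (hM : IsPModular 2 M) (hmax : IsMaximalBrauerPair 2 M B P e) {y : P}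
    (hy : (y : G) ∈ A) (hy2 : (y : G) * (y : G) ≠ 1) (hyq : ∃ i : ℕ, (y : G) ^ i = c ^ h) :
    blockRank 2 (lowPair hM hmax.1.1 y).2 = 1 := by
  classical
  obtain ⟨b, hb⟩ := exists_eq_pairMk (a := lowPair hM hmax.1.1 y)
    (Q := Subgroup.zpowers (y : G)) rfl
  have hdef := defect_low hM hmax y fun w hw => by
    rw [centralizer_eq D hy hy2, D.cardA]
    exact card_centralizer_le D w.2 (sq_ne_of_fused D hM hmax hw hy2)
  have hpair := lowPair_pairOf hM hmax y
  rw [hb] at hdef hpair ⊢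
  dsimp only at hdef hpair ⊢
  haveI := Fintype.ofFinite (IrrCharacter (CQ (Subgroup.zpowers (y : G))))
  obtain ⟨e', hmax'⟩ := exists_maximalPair_at hM hpair.1.2 hdef
  have hA : ∀ u ∈ P ⊓ CQ (Subgroup.zpowers (y : G)), u ∈ A := fun u hu =>
    D.mem_of_commute hu.1 hy hy2 (mem_cq_zpowers_iff.mp hu.2)
  refine rank_eq_one_of_nilpotent hM (isNilpotentBlock_abelian hM hmax'
    (fun u hu w hw => Subtype.ext (D.comm _ (hA _ hu) _ (hA _ hw)))
    (s := ({1, c ^ h, a, c ^ h * a} : Finset G).subtype (· ∈ CQ (Subgroup.zpowers (y : G))))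
    (fun t ht h2 => Finset.mem_subtype.mpr ?_)
    (le_trans (by rw [Finset.card_subtype]; exact Finset.card_filter_le _ _) Finset.card_le_four)
    (z := ⟨c ^ h, mem_cq_zpowers_iff.mpr (D.comm _ D.q_mem _ hy)⟩)
    ⟨D.le D.q_mem, mem_cq_zpowers_iff.mpr (D.comm _ D.q_mem _ hy)⟩
    (fun e' => D.q_ne (congrArg Subtype.val e')) (Subtype.ext D.q_sq) fun g => Subtype.ext ?_)
  · simp only [Finset.mem_insert, Finset.mem_singleton]
    exact D.sq_one_cases (hA _ ht) (congrArg Subtype.val h2)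
  · obtain ⟨i, hi⟩ := hyq
    have := (mem_cq_zpowers_iff.mp g.2).pow_right i
    rw [hi] at this
    exact this.eq

end CfsgLib.Block.IndexFour
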