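import Cfsg.Agent.Lib.Block.IndexFour.Reps
import Cfsg.Agent.Lib.Block.Tame.LocalPair
import Cfsg.Agent.Lib.Block.DyadicMajor

/-!
# The subsection at `jj` and at an outer element of order four
-/

open Finset MonoidAlgebra

set_option autoImplicit false
set_option linter.unusedSectionVars false

namespace CfsgLib.Block.IndexFour

open Cfsg CfsgLib CfsgLib.Block
open scoped Pair

universe u

variable {M : Ideal AlgInt} [M.IsMaximal] {G : Type u} [Group G] [Fintype G] [DecidableEq G]
  {P A : Subgroup G} {c a x : G} {h : ℕ} {e : Set (IrrCharacter (CQ P))}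
  {B : Set (IrrCharacter G)}

/-- The presentation inside a subgroup. -/
theorem IFPres.toSub (D : IFPres P A c a x h) {C : Subgroup G} (hPC : P ≤ C) :
    IFPres (P.subgroupOf C) (A.subgroupOf C) (⟨c, hPC (D.le D.memc)⟩ : C)
      ⟨a, hPC (D.le D.mema)⟩ ⟨x, hPC D.memx⟩ h where
  pow2 := D.pow2
  le := fun _ hv => D.le hv
  memc := D.memc
  mema := D.mema
  memx := D.memx
  notA := D.notA
  card := by rw [Nat.card_congr (Subgroup.subgroupOfEquivOfLe hPC).toEquiv, D.card]
  cardA := by rw [Nat.card_congr (Subgroup.subgroupOfEquivOfLe (D.le.trans hPC)).toEquiv, D.cardA]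
  comm := fun y hy z hz => Subtype.ext (D.comm _ hy _ hz)
  orderc := by rw [← Subgroup.orderOf_coe]; exact D.orderc
  sqa := Subtype.ext D.sqa
  nota := fun hm => by
    obtain ⟨k, hk⟩ := Subgroup.mem_zpowers_iff.mp hm
    exact D.nota (Subgroup.mem_zpowers_iff.mpr ⟨k, by simpa using congrArg Subtype.val hk⟩)
  centa := Subtype.ext D.centa
  fix := fun y hy hc => Subtype.ext (D.fix _ hy (congrArg Subtype.val hc))
  sq_out := fun v hv hvA e' => D.sq_out _ hv hvA (by simpa using congrArg Subtype.val e')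

variable [Fintype (IrrCharacter G)]

/-- The counting at a subsection of rank one. -/
theorem rank_one_count (hM : IsPModular 2 M) {C : Subgroup G} [Fintype C] [Fintype (IrrCharacter C)]
    {x : G} {k : ℕ} (hk : orderOf x = 2 ^ k) (hC : ∀ t : G, t ∈ C ↔ Commute t x)
    {b : Set (IrrCharacter C)} (hb : IsInducedBlock M C b B) (hl : blockRank 2 b = 1) :
    Nat.card {χ : IrrCharacter G // χ ∈ B ∧ blockHeight 2 B (χ : G → ℂ) = 0} ≤ 2 ^ blockDefect 2 b ∧
      (blockDefect 2 b = blockDefect 2 B → 4 * Nat.card B ≤ 2 ^ blockDefect 2 B +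
        3 * Nat.card {χ : IrrCharacter G // χ ∈ B ∧ blockHeight 2 B (χ : G → ℂ) = 0}) := by
  classical
  obtain ⟨A, S, hS0, -, hA0, hrow, hsum, hodd, -, hmaj⟩ := exists_avg_matrix hM hk hC hb
  rw [hl, Nat.cast_one, mul_one] at hsum
  set s := Finset.univ.filter (fun χ : IrrCharacter G => χ ∈ B)
  set Z := s.filter (fun χ : IrrCharacter G => blockHeight 2 B (χ : G → ℂ) = 0) with hZ
  have hZc : Nat.card {χ : IrrCharacter G // χ ∈ B ∧ blockHeight 2 B (χ : G → ℂ) = 0} = Z.card := by
    rw [Nat.card_eq_fintype_card, Fintype.card_subtype, hZ, Finset.filter_filter]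
  rw [hZc]
  have hz : ∀ χ ∈ Z, (1 : ℤ) ≤ A χ := fun χ hχ => by
    obtain ⟨h1, h2⟩ := Finset.mem_filter.mp hχ
    have := hodd χ (Finset.mem_filter.mp h1).2 h2
    have := hA0 χ
    omega
  have hsplit := (Finset.sum_filter_add_sum_filter_not s
    (fun χ : IrrCharacter G => blockHeight 2 B (χ : G → ℂ) = 0) A).trans hsum
  set W := s.filter (fun χ : IrrCharacter G => ¬ blockHeight 2 B (χ : G → ℂ) = 0) with hW
  rw [← hZ] at hsplit
  have hZs : (Z.card : ℤ) ≤ ∑ χ ∈ Z, A χ := by
    refine le_trans ?_ (Finset.sum_le_sum hz)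
    rw [Finset.sum_const, nsmul_eq_mul, mul_one]
  refine ⟨?_, fun hd => ?_⟩
  · have h0 : 0 ≤ ∑ χ ∈ W, A χ := Finset.sum_nonneg fun χ _ => hA0 χ
    have h2 : (Z.card : ℤ) ≤ (2 : ℤ) ^ blockDefect 2 b := by omega
    exact_mod_cast h2
  · obtain ⟨χ₀, hχ₀, h00⟩ := exists_height_zero hM hb.2.1
    have hWs : ∀ χ ∈ W, (4 : ℤ) ≤ A χ := fun χ hχ => by
      obtain ⟨h1, h2⟩ := Finset.mem_filter.mp hχ
      have hχB := (Finset.mem_filter.mp h1).2
      obtain ⟨hdvd, hS⟩ := hmaj hd χ hχB (Nat.pos_of_ne_zero h2)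
      have hne : A χ ≠ 0 := fun hA => by
        have h3 := hrow χ hχB
        have h4 := Finset.single_le_sum (f := fun ψ => S χ ψ) (s := s.erase χ) (fun ψ _ => hS0 χ ψ)
          (a := χ₀) (Finset.mem_erase.mpr ⟨fun e => h2 (e ▸ h00), Finset.mem_filter.mpr ⟨Finset.mem_univ _, hχ₀⟩⟩)
        have h5 := hS χ₀ hχ₀ h00
        have h6 : (0 : ℤ) < 4 ^ blockHeight 2 B (χ : G → ℂ) := by positivity
        rw [hA] at h3
        omega
      have h7 : (4 : ℤ) ∣ A χ := (pow_dvd_pow (2 : ℤ)
        (show 2 ≤ blockHeight 2 B (χ : G → ℂ) + 1 by omega)).trans hdvd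
      have := hA0 χ
      omega
    have hW4 : (4 : ℤ) * W.card ≤ ∑ χ ∈ W, A χ := by
      refine le_trans ?_ (Finset.sum_le_sum hWs)
      rw [Finset.sum_const, nsmul_eq_mul, mul_comm]
    have hBc : Nat.card B = Z.card + W.card := by
      rw [Nat.card_eq_fintype_card, Fintype.card_subtype, hZ, hW, Finset.card_filter_add_card_filter_not]
    rw [hd] at hsplit
    have h2 : ((4 * Nat.card B : ℕ) : ℤ) ≤ ((2 ^ blockDefect 2 B + 3 * Z.card : ℕ) : ℤ) := by
      rw [hBc]
      push_cast
      omega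
    exact_mod_cast h2

variable (D : IFPres P A c a x h)
include D

/-- The nilpotent local pair at `jj`. -/
theorem exists_setup_jj (hM : IsPModular 2 M) (hmax : IsMaximalBrauerPair 2 M B P e) :
    ∃ f : Set (IrrCharacter (CQ (Subgroup.zpowers (IFPres.jj c x h)))),
      Tame.Setup 2 M B P e (Subgroup.zpowers (IFPres.jj c x h)) P f e ∧
      IsInducedBlock M (CQ (Subgroup.zpowers (IFPres.jj c x h))) f B ∧
      blockDefect 2 f = blockDefect 2 B := by
  classical
  set jP : P := ⟨IFPres.jj c x h, D.le D.jj_mem⟩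
  obtain ⟨b, hb, hind, hd, hPC, hdef⟩ := exists_major_lowPair hM hmax (y := jP)
    (Subgroup.mem_center_iff.mpr fun v => Subtype.ext (D.jj_central v.2).eq)
  simp only [jP] at hPC hdef hind hd
  rw [inf_eq_left.mpr hPC] at hdef
  haveI := Fintype.ofFinite (IrrCharacter (CQ (Subgroup.zpowers (IFPres.jj c x h))))
  have hnil : IsNilpotentBlock 2 M b := by
    obtain ⟨e', hmax'⟩ := exists_maximalPair_at hM hind.1 hdef
    refine isNilpotentBlock_family hM hmax' (D.toSub hPC) fun g => ?_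
    refine Subtype.ext ?_
    have e1 : ((IFPres.jj (⟨c, hPC (D.le D.memc)⟩ : CQ (Subgroup.zpowers (IFPres.jj c x h)))
        ⟨x, hPC D.memx⟩ h : CQ (Subgroup.zpowers (IFPres.jj c x h))) : G) = IFPres.jj c x h := by
      exact map_pow (CQ (Subgroup.zpowers (IFPres.jj c x h))).subtype _ _
    rw [Subgroup.coe_mul, Subgroup.coe_mul, e1]
    exact (mem_cq_zpowers_iff.mp g.2).eq
  have hle := lowPair_below hM hmax.1.1 jP
  rw [hb] at hle
  obtain ⟨g, hg, hgP⟩ := SubpairLE.exists_nSub_mid hM hmax.1.1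
    (hle : SubpairLE 2 M _ b P e) (SubpairLE.le hle) le_rfl
    (hPC.trans (centralizer_le_normalizer' _))
  obtain rfl : g = e := SubpairLE.eq_of_eq hM hgP
  exact ⟨b, ⟨hM, hmax, Relation.ReflTransGen.refl, hg, hPC, hdef, hnil⟩, hind, hd⟩

theorem pow_defect (hM : IsPModular 2 M) (hmax : IsMaximalBrauerPair 2 M B P e) :
    2 ^ blockDefect 2 B = 8 * h := by
  rw [← D.card]
  exact (defectGroup_card hM hmax.1.2.1 (isDefectGroup_of_maximal hM hmax)).symm

/-- The members and those of height zero. -/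
theorem four_card_le (hM : IsPModular 2 M) (hmax : IsMaximalBrauerPair 2 M B P e) :
    4 * Nat.card B ≤ 8 * h +
      3 * Nat.card {χ : IrrCharacter G // χ ∈ B ∧ blockHeight 2 B (χ : G → ℂ) = 0} := by
  classical
  obtain ⟨f, S, hind, hd⟩ := exists_setup_jj D hM hmax
  obtain ⟨k, hk⟩ := exists_pElement_orderOf hmax.1.1 ⟨IFPres.jj c x h, D.le D.jj_mem⟩ hM.1
  haveI := Fintype.ofFinite (IrrCharacter (CQ (Subgroup.zpowers (IFPres.jj c x h))))
  have h1 := (rank_one_count hM hk (fun t => mem_cq_zpowers_iff) hind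
    (rank_eq_one_of_nilpotent hM S.nil)).2 hd
  rwa [pow_defect D hM hmax] at h1

/-- The centralizer of an element outside `A` has order eight. -/
theorem card_centralizer_out {w : G} (hw : w ∈ P) (hwA : w ∉ A) :
    Nat.card (P ⊓ Subgroup.centralizer ({w} : Set G) : Subgroup G) = 8 := by
  classical
  set s : Finset G := {1, c ^ h, a, c ^ h * a} with hs
  have hqa2 : c ^ h * a * (c ^ h * a) = 1 := by
    rw [mul_assoc, ← mul_assoc a (c ^ h) a, (D.comm a D.mema _ D.q_mem).eq,
      mul_assoc (c ^ h) a a, D.sqa, mul_one, D.q_sq]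
  have hsA : ∀ z ∈ s, z ∈ A ∧ z * z = 1 := by
    intro z hz
    simp only [hs, Finset.mem_insert, Finset.mem_singleton] at hz
    rcases hz with rfl | rfl | rfl | rfl
    exacts [⟨one_mem A, one_mul 1⟩, ⟨D.q_mem, D.q_sq⟩, ⟨D.mema, D.sqa⟩, ⟨mul_mem D.q_mem D.mema, hqa2⟩]
  have h4 : s.card = 4 := by
    rw [hs, Finset.card_insert_of_notMem, Finset.card_insert_of_notMem, Finset.card_pair]
    · exact fun e' => D.q_ne (right_eq_mul.mp e')
    · simp only [Finset.mem_insert, Finset.mem_singleton, not_or]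
      exact ⟨Ne.symm D.a_ne_q, fun e' => D.a_ne (left_eq_mul.mp e')⟩
    · simp only [Finset.mem_insert, Finset.mem_singleton, not_or]
      exact ⟨Ne.symm D.q_ne, Ne.symm D.a_ne, Ne.symm D.qa_ne⟩
  have hset : ((P ⊓ Subgroup.centralizer ({w} : Set G) : Subgroup G) : Set G) =
      ↑(s ∪ s.image (w * ·)) := by
    ext v
    simp only [Subgroup.coe_inf, Set.mem_inter_iff, SetLike.mem_coe, Finset.coe_union, Set.mem_union,
      Finset.coe_image, Set.mem_image, Subgroup.mem_centralizer_singleton_iff]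
    constructor
    · rintro ⟨hv, hvw⟩
      obtain ⟨z, hz, hz2, e'⟩ := D.commute_out hw hwA hv (Eq.symm hvw)
      have hzs : z ∈ s := by
        simp only [hs, Finset.mem_insert, Finset.mem_singleton]
        exact D.sq_one_cases hz hz2
      exact e'.imp (fun e' => by rw [e']; exact hzs) fun e' => ⟨z, hzs, e'.symm⟩
    · rintro (hv | ⟨z, hz, rfl⟩)
      · obtain ⟨h1, h2⟩ := hsA v hv
        exact ⟨D.le h1, (D.central_of_sq h1 h2 hw).symm.eq⟩
      · obtain ⟨h1, h2⟩ := hsA z hz
        exact ⟨mul_mem hw (D.le h1),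
          ((Commute.refl w).mul_left (D.central_of_sq h1 h2 hw).symm).eq⟩
  have hdis : Disjoint s (s.image (w * ·)) := Finset.disjoint_left.mpr fun z hz hz' => by
    obtain ⟨z', hz'', rfl⟩ := Finset.mem_image.mp hz'
    exact hwA (by simpa using mul_mem (hsA _ hz).1 (inv_mem (hsA _ hz'').1))
  rw [← SetLike.coe_sort_coe, hset, Nat.card_coe_set_eq, Set.ncard_coe_finset,
    Finset.card_union_of_disjoint hdis, Finset.card_image_of_injective _ (mul_right_injective w), h4]

/-- An outer element of order four bounds the members of height zero by eight. -/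
theorem k0_le_eight_out4 (hM : IsPModular 2 M) (hmax : IsMaximalBrauerPair 2 M B P e) {v : P}
    (hvA : (v : G) ∉ A) (hv2 : (v : G) * (v : G) ≠ 1) :
    Nat.card {χ : IrrCharacter G // χ ∈ B ∧ blockHeight 2 B (χ : G → ℂ) = 0} ≤ 8 := by
  classical
  obtain ⟨b, hb⟩ := exists_eq_pairMk (a := lowPair hM hmax.1.1 v)
    (Q := Subgroup.zpowers (v : G)) rfl
  have hdef := defect_low hM hmax v fun w hw => by
    rw [card_centralizer_out D v.2 hvA, card_centralizer_out D w.2 fun hwA =>
      not_fused_out D hM hmax hvA hv2 hwA (by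
        rw [fusClass_eq_of_mem hM hmax.1.1 hw]
        exact self_mem_fusClass hM hmax.1.1 v)]
  have hpair := lowPair_pairOf hM hmax v
  rw [hb] at hdef hpair
  dsimp only at hdef hpair
  haveI := Fintype.ofFinite (IrrCharacter (CQ (Subgroup.zpowers (v : G))))
  obtain ⟨e', hmax'⟩ := exists_maximalPair_at hM hpair.1.2 hdef
  have hdec : ∀ u ∈ P ⊓ CQ (Subgroup.zpowers (v : G)), ∃ z ∈ A, z * z = 1 ∧ (u = z ∨ u = (v : G) * z) :=
    fun u hu => D.commute_out v.2 hvA hu.1 (mem_cq_zpowers_iff.mp hu.2).symm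
  have hsmem : ∀ u ∈ P ⊓ CQ (Subgroup.zpowers (v : G)), u * u = 1 →
      u ∈ ({1, c ^ h, a, c ^ h * a} : Finset G) := by
    intro u hu h2
    obtain ⟨z, hz, hz2, rfl | rfl⟩ := hdec u hu
    · simp only [Finset.mem_insert, Finset.mem_singleton]
      exact D.sq_one_cases hz hz2
    · rw [D.out_mul_sq v.2 hvA hz, hz2, (D.comm_eq_one hz).mpr hz2, mul_one, mul_one] at h2
      exact absurd h2 hv2
  have hnil : IsNilpotentBlock 2 M b := by
    refine isNilpotentBlock_abelian hM hmax' ?_ (s := ({1, c ^ h, a, c ^ h * a} : Finset G).subtype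
      (· ∈ CQ (Subgroup.zpowers (v : G)))) (fun t ht h2 => Finset.mem_subtype.mpr
        (hsmem t ht (congrArg Subtype.val h2)))
      (le_trans (by rw [Finset.card_subtype]; exact Finset.card_filter_le _ _) Finset.card_le_four)
      (z := ⟨(v : G) * v, mem_cq_zpowers_iff.mpr ((Commute.refl (v : G)).mul_left (Commute.refl _))⟩)
      ⟨mul_mem v.2 v.2, mem_cq_zpowers_iff.mpr ((Commute.refl (v : G)).mul_left (Commute.refl _))⟩
      (fun e' => hv2 (congrArg Subtype.val e')) (Subtype.ext (D.out_sq v.2 hvA).1) ?_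
    · intro u hu w hw
      refine Subtype.ext ?_
      show Commute (u : G) (w : G)
      obtain ⟨z, hz, hz2, e1⟩ := hdec u hu
      obtain ⟨z', hz', hz2', e2⟩ := hdec w hw
      have h1 := D.central_of_sq hz hz2 v.2
      have h2 := D.central_of_sq hz' hz2' v.2
      have h3 := D.comm z hz z' hz'
      rcases e1 with e1 | e1 <;> rcases e2 with e2 | e2 <;> rw [e1, e2]
      exacts [h3, h1.symm.mul_right h3, h2.mul_left h3,
        ((Commute.refl _).mul_right h2).mul_left (h1.symm.mul_right h3)]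
    · intro g
      refine Subtype.ext ?_
      have hg := mem_cq_zpowers_iff.mp g.2
      exact (hg.mul_right hg).eq
  have h1 := (rank_one_count hM (exists_pElement_orderOf hmax.1.1 v hM.1).choose_spec
    (fun t => mem_cq_zpowers_iff) ((isBrauerPairOf_zpowers_iff hM hmax.1.2.1
      (exists_pElement_orderOf hmax.1.1 v hM.1)).mp hpair) (rank_eq_one_of_nilpotent hM hnil)).1
  rwa [← defectGroup_card hM hpair.1.2 hdef, card_subgroupOf_inf, Subgroup.zpowers_eq_closure,
    Subgroup.centralizer_closure, card_centralizer_out D v.2 hvA] at h1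

end CfsgLib.Block.IndexFour
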