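import Mathlib

/-!
# Square roots of one modulo a power of two
-/

set_option autoImplicit false

namespace CfsgLib.Block.IndexFour

theorem sq_one_mod {m i : ℕ} (hm : 1 ≤ m) (h : i * i % 2 ^ (m + 1) = 1) :
    i % 2 ^ (m + 1) = 1 ∨ i % 2 ^ (m + 1) = 2 ^ (m + 1) - 1 ∨ i % 2 ^ (m + 1) = 2 ^ m + 1 ∨
      i % 2 ^ (m + 1) = 2 ^ m - 1 := by
  set N := 2 ^ (m + 1) with hN
  have h2N : N = 2 * 2 ^ m := by rw [hN, pow_succ']
  have hm2 : 2 ≤ 2 ^ m := Nat.le_self_pow (by omega) 2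
  have h1 : i * i = N * (i * i / N) + 1 := by
    have := Nat.div_add_mod (i * i) N
    omega
  obtain ⟨j, rfl⟩ : ∃ j, i = 2 * j + 1 := by
    rcases Nat.even_or_odd' i with ⟨j, rfl | rfl⟩
    · exfalso
      have h3 : 2 ∣ N * (2 * j * (2 * j) / N) + 1 := h1 ▸ ⟨j * (2 * j), by ring⟩
      have h4 : 2 ∣ N * (2 * j * (2 * j) / N) := Dvd.dvd.mul_right ⟨2 ^ m, h2N⟩ _
      have := (Nat.dvd_add_right h4).mp h3
      norm_num at this
    · exact ⟨j, rfl⟩
  have hdvd : 2 ^ (m - 1) ∣ j * (j + 1) := by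
    refine Nat.dvd_of_mul_dvd_mul_left (show 0 < 4 by norm_num) ⟨(2 * j + 1) * (2 * j + 1) / N, ?_⟩
    have e : 4 * 2 ^ (m - 1) = N := by
      obtain ⟨k, rfl⟩ : ∃ k, m = k + 1 := ⟨m - 1, by omega⟩
      rw [hN, Nat.add_sub_cancel]
      ring
    rw [e]
    have h5 : (2 * j + 1) * (2 * j + 1) = 4 * (j * (j + 1)) + 1 := by ring
    omega
  have key : 2 ^ (m - 1) ∣ j ∨ 2 ^ (m - 1) ∣ j + 1 := by
    rcases Nat.even_or_odd j with he | ho
    · refine Or.inl ((Nat.Coprime.pow_left _ ?_).dvd_of_dvd_mul_right hdvd)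
      exact Nat.coprime_two_left.mpr he.add_one
    · exact Or.inr ((Nat.Coprime.pow_left _ (Nat.coprime_two_left.mpr ho)).dvd_of_dvd_mul_left hdvd)
  have e2 : 2 * 2 ^ (m - 1) = 2 ^ m := by rw [← pow_succ', Nat.sub_add_cancel hm]
  rcases key with ⟨k, hk⟩ | ⟨k, hk⟩
  · have e3 : 2 * j + 1 = 2 ^ m * k + 1 := by rw [hk, ← e2]; ring
    rcases Nat.even_or_odd' k with ⟨l, rfl | rfl⟩
    · left
      rw [e3, show 2 ^ m * (2 * l) = N * l by rw [h2N]; ring, Nat.mul_add_mod, Nat.one_mod_eq_one.mpr (by omega)]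
    · right; right; left
      rw [e3, show 2 ^ m * (2 * l + 1) + 1 = N * l + (2 ^ m + 1) by rw [h2N]; ring, Nat.mul_add_mod,
        Nat.mod_eq_of_lt (by omega)]
  · have e3 : 2 * j + 1 + 1 = 2 ^ m * k := by rw [← e2, mul_assoc, ← hk]; ring
    rcases Nat.even_or_odd' k with ⟨l, rfl | rfl⟩
    · right; left
      obtain ⟨l, rfl⟩ : ∃ l', l = l' + 1 := ⟨l - 1, by
        rcases l with _ | l
        · simp at e3
        · omega⟩
      have : 2 * j + 1 = N * l + (N - 1) := by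
        have : 2 ^ m * (2 * (l + 1)) = N * l + N := by rw [h2N]; ring
        omega
      rw [this, Nat.mul_add_mod, Nat.mod_eq_of_lt (by omega)]
    · right; right; right
      have : 2 * j + 1 = N * l + (2 ^ m - 1) := by
        have : 2 ^ m * (2 * l + 1) = N * l + 2 ^ m := by rw [h2N]; ring
        omega
      rw [this, Nat.mul_add_mod, Nat.mod_eq_of_lt (by omega)]

end CfsgLib.Block.IndexFour
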