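import Cfsg.Agent.Lib.Block.IndexFour.Modular
import Cfsg.Agent.Lib.Block.IndexFour.SquareRoots
import Cfsg.Agent.Lib.Block.FreeInertial.FourTorsion
import Cfsg.Agent.Lib.Block.Tame.DihedralMain
import Cfsg.Agent.Lib.Block.Tame.TameMain
import Cfsg.Agent.Lib.Classical.DihedralO2

/-!
# Defect groups giving rank at most three

Commutative with at most four elements of square one, or with a cyclic subgroup of index at most two.
-/

open Finset MonoidAlgebra

set_option autoImplicit false
set_option linter.unusedSectionVars false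

namespace CfsgLib.Block.IndexFour

open Cfsg CfsgLib CfsgLib.Block
open scoped Pair

universe u

variable {M : Ideal AlgInt} [M.IsMaximal] {G : Type u} [Group G] [Fintype G] [DecidableEq G]
  [Fintype (IrrCharacter G)] {B : Set (IrrCharacter G)} {D : Subgroup G}

/-- An abelian defect group with at most four elements of square one. -/
theorem rank_le_three_comm (hM : IsPModular 2 M) (hB : IsPBlock M B) (hD : IsDefectGroup 2 M B D)
    (hab : ∀ a ∈ D, ∀ b ∈ D, Commute a b) {s : Finset G} (hs : ∀ t ∈ D, t * t = 1 → t ∈ s)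
    (hs4 : s.card ≤ 4) : blockRank 2 B ≤ 3 := by
  classical
  haveI := Fintype.ofFinite D
  by_cases h4 : Nat.card {x : D // x ^ 2 = 1} = 4
  · rcases FreeInertial.counts_fourTorsion hM hB hD (fun a ha b hb => (hab a ha b hb).eq) h4 with
      ⟨h, -⟩ | ⟨h, -⟩ <;> omega
  rw [Nat.card_eq_fintype_card, Fintype.card_subtype] at h4
  set F := Finset.univ.filter fun x : D => x ^ 2 = 1 with hF
  have hle : F.card ≤ 4 := by
    refine le_trans (Finset.card_le_card_of_injOn (fun x : D => (x : G)) (fun x hx => ?_)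
      Subtype.val_injective.injOn) hs4
    have h2 : x ^ 2 = 1 := (Finset.mem_filter.mp hx).2
    exact hs _ x.2 (by rw [← pow_two]; exact congrArg Subtype.val h2)
  have huniq : ∀ z w : D, z ^ 2 = 1 → w ^ 2 = 1 → z ≠ 1 → w ≠ 1 → z = w := by
    intro z w hz hw hz1 hw1
    by_contra hne
    have hzw : (z * w) ^ 2 = 1 := by
      rw [(show Commute z w from Subtype.ext (hab _ z.2 _ w.2).eq).mul_pow, hz, hw, one_mul]
    have hsub : ({1, z, w, z * w} : Finset D) ⊆ F := by
      intro v hv
      simp only [Finset.mem_insert, Finset.mem_singleton] at hv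
      refine Finset.mem_filter.mpr ⟨Finset.mem_univ _, ?_⟩
      rcases hv with rfl | rfl | rfl | rfl
      exacts [one_pow 2, hz, hw, hzw]
    have h1 : ({1, z, w, z * w} : Finset D).card = 4 := by
      rw [Finset.card_insert_of_notMem, Finset.card_insert_of_notMem, Finset.card_pair]
      · exact fun e => hz1 (by simpa using e)
      · simp only [Finset.mem_insert, Finset.mem_singleton, not_or]
        exact ⟨hne, fun e => hw1 (by simpa using e)⟩
      · simp only [Finset.mem_insert, Finset.mem_singleton, not_or]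
        refine ⟨Ne.symm hz1, Ne.symm hw1, fun e => hne ?_⟩
        rw [eq_inv_of_mul_eq_one_left e.symm, inv_eq_of_mul_eq_one_right (by rw [← pow_two]; exact hw)]
    have := Finset.card_le_card hsub
    omega
  obtain ⟨e, hmax⟩ := exists_maximalPair_at hM hB hD
  refine le_trans (le_of_eq (rank_eq_one_of_nilpotent hM (isNilpotentBlock_of_aut hM hmax
    fun R hRP _ _ α _ hodd => ?_))) (by norm_num)
  letI : CommGroup R := { (inferInstance : Group R) with
    mul_comm := fun a b => Subtype.ext (hab a (hRP a.2) b (hRP b.2)).eq }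
  refine FreeInertial.aut_eq_one_of_fix Nat.prime_two (hmax.1.1.1.to_le hRP) α hodd fun u hu => ?_
  by_cases h1 : u = 1
  · rw [h1, map_one]
  refine Subtype.ext ?_
  have h2 : (α u) ^ 2 = 1 := by rw [← map_pow, hu, map_one]
  have h3 := huniq ⟨(α u : R), hRP (α u).2⟩ ⟨(u : G), hRP u.2⟩
    (Subtype.ext (by simpa using congrArg Subtype.val h2)) (Subtype.ext (by simpa using congrArg Subtype.val hu))
    (fun e' => h1 (α.injective (by rw [map_one]; exact Subtype.ext (congrArg Subtype.val e' :))))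
    (fun e' => h1 (Subtype.ext (congrArg Subtype.val e' :)))
  exact (congrArg Subtype.val h3 :)

/-- Normal form with a cyclic subgroup of index two. -/
theorem index_two_cases {x y : G} (hx : x ∈ D) (hy : y ∈ D) (hyx : y ∉ Subgroup.zpowers x)
    (hidx : Nat.card D = 2 * orderOf x) :
    (∀ v ∈ D, ∃ l : ℕ, v = x ^ l ∨ v = y * x ^ l) ∧ y * x * y⁻¹ ∈ Subgroup.zpowers x ∧
      y * y ∈ Subgroup.zpowers x := by
  set X := (Subgroup.zpowers x).subgroupOf D with hX
  have h2 : X.index = 2 := by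
    have h1 := Subgroup.card_mul_index X
    rw [hX, Nat.card_congr (Subgroup.subgroupOfEquivOfLe (Subgroup.zpowers_le.mpr hx)).toEquiv,
      Nat.card_zpowers, hidx, mul_comm 2] at h1
    exact Nat.eq_of_mul_eq_mul_left (orderOf_pos x) h1
  have hmul : ∀ v w : G, v ∈ D → w ∈ D → (v * w ∈ Subgroup.zpowers x ↔
      (v ∈ Subgroup.zpowers x ↔ w ∈ Subgroup.zpowers x)) := by
    intro v w hv hw
    have h := Subgroup.mul_mem_iff_of_index_two h2 (a := (⟨v, hv⟩ : D)) (b := ⟨w, hw⟩)
    simpa [hX, Subgroup.mem_subgroupOf] using h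
  refine ⟨fun v hv => ?_, ?_, (hmul y y hy hy).mpr Iff.rfl⟩
  · by_cases hvx : v ∈ Subgroup.zpowers x
    · obtain ⟨l, hl⟩ := mem_powers_iff_mem_zpowers.mpr hvx
      exact ⟨l, Or.inl hl.symm⟩
    · have h := (hmul y⁻¹ v (inv_mem hy) hv).mpr (by simp [hyx, hvx])
      obtain ⟨l, hl⟩ := mem_powers_iff_mem_zpowers.mpr h
      have hl' : x ^ l = y⁻¹ * v := hl
      exact ⟨l, Or.inr (by rw [hl', mul_inv_cancel_left])⟩
  · rw [hmul _ _ (mul_mem hy hx) (inv_mem hy), hmul _ _ hy hx]
    simp [hyx]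

/-- The block of a dihedral defect group. -/
theorem rank_le_three_dihedral (hM : IsPModular 2 M) {e : Set (IrrCharacter (CQ D))}
    (hmax : IsMaximalBrauerPair 2 M B D e) {x y : G} {h m : ℕ} (hm : 0 < m) (hh : h = 2 ^ m)
    (hx : x ∈ D) (hy : y ∈ D) (hox : orderOf x = 2 * h) (hyy : y * y = 1)
    (hrel : y * x * y⁻¹ = x⁻¹) (hyn : y ∉ Subgroup.zpowers x)
    (hcard : Nat.card D = 4 * h) (hcases : ∀ v ∈ D, ∃ l : ℕ, v = x ^ l ∨ v = y * x ^ l) :
    blockRank 2 B ≤ 3 := by
  classical
  have hy' : y⁻¹ = y := inv_eq_of_mul_eq_one_right hyy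
  have h2 := CfsgLib.Classical.mulEquiv_dihedral_of_inverting (G := D) (x := ⟨y, hy⟩)
    (M := ⟨x, hx⟩) (Subtype.ext hyy)
    (fun e' => hyn (by rw [show y = 1 from congrArg Subtype.val e']; exact one_mem _))
    (Subtype.ext (show y * x * y = x⁻¹ by
      conv_lhs => arg 2; rw [← hy']
      exact hrel))
    (fun e' => hyn (by
      rw [eq_inv_of_mul_eq_one_left (show y * x = 1 from congrArg Subtype.val e')]
      exact inv_mem (Subgroup.mem_zpowers _)))
    (fun g => by
      obtain ⟨l, hl | hl⟩ := hcases g g.2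
      · exact Or.inl (Subgroup.mem_zpowers_iff.mpr ⟨l, Subtype.ext (by simp [hl])⟩)
      · refine Or.inr (Subgroup.mem_zpowers_iff.mpr ⟨l, Subtype.ext ?_⟩)
        show _ = y * (g : G)
        rw [hl, ← mul_assoc, hyy, one_mul]
        simp)
  rw [← Subgroup.orderOf_coe, Subgroup.coe_mk, hox] at h2
  exact (Tame.DFrame.invariants (M := M)
    ⟨hM, hmax, ⟨m, hm, hh⟩, hx, hy, hox, hyy, hrel, hyn, hcard, hcases, h2⟩).2.2.1

/-- A defect group with a cyclic subgroup of index at most two. -/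
theorem rank_le_three_cyclic (hM : IsPModular 2 M) (hB : IsPBlock M B) (hD : IsDefectGroup 2 M B D)
    {x : G} (hx : x ∈ D) (hidx : Nat.card D ≤ 2 * orderOf x) : blockRank 2 B ≤ 3 := by
  classical
  obtain ⟨n, hn⟩ := IsPGroup.iff_orderOf.mp (isPGroup_defectGroup hM hB hD) ⟨x, hx⟩
  rw [Subgroup.orderOf_mk] at hn
  have hsq : ∀ v : G, v ∈ Subgroup.zpowers x → v * v = 1 → v = 1 ∨ v = x ^ (orderOf x / 2) := by
    intro v hv hv2
    obtain ⟨l, rfl⟩ := mem_powers_iff_mem_zpowers.mpr hv
    simp only at hv2 ⊢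
    rw [← pow_add, ← orderOf_dvd_iff_pow_eq_one, hn] at hv2
    rcases n with _ | n
    · exact Or.inl (orderOf_dvd_iff_pow_eq_one.mp (by rw [hn, pow_zero]; exact one_dvd l))
    rw [pow_succ', ← two_mul] at hv2
    obtain ⟨k, rfl⟩ := Nat.dvd_of_mul_dvd_mul_left two_pos hv2
    rw [hn, pow_succ', Nat.mul_div_cancel_left _ two_pos]
    rcases Nat.even_or_odd' k with ⟨j, rfl | rfl⟩
    · exact Or.inl (orderOf_dvd_iff_pow_eq_one.mp ⟨j, by rw [hn, pow_succ']; ring⟩)
    · refine Or.inr ?_
      rw [mul_add, mul_one, pow_add]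
      have h1 : x ^ (2 ^ n * (2 * j)) = 1 :=
        orderOf_dvd_iff_pow_eq_one.mp ⟨j, by rw [hn, pow_succ']; ring⟩
      rw [h1, one_mul]
  by_cases hall : ∀ v ∈ D, v ∈ Subgroup.zpowers x
  · refine rank_le_three_comm hM hB hD (fun a ha b hb => ?_)
      (s := {1, x ^ (orderOf x / 2)}) (fun t ht h2 => by simpa using hsq t (hall t ht) h2)
      (le_trans Finset.card_le_two (by norm_num))
    obtain ⟨i, rfl⟩ := mem_powers_iff_mem_zpowers.mpr (hall a ha)
    obtain ⟨j, rfl⟩ := mem_powers_iff_mem_zpowers.mpr (hall b hb)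
    exact Commute.pow_pow_self x i j
  push Not at hall
  obtain ⟨y, hy, hyx⟩ := hall
  have hcard : Nat.card D = 2 * orderOf x := by
    have h1 : Subgroup.zpowers x ≤ D := Subgroup.zpowers_le.mpr hx
    obtain ⟨k, hk⟩ := Subgroup.card_dvd_of_le h1
    rw [Nat.card_zpowers] at hk
    have hne : k ≠ 1 := fun e => hyx (by
      rw [Subgroup.eq_of_le_of_card_ge h1 (by rw [Nat.card_zpowers, hk, e, mul_one])]
      exact hy)
    rw [hk] at hidx ⊢
    have hk0 : k ≠ 0 := fun e => by rw [e, mul_zero] at hk; exact Nat.card_pos.ne' hk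
    have hk2 : k ≤ 2 := Nat.le_of_mul_le_mul_left (by rwa [mul_comm 2] at hidx) (orderOf_pos x)
    rw [show k = 2 by omega, mul_comm]
  obtain ⟨hcases, hconj, hyy⟩ := index_two_cases hx hy hyx hcard
  by_cases hcomm : Commute y x
  · have hab : ∀ a ∈ D, ∀ b ∈ D, Commute a b := by
      intro a ha b hb
      obtain ⟨i, rfl | rfl⟩ := hcases a ha <;> obtain ⟨j, rfl | rfl⟩ := hcases b hb
      exacts [Commute.pow_pow_self x i j,
        ((hcomm.symm.pow_left i).mul_right (Commute.pow_pow_self x i j)),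
        (hcomm.pow_right j).mul_left (Commute.pow_pow_self x i j),
        ((Commute.refl y).mul_right (hcomm.pow_right j)).mul_left
          ((hcomm.symm.pow_left i).mul_right (Commute.pow_pow_self x i j))]
    set z := x ^ (orderOf x / 2)
    by_cases hex : ∃ v ∈ D, v ∉ Subgroup.zpowers x ∧ v * v = 1
    · obtain ⟨v, hvD, hvx, hv2⟩ := hex
      refine rank_le_three_comm hM hB hD hab (s := {1, z, v, v * z}) (fun t ht h2 => ?_)
        Finset.card_le_four
      by_cases htx : t ∈ Subgroup.zpowers x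
      · rcases hsq t htx h2 with e | e <;> simp [e]
      · have hvt : v * t ∈ Subgroup.zpowers x := by
          obtain ⟨i, rfl | rfl⟩ := hcases v hvD
          · exact absurd (Subgroup.npow_mem_zpowers x i) hvx
          obtain ⟨j, rfl | rfl⟩ := hcases t ht
          · exact absurd (Subgroup.npow_mem_zpowers x j) htx
          rw [show y * x ^ i * (y * x ^ j) = y * y * (x ^ i * x ^ j) by
            rw [mul_assoc y (x ^ i), ← mul_assoc (x ^ i) y, ← (hcomm.pow_right i).eq]; simp only [mul_assoc]]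
          exact mul_mem hyy (mul_mem (Subgroup.npow_mem_zpowers x i) (Subgroup.npow_mem_zpowers x j))
        have ht' : t = v * (v * t) := by rw [← mul_assoc, hv2, one_mul]
        rcases hsq _ hvt (by rw [← pow_two, (hab v hvD t ht).mul_pow, pow_two, pow_two, hv2, h2, one_mul])
          with e | e <;> (rw [e] at ht'; simp [ht'])
    · refine rank_le_three_comm hM hB hD hab (s := {1, z}) (fun t ht h2 => ?_)
        (le_trans Finset.card_le_two (by norm_num))
      have htx : t ∈ Subgroup.zpowers x := by_contra fun h' => hex ⟨t, ht, h', h2⟩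
      rcases hsq t htx h2 with e | e <;> simp [e]
  obtain ⟨e, hmax⟩ := exists_maximalPair_at hM hB hD
  rcases n with _ | m
  · exact absurd ((orderOf_eq_one_iff.mp (hn.trans (pow_zero 2))) ▸ Commute.one_right y) hcomm
  obtain ⟨i, hi⟩ := mem_powers_iff_mem_zpowers.mpr hconj
  have hi' : y * x * y⁻¹ = x ^ i := hi.symm
  obtain ⟨s, hs⟩ := mem_powers_iff_mem_zpowers.mpr hyy
  have hs' : y * y = x ^ s := hs.symm
  set h := 2 ^ m with hh
  have hox : orderOf x = 2 * h := by rw [hn, hh, pow_succ']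
  have hcard' : Nat.card D = 4 * h := by rw [hcard, hox]; ring
  have hpow1 : ∀ {l : ℕ}, x ^ l = 1 ↔ 2 * h ∣ l := fun {l} => by
    rw [← hox, orderOf_dvd_iff_pow_eq_one]
  have hpoweq : ∀ {a b : ℕ}, x ^ a = x ^ b ↔ a % (2 * h) = b % (2 * h) := fun {a b} => by
    rw [pow_inj_mod, hox]
  have hxs : y * x ^ s * y⁻¹ = x ^ (i * s) := by rw [← conj_pow, hi', ← pow_mul]
  have his : (i * s) % (2 * h) = s % (2 * h) := by
    rw [← hpoweq, ← hxs, ← hs']
    simp [mul_assoc]
  have hm : 1 ≤ m := by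
    by_contra hm0
    rw [hh, show m = 0 by omega, pow_zero, mul_one] at hox
    have h1 : i % 2 = 1 := by
      rcases Nat.mod_two_eq_zero_or_one i with h0 | h1
      · have h1 : x ^ i = 1 := orderOf_dvd_iff_pow_eq_one.mp (hox ▸ Nat.dvd_of_mod_eq_zero h0)
        rw [h1, conj_eq_one_iff] at hi'
        rw [hi'] at hcomm
        exact absurd (Commute.one_right y) hcomm
      · exact h1
    refine hcomm (mul_inv_eq_iff_eq_mul.mp ?_)
    rw [hi']
    conv_rhs => rw [← pow_one x]
    rw [pow_inj_mod, hox, h1]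
  have hsqi : (i * i) % (2 ^ (m + 1)) = 1 := by
    have h1 : x ^ (i * i) = x ^ 1 := by
      rw [pow_one, pow_mul, ← hi', conj_pow, ← hi', show y * (y * x * y⁻¹) * y⁻¹ = y * y * x * (y * y)⁻¹
        by group, hs', (Commute.pow_self x s).eq, mul_inv_cancel_right]
    rw [hpoweq] at h1
    rw [pow_succ', ← hh, h1, Nat.mod_eq_of_lt (by have := Nat.two_pow_pos m; omega)]
  have hi1 : ¬ i % (2 * h) = 1 := fun e' => hcomm (mul_inv_eq_iff_eq_mul.mp (by
    rw [hi']
    conv_rhs => rw [← pow_one x]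
    rw [hpoweq, e', Nat.mod_eq_of_lt (by have := Nat.two_pow_pos m; omega)]))
  have hthree : i % (2 * h) = 2 * h - 1 ∨ (2 ≤ m ∧ i % (2 * h) = h + 1) ∨
      (2 ≤ m ∧ i % (2 * h) = h - 1) := by
    have := sq_one_mod hm hsqi
    rw [pow_succ', ← hh] at this
    by_cases hm2 : 2 ≤ m
    · rcases this with hc | hc | hc | hc
      exacts [absurd hc hi1, Or.inl hc, Or.inr (Or.inl ⟨hm2, hc⟩), Or.inr (Or.inr ⟨hm2, hc⟩)]
    · have h2 : h = 2 := by rw [hh, show m = 1 by omega, pow_one]
      omega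
  rcases hthree with hc | ⟨hm2, hc⟩ | ⟨hm2, hc⟩
  · -- inversion
    have hrel : y * x * y⁻¹ = x ^ (2 * h - 1) := by
      rw [hi', hpoweq, hc, Nat.mod_eq_of_lt (by have := Nat.two_pow_pos m; omega)]
    have hinv : x ^ (2 * h - 1) = x⁻¹ := eq_inv_of_mul_eq_one_left (by
      rw [← pow_succ, hpow1, Nat.sub_add_cancel (by have := Nat.two_pow_pos m; omega)])
    have h2s : 2 * h ∣ 2 * s := by
      refine hpow1.mp ?_
      have h1 : x ^ (i * s) = (x⁻¹) ^ s := by
        rw [pow_mul, ← hi', hrel, hinv]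
      rw [hpoweq.mpr his, inv_pow] at h1
      rw [two_mul, pow_add]
      conv_lhs => arg 1; rw [h1]
      rw [inv_mul_cancel]
    obtain ⟨q, rfl⟩ := Nat.dvd_of_mul_dvd_mul_left two_pos h2s
    rcases Nat.even_or_odd' q with ⟨j, rfl | rfl⟩
    · exact rank_le_three_dihedral hM hmax hm hh hx hy hox
        (by rw [hs', hpow1]; exact ⟨j, by ring⟩) (hrel.trans hinv) hyx hcard' hcases
    · have hq : y * y = x ^ h := by
        rw [hs', show h * (2 * j + 1) = 2 * h * j + h by ring, pow_add, hpow1.mpr ⟨j, rfl⟩, one_mul]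
      exact (Tame.TFrame.invariants_quaternion (M := M)
        ⟨hM, hmax, ⟨m, hm, hh⟩, hx, hy, hox, Or.inl ⟨hq, by have := Nat.two_pow_pos m; omega⟩, hrel,
          hyx, hcard'⟩ hh hq).2.1
  · -- modular
    obtain ⟨k, hk⟩ : 4 ∣ h := by rw [hh]; exact pow_dvd_pow 2 hm2
    have hrel : y * x * y⁻¹ = x ^ (h + 1) := by
      rw [hi', hpoweq, hc, Nat.mod_eq_of_lt (by omega)]
    obtain ⟨t, rfl⟩ : 2 ∣ s := by
      have h1 : ((h + 1) * s) % (2 * h) = s % (2 * h) := by
        rw [← his, Nat.mul_mod i, hc, Nat.mul_mod (h + 1), Nat.mod_eq_of_lt (show h + 1 < 2 * h by omega)]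
      have h2 : (2 * h : ℤ) ∣ ((((h + 1) * s : ℕ) : ℤ) - (s : ℕ)) :=
        Nat.modEq_iff_dvd.mp h1.symm |> fun h => by exact_mod_cast h
      push_cast at h2
      have h3 : (2 * h : ℤ) ∣ (h : ℤ) * s := by
        rwa [show ((h : ℤ) + 1) * s - s = h * s by ring] at h2
      rw [mul_comm (2 : ℤ), Int.mul_dvd_mul_iff_left (by omega)] at h3
      exact_mod_cast h3
    set l := (2 * k + 1) * t * (h - 1) with hl
    have hexp : 2 * h ∣ (h + 1) * l + 2 * t + l := by
      obtain ⟨w, hw⟩ : ∃ w, h = w + 1 := ⟨h - 1, by omega⟩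
      refine ⟨t * ((k + 1) * (h - 1)) + t, ?_⟩
      rw [hl, hw, Nat.add_sub_cancel]
      have hk' : (w : ℤ) + 1 = 4 * k := by exact_mod_cast (hw.symm.trans hk)
      have : (((w + 1 + 1) * ((2 * k + 1) * t * w) + 2 * t + (2 * k + 1) * t * w : ℕ) : ℤ) =
          ((2 * (w + 1) * (t * ((k + 1) * w) + t) : ℕ) : ℤ) := by
        push_cast
        linear_combination (-((t : ℤ) * w)) * hk'
      exact_mod_cast this
    have hsy : y * x ^ l * (y * x ^ l) = 1 := by
      have h1 : y * x ^ l * (y * x ^ l) = x ^ ((h + 1) * l) * (y * y) * x ^ l := by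
        rw [show x ^ ((h + 1) * l) = y * x ^ l * y⁻¹ by rw [← conj_pow, hrel, ← pow_mul]]
        group
      rw [h1, hs', ← pow_add, ← pow_add, hpow1]
      exact hexp
    have E : MPres D x (y * x ^ l) h :=
      { four_dvd := ⟨k, hk⟩
        pos := Nat.two_pow_pos m
        memx := hx
        memy := mul_mem hy (pow_mem hx l)
        orderx := hox
        sqy := hsy
        rel := by
          rw [← hrel]
          group
        noty := fun hm' => hyx (by simpa using mul_mem hm' (inv_mem (Subgroup.npow_mem_zpowers x l)))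
        cases := fun v hv => by
          obtain ⟨r, rfl | rfl⟩ := hcases v hv
          · exact ⟨r, Or.inl rfl⟩
          · refine ⟨r + l * (2 * h - 1), Or.inr ?_⟩
            rw [mul_assoc, ← pow_add]
            congr 1
            rw [hpoweq]
            have : l + (r + l * (2 * h - 1)) = r + l * (2 * h) := by
              rw [Nat.mul_sub_one]
              have := Nat.le_mul_of_pos_right l (show 0 < 2 * h by omega)
              omega
            rw [this, Nat.add_mul_mod_self_right] }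
    exact (rank_eq_one_of_nilpotent hM (isNilpotentBlock_modular hM hmax E)).le.trans (by norm_num)
  · -- semidihedral
    obtain ⟨k, hk⟩ : 4 ∣ h := by rw [hh]; exact pow_dvd_pow 2 hm2
    have hrel : y * x * y⁻¹ = x ^ (h - 1) := by
      rw [hi', hpoweq, hc, Nat.mod_eq_of_lt (by omega)]
    obtain ⟨q, rfl⟩ : h ∣ s := by
      have h1 : ((h - 1) * s) % (2 * h) = s % (2 * h) := by
        rw [← his, Nat.mul_mod i, hc, Nat.mul_mod (h - 1), Nat.mod_eq_of_lt (show h - 1 < 2 * h by omega)]
      have h2 : (2 * h : ℤ) ∣ ((((h - 1) * s : ℕ) : ℤ) - (s : ℕ)) :=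
        Nat.modEq_iff_dvd.mp h1.symm |> fun h => by exact_mod_cast h
      rw [Nat.cast_mul, Nat.cast_sub (by omega)] at h2
      obtain ⟨r, hr⟩ := h2
      have hk' : (h : ℤ) = 4 * k := by exact_mod_cast hk
      have h3 : (h : ℤ) ∣ (2 * k - 1) * s := ⟨r, by
        have : 2 * ((2 * (k : ℤ) - 1) * s) = 2 * (h * r) := by
          push_cast at hr
          linear_combination hr - (s : ℤ) * hk'
        linarith⟩
      have h4 : IsCoprime (4 * k : ℤ) (2 * k - 1) := ⟨k, -(2 * k + 1), by ring⟩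
      rw [← hk'] at h4
      exact_mod_cast h4.dvd_of_dvd_mul_left h3
    obtain ⟨y', hy', hy'x, hy'2, hy'rel⟩ : ∃ y' ∈ D, y' ∉ Subgroup.zpowers x ∧ y' * y' = 1 ∧
        y' * x * y'⁻¹ = x ^ (h - 1) := by
      rcases Nat.even_or_odd' q with ⟨j, rfl | rfl⟩
      · exact ⟨y, hy, hyx, by rw [hs', hpow1]; exact ⟨j, by ring⟩, hrel⟩
      · refine ⟨y * x, mul_mem hy hx, fun hm' => hyx (by
          simpa using mul_mem hm' (inv_mem (Subgroup.mem_zpowers x))), ?_, by rw [← hrel]; group⟩
        rw [show y * x * (y * x) = y * x * y⁻¹ * (y * y) * x by group, hrel, hs', ← pow_add,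
          ← pow_succ, hpow1]
        exact ⟨j + 1, by
          rw [show h * (2 * j + 1) = 2 * h * j + h by ring, Nat.mul_add, mul_one]
          omega⟩
    exact (Tame.TFrame.invariants_semidihedral (M := M)
      ⟨hM, hmax, ⟨m, hm, hh⟩, hx, hy', hox,
        Or.inr ⟨hy'2, by omega, Nat.le_of_dvd (Nat.two_pow_pos m) ⟨k, hk⟩⟩, hy'rel,
        hy'x, hcard'⟩ hh hy'2).2.2.1

end CfsgLib.Block.IndexFour
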