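import Cfsg.Agent.Lib.Block.IndexFour.Fuse

/-!
# Modular defect groups
-/

open Finset MonoidAlgebra

set_option autoImplicit false
set_option linter.unusedSectionVars false

namespace CfsgLib.Block.IndexFour

open Cfsg CfsgLib CfsgLib.Block
open scoped Pair

universe u

variable {G : Type u} [Group G]

/-- The modular group of order `4 * h` with chosen generators. -/
structure MPres (P : Subgroup G) (x y : G) (h : ℕ) : Prop where
  four_dvd : 4 ∣ h
  pos : 0 < h
  memx : x ∈ P
  memy : y ∈ P
  orderx : orderOf x = 2 * h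
  sqy : y * y = 1
  rel : y * x * y⁻¹ = x ^ (h + 1)
  noty : y ∉ Subgroup.zpowers x
  cases : ∀ v ∈ P, ∃ l : ℕ, v = x ^ l ∨ v = y * x ^ l

namespace MPres

variable [Finite G] {P : Subgroup G} {x y : G} {h : ℕ} (E : MPres P x y h)
include E

theorem pow_eq_one {l : ℕ} : x ^ l = 1 ↔ 2 * h ∣ l := by
  rw [← E.orderx, orderOf_dvd_iff_pow_eq_one]

theorem q_sq : x ^ h * x ^ h = 1 := by rw [← pow_add, E.pow_eq_one, two_mul]

theorem q_ne : x ^ h ≠ 1 := fun e => by
  have := Nat.le_of_dvd E.pos (E.pow_eq_one.mp e)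
  have := E.pos
  omega

theorem conj_pow' (l : ℕ) : y * x ^ l * y⁻¹ = x ^ ((h + 1) * l) := by
  rw [← conj_pow, E.rel, ← pow_mul]

theorem commute_even (k : ℕ) : Commute y (x ^ (2 * k)) := by
  refine mul_inv_eq_iff_eq_mul.mp ?_
  rw [E.conj_pow', show (h + 1) * (2 * k) = 2 * h * k + 2 * k by ring, pow_add,
    E.pow_eq_one.mpr ⟨k, rfl⟩, one_mul]

theorem sq_out (l : ℕ) : y * x ^ l * (y * x ^ l) = x ^ ((h + 2) * l) := by
  have hy : y⁻¹ = y := inv_eq_of_mul_eq_one_right E.sqy
  have h1 := E.conj_pow' l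
  rw [hy] at h1
  rw [← mul_assoc, h1, ← pow_add]
  congr 1
  ring

theorem out_ne (l m : ℕ) : y * x ^ l ≠ x ^ m := fun e => E.noty (by
  rw [eq_mul_inv_of_mul_eq e]
  exact mul_mem (Subgroup.npow_mem_zpowers x m) (inv_mem (Subgroup.npow_mem_zpowers x l)))

theorem pow_h_one {l : ℕ} : (x ^ l) ^ h = 1 ↔ 2 ∣ l := by
  rw [← pow_mul, E.pow_eq_one, mul_comm l, mul_comm 2 h, Nat.mul_dvd_mul_iff_left E.pos]

theorem pow_h_out {l : ℕ} : (y * x ^ l) ^ h = 1 ↔ 2 ∣ l := by
  obtain ⟨k, hk⟩ := E.four_dvd
  have h1 : (y * x ^ l) ^ h = x ^ ((h + 2) * l * (2 * k)) := by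
    rw [pow_mul _ _ (2 * k), ← E.sq_out, ← pow_two, ← pow_mul]
    congr 1
    omega
  rw [h1, E.pow_eq_one, show (h + 2) * l * (2 * k) = h * ((2 * k + 1) * l) by rw [hk]; ring,
    mul_comm 2 h, Nat.mul_dvd_mul_iff_left E.pos, Nat.Prime.dvd_mul Nat.prime_two]
  exact or_iff_right (by omega)

theorem pow_h_cases {v : G} (hv : v ∈ P) (hh : v ^ h = 1) :
    ∃ k : ℕ, v = x ^ (2 * k) ∨ v = y * x ^ (2 * k) := by
  obtain ⟨l, rfl | rfl⟩ := E.cases v hv
  · obtain ⟨k, rfl⟩ := E.pow_h_one.mp hh
    exact ⟨k, Or.inl rfl⟩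
  · obtain ⟨k, rfl⟩ := E.pow_h_out.mp hh
    exact ⟨k, Or.inr rfl⟩

theorem sq_one_mem [DecidableEq G] {v : G} (hv : v ∈ P) (h2 : v * v = 1) :
    v ∈ ({1, x ^ h, y, y * x ^ h} : Finset G) := by
  have hh : v ^ h = 1 := by
    obtain ⟨k, hk⟩ := E.four_dvd
    rw [hk, show 4 * k = 2 * (2 * k) by ring, pow_mul, pow_two, h2, one_pow]
  obtain ⟨k, hk⟩ := E.pow_h_cases hv hh
  have h4 : x ^ (4 * k) = 1 := by
    rcases hk with rfl | rfl
    · rw [← pow_add, show 2 * k + 2 * k = 4 * k by ring] at h2; exact h2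
    · rw [E.sq_out, show (h + 2) * (2 * k) = 2 * h * k + 4 * k by ring, pow_add,
        E.pow_eq_one.mpr ⟨k, rfl⟩, one_mul] at h2
      exact h2
  rw [E.pow_eq_one, show 4 * k = 2 * (2 * k) by ring] at h4
  obtain ⟨i, hi⟩ := Nat.dvd_of_mul_dvd_mul_left two_pos h4
  simp only [Finset.mem_insert, Finset.mem_singleton]
  have hcase : x ^ (2 * k) = 1 ∨ x ^ (2 * k) = x ^ h := by
    rw [hi]
    obtain ⟨j, rfl | rfl⟩ := Nat.even_or_odd' i
    · exact Or.inl (E.pow_eq_one.mpr ⟨j, by ring⟩)
    · exact Or.inr (by rw [show h * (2 * j + 1) = 2 * h * j + h by ring, pow_add,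
        E.pow_eq_one.mpr ⟨j, rfl⟩, one_mul])
  rcases hk with rfl | rfl <;> rcases hcase with e | e <;> rw [e] <;> simp

theorem square_mem {v : G} (hv : v ∈ P) : v * v ∈ Subgroup.zpowers x := by
  obtain ⟨l, rfl | rfl⟩ := E.cases v hv
  · exact mul_mem (Subgroup.npow_mem_zpowers x l) (Subgroup.npow_mem_zpowers x l)
  · rw [E.sq_out]; exact Subgroup.npow_mem_zpowers x _

end MPres

variable {M : Ideal AlgInt} [M.IsMaximal] [Fintype G] [DecidableEq G]
  [Fintype (IrrCharacter G)] {P : Subgroup G} {e : Set (IrrCharacter (CQ P))}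
  {B : Set (IrrCharacter G)} {x y : G} {h : ℕ}

/-- Blocks with modular defect groups are nilpotent. -/
theorem isNilpotentBlock_modular (hM : IsPModular 2 M) (hmax : IsMaximalBrauerPair 2 M B P e)
    (E : MPres P x y h) : IsNilpotentBlock 2 M B := by
  classical
  have hP : IsPGroup 2 P := hmax.1.1.1
  refine isNilpotentBlock_of_aut hM hmax fun R hRP hcen _ α _ hα => ?_
  have hR := hP.to_le hRP
  obtain ⟨k, hk⟩ := E.four_dvd
  have hx2R : x ^ 2 ∈ R := hcen _ (pow_mem E.memx 2) fun u hu => by
    obtain ⟨l, rfl | rfl⟩ := E.cases u (hRP hu)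
    · exact Commute.pow_pow_self x 2 l
    · exact ((by simpa using E.commute_even 1 : Commute y (x ^ 2))).symm.mul_right
        (Commute.pow_pow_self x 2 l)
  have hqR : x ^ h ∈ R := by
    rw [show h = 2 * (2 * k) by omega, pow_mul]; exact pow_mem hx2R _
  set q : R := ⟨x ^ h, hqR⟩ with hq
  have hq1 : q ≠ 1 := fun e' => E.q_ne (congrArg Subtype.val e')
  have hqq : q * q = 1 := Subtype.ext E.q_sq
  have hfix : α q = q := by
    set z : R := ⟨x ^ (2 * k), by rw [pow_mul]; exact pow_mem hx2R _⟩
    have hz : q = z * z := Subtype.ext (by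
      show x ^ h = x ^ (2 * k) * x ^ (2 * k)
      rw [← pow_add]; congr 1; omega)
    have h1 : ((α q : R) : G) ∈ Subgroup.zpowers x := by
      rw [hz, map_mul, Subgroup.coe_mul]; exact E.square_mem (hRP (α z).2)
    obtain ⟨l, hl⟩ := mem_powers_iff_mem_zpowers.mpr h1
    have h2 : ((α q : R) : G) * (α q : R) = 1 := by
      rw [← Subgroup.coe_mul, ← map_mul, hqq, map_one]; rfl
    have hl' : x ^ l = ((α q : R) : G) := hl
    have hm := E.sq_one_mem (hRP (α q).2) h2
    simp only [Finset.mem_insert, Finset.mem_singleton] at hm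
    rcases hm with e' | e' | e' | e'
    · exact absurd (α.injective ((Subtype.ext e' : α q = 1).trans (map_one α).symm)) hq1
    · exact Subtype.ext e'
    · exact absurd (by rw [pow_zero, mul_one, ← e', hl'] : y * x ^ 0 = x ^ l) (E.out_ne 0 l)
    · exact absurd (by rw [← e', hl'] : y * x ^ h = x ^ l) (E.out_ne h l)
  by_cases hRc : ∀ u ∈ R, ∀ w ∈ R, Commute u w
  · refine aut_eq_one_of_invariant hR α hα ⊤ (by simp) (fun u _ w _ => Subtype.ext (hRc u u.2 w w.2).eq)
      (fun _ _ => Subgroup.mem_top _) (s := ({1, x ^ h, y, y * x ^ h} : Finset G).subtype (· ∈ R))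
      (fun t _ ht => Finset.mem_subtype.mpr (E.sq_one_mem (hRP t.2) (congrArg Subtype.val ht)))
      (le_trans (by rw [Finset.card_subtype]; exact Finset.card_filter_le _ _) Finset.card_le_four)
      (Subgroup.mem_top q) hq1 hqq hfix
  -- otherwise `R` is the whole group
  have hPR : P ≤ R := by
    by_cases hx : x ∈ R
    · by_cases hall : ∃ l : ℕ, y * x ^ l ∈ R
      · obtain ⟨l, hl⟩ := hall
        have hy : y ∈ R := by simpa using mul_mem hl (inv_mem (pow_mem hx l))
        intro v hv
        obtain ⟨i, rfl | rfl⟩ := E.cases v hv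
        exacts [pow_mem hx i, mul_mem hy (pow_mem hx i)]
      · push Not at hall
        refine absurd (fun u hu w hw => ?_) hRc
        obtain ⟨i, rfl | rfl⟩ := E.cases u (hRP hu)
        · obtain ⟨j, rfl | rfl⟩ := E.cases w (hRP hw)
          · exact Commute.pow_pow_self x i j
          · exact absurd hw (hall j)
        · exact absurd hu (hall i)
    · refine absurd (fun u hu w hw => ?_) hRc
      have heven : ∀ l : ℕ, x ^ l ∈ R → 2 ∣ l := by
        intro l hl
        by_contra hodd
        refine hx ?_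
        obtain ⟨j, rfl⟩ : ∃ j, l = 2 * j + 1 := ⟨l / 2, by omega⟩
        have := mul_mem (inv_mem (pow_mem hx2R j)) hl
        rwa [← pow_mul, pow_succ, inv_mul_cancel_left] at this
      have hcy : ∀ l : ℕ, x ^ l ∈ R → Commute y (x ^ l) := fun l hl => by
        obtain ⟨j, rfl⟩ := heven l hl; exact E.commute_even j
      obtain ⟨i, rfl | rfl⟩ := E.cases u (hRP hu)
      · obtain ⟨j, rfl | rfl⟩ := E.cases w (hRP hw)
        · exact Commute.pow_pow_self x i j
        · exact (hcy i hu).symm.mul_right (Commute.pow_pow_self x i j)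
      · obtain ⟨j, rfl | rfl⟩ := E.cases w (hRP hw)
        · exact ((hcy j hw).symm.mul_right (Commute.pow_pow_self x j i)).symm
        · -- the quotient of two such elements is an even power
          rcases le_total i j with hij | hij
          · have h1 : x ^ (j - i) ∈ R := by
              have := mul_mem (inv_mem hu) hw
              rw [mul_inv_rev, mul_assoc, inv_mul_cancel_left, show x ^ j = x ^ i * x ^ (j - i) by
                rw [← pow_add, Nat.add_sub_cancel' hij], inv_mul_cancel_left] at this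
              exact this
            have h2 : Commute (y * x ^ i) (x ^ (j - i)) :=
              (hcy _ h1).mul_left (Commute.pow_pow_self x i (j - i))
            rw [show y * x ^ j = y * x ^ i * x ^ (j - i) by
              rw [mul_assoc, ← pow_add, Nat.add_sub_cancel' hij]]
            exact (Commute.refl _).mul_right h2
          · have h1 : x ^ (i - j) ∈ R := by
              have := mul_mem (inv_mem hw) hu
              rw [mul_inv_rev, mul_assoc, inv_mul_cancel_left, show x ^ i = x ^ j * x ^ (i - j) by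
                rw [← pow_add, Nat.add_sub_cancel' hij], inv_mul_cancel_left] at this
              exact this
            have h2 : Commute (y * x ^ j) (x ^ (i - j)) :=
              (hcy _ h1).mul_left (Commute.pow_pow_self x j (i - j))
            rw [show y * x ^ i = y * x ^ j * x ^ (i - j) by
              rw [mul_assoc, ← pow_add, Nat.add_sub_cancel' hij]]
            exact ((Commute.refl _).mul_right h2).symm
  set x2R : R := ⟨x ^ 2, hx2R⟩
  set yR : R := ⟨y, hPR E.memy⟩
  set T : Subgroup R := Subgroup.closure {x2R, yR} with hT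
  have hcommxy : Commute x2R yR := Subtype.ext (by simpa using (E.commute_even 1).symm.eq)
  have hTc : ∀ u ∈ T, ∀ w ∈ T, u * w = w * u := by
    have h1 : T ≤ Subgroup.centralizer ({x2R, yR} : Set R) := by
      rw [hT, Subgroup.closure_le]
      intro u hu
      refine Subgroup.mem_centralizer_iff.mpr fun w hw => ?_
      simp only [Set.mem_insert_iff, Set.mem_singleton_iff] at hu hw
      rcases hu with rfl | rfl <;> rcases hw with rfl | rfl
      exacts [rfl, hcommxy.symm.eq, hcommxy.eq, rfl]
    have h2 : T ≤ Subgroup.centralizer (T : Set R) := by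
      conv_lhs => rw [hT]
      rw [Subgroup.closure_le]
      intro u hu
      refine Subgroup.mem_centralizer_iff.mpr fun w hw => ?_
      exact (Subgroup.mem_centralizer_iff.mp (h1 hw) u hu).symm
    exact fun u hu w hw => Subgroup.mem_centralizer_iff.mp (h2 hw) u hu
  have hTh : ∀ u : R, u ∈ T ↔ u ^ h = 1 := by
    intro u
    constructor
    · intro hu
      induction hu using Subgroup.closure_induction with
      | mem w hw =>
        simp only [Set.mem_insert_iff, Set.mem_singleton_iff] at hw
        rcases hw with rfl | rfl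
        · exact Subtype.ext (by
            show (x ^ 2) ^ h = 1
            rw [← pow_mul, E.pow_eq_one])
        · exact Subtype.ext (by
            show y ^ h = 1
            rw [show h = 2 * (2 * k) by omega, pow_mul, pow_two, E.sqy, one_pow])
      | one => exact one_pow h
      | mul a b ha hb h1 h2 => rw [(show Commute a b from hTc a ha b hb).mul_pow, h1, h2, one_mul]
      | inv a _ h1 => rw [inv_pow, h1, inv_one]
    · intro hu
      obtain ⟨i, hi⟩ := E.pow_h_cases (hRP u.2) (congrArg Subtype.val hu)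
      rcases hi with hi | hi
      · rw [show u = x2R ^ i from Subtype.ext (by simpa [x2R, ← pow_mul] using hi)]
        exact pow_mem (Subgroup.subset_closure (by simp)) i
      · rw [show u = yR * x2R ^ i from Subtype.ext (by simpa [x2R, yR, ← pow_mul] using hi)]
        exact mul_mem (Subgroup.subset_closure (by simp)) (pow_mem (Subgroup.subset_closure (by simp)) i)
  have hidx : T.index ≤ 2 := by
    set xR : R := ⟨x, hPR E.memx⟩
    let f : T × Bool → R := fun s => (s.1 : R) * if s.2 then xR else 1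
    have hf : Function.Surjective f := by
      intro u
      by_cases hu : u ∈ T
      · exact ⟨(⟨u, hu⟩, false), by simp [f]⟩
      · refine ⟨(⟨u * xR⁻¹, ?_⟩, true), by simp [f]⟩
        rw [hTh] at hu ⊢
        refine Subtype.ext ?_
        show ((u : G) * x⁻¹) ^ h = 1
        obtain ⟨i, hi | hi⟩ := E.cases u (hRP u.2)
        · have hodd : ¬ 2 ∣ i := fun hd => hu (Subtype.ext (by
            rw [SubmonoidClass.coe_pow, hi, E.pow_h_one.mpr hd]; rfl))
          obtain ⟨j, rfl⟩ : ∃ j, i = 2 * j + 1 := ⟨i / 2, by omega⟩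
          rw [hi, pow_succ, mul_inv_cancel_right, E.pow_h_one]
          exact dvd_mul_right 2 j
        · have hodd : ¬ 2 ∣ i := fun hd => hu (Subtype.ext (by
            rw [SubmonoidClass.coe_pow, hi, E.pow_h_out.mpr hd]; rfl))
          obtain ⟨j, rfl⟩ : ∃ j, i = 2 * j + 1 := ⟨i / 2, by omega⟩
          rw [hi, pow_succ, ← mul_assoc, mul_inv_cancel_right, E.pow_h_out]
          exact dvd_mul_right 2 j
    have h1 := Nat.card_le_card_of_surjective f hf
    rw [Nat.card_prod, Nat.card_eq_fintype_card (α := Bool), Fintype.card_bool,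
      ← Subgroup.card_mul_index T] at h1
    exact Nat.le_of_mul_le_mul_left h1 Nat.card_pos
  refine aut_eq_one_of_invariant hR α hα T hidx hTc (fun u hu => ?_)
    (s := ({1, x ^ h, y, y * x ^ h} : Finset G).subtype (· ∈ R))
    (fun t _ ht => Finset.mem_subtype.mpr (E.sq_one_mem (hRP t.2) (congrArg Subtype.val ht)))
    (le_trans (by rw [Finset.card_subtype]; exact Finset.card_filter_le _ _) Finset.card_le_four)
    ((hTh q).mpr ?_) hq1 hqq hfix
  · rw [hTh] at hu ⊢
    rw [← map_pow, hu, map_one]
  · rw [show h = 2 * (2 * k) by omega, pow_mul, pow_two, hqq, one_pow]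

end CfsgLib.Block.IndexFour
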