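import Cfsg.Agent.Lib.Block.IndexFour.Inverting

/-!
# All elements outside `A` of square one, none of them new

If every element outside `A` is fused to an element of square one of `A`, some element of `G` fixes
`a` or `c ^ h * a`, normalizes a pair below the maximal one and moves `c ^ h` out of `A`.
-/

open Finset MonoidAlgebra

set_option autoImplicit false
set_option linter.unusedSectionVars false

namespace CfsgLib.Block.IndexFour

open Cfsg CfsgLib CfsgLib.Block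
open scoped Pair

universe u

variable {M : Ideal AlgInt} [M.IsMaximal] {G : Type u} [Group G] [Fintype G] [DecidableEq G]
  [Fintype (IrrCharacter G)] {P A R : Subgroup G} {c a x : G} {h : ℕ} {e : Set (IrrCharacter (CQ P))}
  {B : Set (IrrCharacter G)} (D : IFPres P A c a x h)
include D

/-- An automorphism of odd order and not trivial moves `c ^ h` out of `A`, fixing `a` or `c ^ h * a`. -/
theorem exists_moving_auto (hM : IsPModular 2 M) (hmax : IsMaximalBrauerPair 2 M B P e)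
    (hout : ∀ v ∈ P, v ∉ A → v * v = 1) (hRP : R ≤ P)
    (hcen : ∀ v ∈ P, (∀ u ∈ R, Commute v u) → v ∈ R)
    (hfn : (blockFusion hM hmax.1.1).IsFullyNormalized R)
    (α : MulAut R) (hαX : α ∈ (blockFusion hM hmax.1.1).autGroup R) (hα : ¬ 2 ∣ orderOf α)
    (hα1 : α ≠ 1) :
    ∃ τ ∈ (blockFusion hM hmax.1.1).autGroup R, ∃ j w : R, (j : G) = c ^ h ∧
      ((w : G) = a ∨ (w : G) = c ^ h * a) ∧ τ w = w ∧ ((τ j : R) : G) ∉ A := by
  classical
  have hpf : Fact (Nat.Prime 2) := ⟨hM.1⟩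
  have hjq := D.jj_eq hout
  have hqR : c ^ h ∈ R := D.sq_one_mem hcen hRP D.q_mem D.q_sq
  set jR : R := ⟨c ^ h, hqR⟩ with hjR
  have hnfix : α jR ≠ jR := by
    intro hfix
    have hf' : ∀ w : R, (w : G) = IFPres.jj c x h → α w = w := fun w hw => by
      rw [show w = jR from Subtype.ext (hw.trans hjq)]; exact hfix
    by_cases hy : ∃ y ∈ R, y ∈ A ∧ y * y ≠ 1
    · obtain ⟨y, hyR, hyA, hy2⟩ := hy
      exact hα1 (D.aut_eq_one_of_sq_ne hRP hcen α hα hf' hyR hyA hy2)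
    push Not at hy
    obtain ⟨v, hv, hvA⟩ := D.exists_out hRP hcen hy
    exact hα1 (D.aut_eq_one_of_elem hM hmax hRP hcen hfn α hαX hα hf' hy hv hvA)
  have hZ : ∀ t ∈ R, t ∈ A → t * t = 1 := by
    intro y hyR hyA
    by_contra hy2
    refine hnfix ?_
    set yR : R := ⟨y, hyR⟩
    obtain ⟨k, hk⟩ := IsPGroup.iff_orderOf.mp (D.isPGroup.to_le hRP) yR
    have hk2 : 2 ≤ k := by
      by_contra hk2
      apply hy2
      have h1 : yR ^ 2 = 1 := orderOf_dvd_iff_pow_eq_one.mp (by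
        rw [hk]; exact (pow_dvd_pow 2 (show k ≤ 1 by omega)).trans (by norm_num))
      rw [← pow_two]
      exact congrArg Subtype.val h1
    obtain ⟨m, rfl⟩ : ∃ m, k = m + 2 := ⟨k - 2, by omega⟩
    set z := yR ^ 2 ^ m with hz
    have hzA : ((z : R) : G) ∈ A := by rw [hz, SubmonoidClass.coe_pow]; exact pow_mem hyA _
    have hz4 : z * z * (z * z) = 1 := by
      rw [hz, ← pow_add, ← pow_add, show 2 ^ m + 2 ^ m + (2 ^ m + 2 ^ m) = 2 ^ (m + 2) by ring, ← hk,
        pow_orderOf_eq_one]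
    have hz2 : z * z ≠ 1 := by
      rw [hz, ← pow_add, show 2 ^ m + 2 ^ m = 2 ^ (m + 1) by ring]
      exact pow_ne_one_of_lt_orderOf (by positivity) (by
        rw [hk]; exact Nat.pow_lt_pow_right one_lt_two (by omega))
    have hval : ∀ u : R, (u : G) ∈ A → u * u * (u * u) = 1 → u * u ≠ 1 → u * u = jR :=
      fun u hu h4 h2 => Subtype.ext ((D.sq_sq hu (congrArg Subtype.val h4)).resolve_left
        fun e' => h2 (Subtype.ext e'))
    have hne : α z * α z ≠ 1 := fun e' => hz2 (α.injective (by rw [map_mul, e', map_one]))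
    have hαzA : ((α z : R) : G) ∈ A := by
      by_contra hnA
      exact hne (Subtype.ext (hout _ (hRP (α z).2) hnA))
    rw [← hval z hzA hz4 hz2, map_mul]
    rw [hval _ hαzA (by rw [← map_mul, ← map_mul, hz4, map_one]) hne, hval z hzA hz4 hz2]
  obtain ⟨v, hv, hvA⟩ := D.exists_out hRP hcen hZ
  obtain ⟨σ, hσP, hσ2, hσ1, hσA, hσout, hσall⟩ :=
    D.exists_transvection hRP hmax.1.1.1 hcen hZ hv hvA
  simp only [hjq] at hσout
  have hσj : σ jR = jR := hσA jR D.q_mem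
  have hcases : ∀ r : R, σ r = r ∨ σ r = r * jR := fun r =>
    (em ((r : G) ∈ A)).imp (hσA r) fun hr => Subtype.ext (hσout r hr)
  have hX : σ ∈ (blockFusion hM hmax.1.1).autGroup R :=
    CfsgLib.Fusion.autInducedBy_le_autGroup hRP hσP
  set τ := α * σ * α⁻¹ with hτ
  have hτX : τ ∈ (blockFusion hM hmax.1.1).autGroup R := mul_mem (mul_mem hαX hX) (inv_mem hαX)
  have hτ2 : τ * τ = 1 := by
    rw [hτ]
    calc α * σ * α⁻¹ * (α * σ * α⁻¹) = α * (σ * σ) * α⁻¹ := by group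
      _ = 1 := by rw [hσ2, mul_one, mul_inv_cancel]
  have hτ1 : τ ≠ 1 := fun e' => hσ1 (conj_eq_one_iff.mp e')
  have hττ : ∀ r, τ (τ r) = r := fun r => by
    rw [← MulAut.mul_apply, hτ2]; rfl
  have hout' : ((τ jR : R) : G) ∉ A := by
    intro hin
    have hσu : σ (τ jR) = τ jR := hσA _ hin
    set ρ := τ * σ * τ⁻¹ with hρ
    have hτi : τ⁻¹ = τ := inv_eq_of_mul_eq_one_right hτ2
    have hρc : ∀ r : R, ρ r = r ∨ ρ r = r * τ jR := by
      intro r
      rw [hρ, hτi, MulAut.mul_apply, MulAut.mul_apply]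
      rcases hcases (τ r) with e' | e' <;> rw [e']
      · exact Or.inl (hττ r)
      · exact Or.inr (by rw [map_mul, hττ])
    have hρj : ρ jR = jR := by rw [hρ, hτi, MulAut.mul_apply, MulAut.mul_apply, hσu, hττ]
    have hρσ : σ = ρ := by
      refine eq_of_involutions_auto hM hmax hfn (s := ({1, σ} : Finset (MulAut R)))
        (fun β hβ => by rw [Finset.mem_insert, Finset.mem_singleton]; exact hσall β hβ)
        Finset.card_le_two hX (mul_mem (mul_mem hτX hX) (inv_mem hτX)) hσ2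
        (by
          rw [hρ]
          calc τ * σ * τ⁻¹ * (τ * σ * τ⁻¹) = τ * (σ * σ) * τ⁻¹ := by group
            _ = 1 := by rw [hσ2, mul_one, mul_inv_cancel])
        hσ1 (fun e' => hσ1 (conj_eq_one_iff.mp e')) ?_
      have hju : jR * τ jR = τ jR * jR := Subtype.ext (D.comm _ D.q_mem _ hin).eq
      refine MulEquiv.ext fun r => ?_
      simp only [MulAut.mul_apply]
      rcases hcases r with e1 | e1 <;> rcases hρc r with e2 | e2 <;>
        simp [e1, e2, hρj, hσu, mul_assoc, hju]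
    have hcomm : σ * τ = τ * σ := by
      nth_rw 1 [hρσ]
      rw [hρ, inv_mul_cancel_right]
    have hστ : σ = τ := eq_of_involutions_auto hM hmax hfn (s := ({1, σ} : Finset (MulAut R)))
      (fun β hβ => by rw [Finset.mem_insert, Finset.mem_singleton]; exact hσall β hβ)
      Finset.card_le_two hX hτX hσ2 hτ2 hσ1 hτ1 hcomm
    have hvv : (⟨v, hv⟩ : R) * jR = σ ⟨v, hv⟩ := Subtype.ext (hσout ⟨v, hv⟩ hvA).symm
    rw [hστ, hτ, MulAut.mul_apply, MulAut.mul_apply] at hvv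
    rcases hcases (α⁻¹ ⟨v, hv⟩) with e' | e' <;> rw [e'] at hvv
    · rw [show α (α⁻¹ ⟨v, hv⟩) = (⟨v, hv⟩ : R) from α.apply_symm_apply _] at hvv
      exact D.q_ne (congrArg Subtype.val (mul_eq_left.mp hvv))
    · rw [map_mul, show α (α⁻¹ ⟨v, hv⟩) = (⟨v, hv⟩ : R) from α.apply_symm_apply _] at hvv
      exact hnfix (mul_left_cancel hvv).symm
  have haR : a ∈ R := D.sq_one_mem hcen hRP D.mema D.sqa
  have hqaR : c ^ h * a ∈ R := mul_mem hqR haR
  have hfixA : ∀ r : R, ((α⁻¹ r : R) : G) ∈ A → τ r = r := fun r hr => by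
    rw [hτ, MulAut.mul_apply, MulAut.mul_apply, hσA _ hr]
    exact α.apply_symm_apply r
  by_cases ha : ((α⁻¹ ⟨a, haR⟩ : R) : G) ∈ A
  · exact ⟨τ, hτX, jR, ⟨a, haR⟩, rfl, Or.inl rfl, hfixA _ ha, hout'⟩
  by_cases hqa : ((α⁻¹ ⟨c ^ h * a, hqaR⟩ : R) : G) ∈ A
  · exact ⟨τ, hτX, jR, ⟨c ^ h * a, hqaR⟩, rfl, Or.inr rfl, hfixA _ hqa, hout'⟩
  exfalso
  refine hout' ?_
  rw [hfixA jR ?_]
  · exact D.q_mem
  · have h1 : jR = ⟨c ^ h * a, hqaR⟩ * ⟨a, haR⟩ := Subtype.ext (by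
      show c ^ h = c ^ h * a * a
      rw [mul_assoc, D.sqa, mul_one])
    rw [h1, map_mul, Subgroup.coe_mul,
      D.mul_mem_iff (hRP (α⁻¹ ⟨c ^ h * a, hqaR⟩).2) (hRP (α⁻¹ ⟨a, haR⟩).2)]
    exact iff_of_false hqa ha

/-- If all elements outside `A` are fused into `A`, some element moves `c ^ h` out of `A`. -/
theorem exists_moved (hM : IsPModular 2 M) (hmax : IsMaximalBrauerPair 2 M B P e)
    (hout : ∀ v ∈ P, v ∉ A → v * v = 1)
    (hfus : ∃ v y : P, (v : G) ∉ A ∧ (y : G) ∈ A ∧ v ∈ fusClass hM hmax.1.1 y) :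
    ∃ (R : Subgroup G) (f : Set (IrrCharacter (CQ R))) (g w : G),
      SubpairLE 2 M R f P e ∧ g ∈ Subgroup.normalizer (R : Set G) ∧ StabilizesBlock (CQ R) f g ∧
      (w = a ∨ w = c ^ h * a) ∧ w ∈ R ∧ Commute g w ∧ c ^ h ∈ R ∧ g * c ^ h * g⁻¹ ∉ A := by
  classical
  have hF := isBlockFusionSystemOn_blockFusion hM hmax
  by_contra hcon
  have hnil : IsNilpotentBlock 2 M B := by
    refine isNilpotentBlock_of_aut hM hmax fun R hRP hcen hfn α hαX hα => ?_
    by_contra hα1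
    obtain ⟨τ, hτ, j, w, hj, hw, hτw, hτj⟩ :=
      exists_moving_auto D hM hmax hout hRP hcen hfn α hαX hα hα1
    obtain ⟨f, hf, g, hgN, hgS, hval⟩ := exists_of_mem_autGroup hM hF hRP hτ
    refine hcon ⟨R, f, g, (w : G), hf, hgN, hgS, hw, w.2, ?_, hj ▸ j.2, ?_⟩
    · refine mul_inv_eq_iff_eq_mul.mp ?_
      rw [← hval w, hτw]
    · rw [← hj, ← hval j]
      exact hτj
  obtain ⟨v, y, hvA, hyA, hvy⟩ := hfus
  obtain ⟨φ, hφ, hφy⟩ := (mem_fusClass_iff_hom hM hmax).mp hvy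
  rw [(isNilpotentBlock_iff_inner hM hF).mp hnil] at hφ
  obtain ⟨-, u, hu, hφu⟩ := hφ
  refine hvA ?_
  rw [← hφy, hφu]
  exact D.conj_mem hu hyA

end CfsgLib.Block.IndexFour
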