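import Cfsg.Agent.Lib.Block.IndexFour.Classify
import Cfsg.Agent.Lib.Block.IndexFour.LowRank
import Cfsg.Agent.Lib.Block.IndexFour.Family
import Cfsg.Agent.Lib.Block.CyclicDefect.AbelianRankTwo

/-!
# The image of the defect group modulo a central element
-/

open Finset MonoidAlgebra

set_option autoImplicit false
set_option linter.unusedSectionVars false

namespace CfsgLib.Block.IndexFour

open Cfsg CfsgLib CfsgLib.Block

universe u

variable {G : Type u} [Group G] [Finite G] {D C : Subgroup G} (hDC : D ≤ C) {Z : Subgroup C}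
  [Z.Normal] {u : G}

/-- The image of a subgroup. -/
def imageMod (H : Subgroup G) : Subgroup (C ⧸ Z) := (H.subgroupOf C).map (QuotientGroup.mk' Z)

theorem mem_imageMod {H : Subgroup G} {q : C ⧸ Z} :
    q ∈ imageMod H ↔ ∃ v : C, (v : G) ∈ H ∧ QuotientGroup.mk' Z v = q := Iff.rfl

theorem card_imageMod {H : Subgroup G} (hHC : H ≤ C) (hu : u ∈ H)
    (hZ : ∀ x : C, x ∈ Z ↔ (x : G) ∈ Subgroup.zpowers u) :
    Nat.card (imageMod (C := C) (Z := Z) H) * orderOf u = Nat.card H := by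
  have hle : Z ≤ H.subgroupOf C := fun v hv =>
    Subgroup.zpowers_le.mpr hu ((hZ v).mp hv)
  have h1 := CyclicDefect.card_image_mul (N := Z) hle
  have hZc : Nat.card Z = orderOf u := by
    rw [← Nat.card_zpowers]
    refine Nat.card_congr ⟨fun v => ⟨((v : C) : G), (hZ v).mp v.2⟩,
      fun v => ⟨⟨(v : G), hHC (Subgroup.zpowers_le.mpr hu v.2)⟩, (hZ _).mpr v.2⟩, fun v => rfl, fun v => rfl⟩
  rwa [hZc, Nat.card_congr (Subgroup.subgroupOfEquivOfLe hHC).toEquiv] at h1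

theorem mk_eq_one (hZ : ∀ x : C, x ∈ Z ↔ (x : G) ∈ Subgroup.zpowers u) (v : C) :
    QuotientGroup.mk' Z v = 1 ↔ (v : G) ∈ Subgroup.zpowers u := by
  rw [QuotientGroup.mk'_apply, QuotientGroup.eq_one_iff, hZ]

theorem mk_eq_iff (hZ : ∀ x : C, x ∈ Z ↔ (x : G) ∈ Subgroup.zpowers u) (v w : C) :
    QuotientGroup.mk' Z v = QuotientGroup.mk' Z w ↔ (v : G)⁻¹ * w ∈ Subgroup.zpowers u := by
  rw [QuotientGroup.mk'_apply, QuotientGroup.mk'_apply, QuotientGroup.eq, hZ]
  rfl

variable {M : Ideal AlgInt} [M.IsMaximal] [Fintype (C ⧸ Z)] [DecidableEq (C ⧸ Z)]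
  [Fintype (IrrCharacter (C ⧸ Z))] {Bq : Set (IrrCharacter (C ⧸ Z))}

include hDC in
/-- A small quotient gives rank at most three. -/
theorem rank_le_three_image (hM : IsPModular 2 M) (hB : IsPBlock M Bq)
    (hdef : IsDefectGroup 2 M Bq (imageMod D)) (hu : u ∈ D)
    (hZ : ∀ x : C, x ∈ Z ↔ (x : G) ∈ Subgroup.zpowers u) (hS : SmallQuot D u) :
    blockRank 2 Bq ≤ 3 := by
  classical
  rcases hS with ⟨x, hx, hidx⟩ | ⟨hcomm, s, hs4, hs⟩
  · set W := Subgroup.zpowers x ⊔ Subgroup.zpowers u with hW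
    have hWD : W ≤ D := sup_le (Subgroup.zpowers_le.mpr hx) (Subgroup.zpowers_le.mpr hu)
    set x' : C := ⟨x, hDC hx⟩ with hx'
    have hle : imageMod (C := C) (Z := Z) W ≤ Subgroup.zpowers (QuotientGroup.mk' Z x') := by
      rintro _ ⟨v, hv, rfl⟩
      have hxm : W.subgroupOf C ≤ Subgroup.zpowers x' ⊔ Z := by
        rw [← Subgroup.map_le_map_iff_of_injective C.subtype_injective, Subgroup.map_sup,
          Subgroup.subgroupOf_map_subtype, inf_eq_left.mpr (hWD.trans hDC), MonoidHom.map_zpowers]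
        refine sup_le_sup le_rfl ?_
        rw [Subgroup.zpowers_le]
        exact ⟨⟨u, hDC hu⟩, (hZ _).mpr (Subgroup.mem_zpowers u), rfl⟩
      have h1 := Subgroup.mem_map_of_mem (QuotientGroup.mk' Z) (hxm hv)
      rwa [Subgroup.map_sup, QuotientGroup.map_mk'_self, sup_bot_eq, MonoidHom.map_zpowers] at h1
    refine rank_le_three_cyclic hM hB hdef (x := QuotientGroup.mk' Z x') ⟨x', hx, rfl⟩ ?_
    refine Nat.le_of_mul_le_mul_right ?_ (orderOf_pos u)
    rw [card_imageMod hDC hu hZ, mul_assoc]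
    refine hidx.trans (Nat.mul_le_mul_left 2 ?_)
    rw [← card_imageMod (H := W) (hWD.trans hDC) (Subgroup.mem_sup_right (Subgroup.mem_zpowers u)) hZ,
      ← Nat.card_zpowers (QuotientGroup.mk' Z x')]
    exact Nat.mul_le_mul_right _ (Nat.card_le_card_of_injective (Subgroup.inclusion hle)
      (Subgroup.inclusion_injective hle))
  · refine rank_le_three_comm hM hB hdef (fun a ha b hb => ?_)
      (s := s.image fun w => if h : w ∈ C then QuotientGroup.mk' Z ⟨w, h⟩ else 1) (fun t ht h2 => ?_)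
      (Finset.card_image_le.trans hs4)
    · obtain ⟨v, hv, rfl⟩ := mem_imageMod.mp ha
      obtain ⟨w, hw, rfl⟩ := mem_imageMod.mp hb
      refine mul_inv_eq_iff_eq_mul.mp (mul_inv_eq_one.mp ?_)
      rw [← map_inv, ← map_inv, ← map_mul, ← map_mul, ← map_mul, mk_eq_one hZ]
      exact hcomm v hv w hw
    · obtain ⟨v, hv, rfl⟩ := mem_imageMod.mp ht
      rw [← map_mul, mk_eq_one hZ] at h2
      obtain ⟨w, hws, hw⟩ := hs v hv h2
      have hwC : w ∈ C := by
        have := mul_mem (hDC hv) (inv_mem (hDC (Subgroup.zpowers_le.mpr hu hw)))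
        rwa [mul_inv_rev, inv_inv, mul_inv_cancel_left] at this
      refine Finset.mem_image.mpr ⟨w, hws, ?_⟩
      rw [dif_pos hwC]
      exact (mk_eq_iff hZ ⟨w, hwC⟩ v).mpr hw

include hDC in
/-- The member of the family. -/
theorem exists_ifPres_image {c a x : G} {N : Subgroup G} {m k : ℕ} (S : IndexFour D c m)
    (F : FamQuot D N c a x m k)
    (hZ : ∀ y : C, y ∈ Z ↔ (y : G) ∈ Subgroup.zpowers (c ^ (2 * 2 ^ k))) :
    ∃ (c' a' x' : C ⧸ Z), IFPres (imageMod D) (imageMod N) c' a' x' (2 ^ k) := by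
  classical
  set u := c ^ (2 * 2 ^ k) with hu
  have hcC : c ∈ C := hDC S.mem
  set c' : C := ⟨c, hcC⟩ with hc'
  set a' : C := ⟨a, hDC (F.le F.mema)⟩ with ha'
  set x' : C := ⟨x, hDC F.memx⟩ with hx'
  have huN : u ∈ N := pow_mem F.memc _
  have hUN : Subgroup.zpowers u ≤ N := Subgroup.zpowers_le.mpr huN
  have hUC : Subgroup.zpowers u ≤ Subgroup.zpowers c :=
    Subgroup.zpowers_le.mpr (Subgroup.npow_mem_zpowers c _)
  have hdvd : 2 * 2 ^ k ∣ 2 * 2 ^ m := Nat.mul_dvd_mul_left 2 (pow_dvd_pow 2 (by have := F.lt; omega))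
  have hou : orderOf u * (2 * 2 ^ k) = 2 * 2 ^ m := by
    rw [hu, orderOf_pow, S.order, Nat.gcd_eq_right hdvd, Nat.div_mul_cancel hdvd]
  have hupos := orderOf_pos u
  have hnotA : ∀ v : C, (v : G) ∈ D → QuotientGroup.mk' Z v ∉ imageMod (Z := Z) N → (v : G) ∉ N :=
    fun v _ h hv => h ⟨v, hv, rfl⟩
  have hmemA : ∀ v : C, QuotientGroup.mk' Z v ∈ imageMod (Z := Z) N → (v : G) ∈ N := by
    intro v hv
    obtain ⟨w, hw, e⟩ := mem_imageMod.mp hv
    have := mul_mem hw (hUN ((mk_eq_iff hZ w v).mp e))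
    rwa [mul_inv_cancel_left] at this
  refine ⟨QuotientGroup.mk' Z c', QuotientGroup.mk' Z a', QuotientGroup.mk' Z x', ?_⟩
  refine
    { pow2 := ⟨k, F.pos, rfl⟩
      le := Subgroup.map_mono fun v hv => F.le hv
      memc := ⟨c', F.memc, rfl⟩
      mema := ⟨a', F.mema, rfl⟩
      memx := ⟨x', F.memx, rfl⟩
      notA := fun h => F.notM (hmemA x' h)
      card := ?_
      cardA := ?_
      comm := ?_
      orderc := ?_
      sqa := ?_
      nota := ?_
      centa := ?_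
      fix := ?_
      sq_out := ?_ }
  · refine Nat.eq_of_mul_eq_mul_right hupos ?_
    rw [card_imageMod hDC (pow_mem S.mem _) hZ, S.card, ← hou]
    ring
  · refine Nat.eq_of_mul_eq_mul_right hupos ?_
    rw [card_imageMod (F.le.trans hDC) huN hZ, F.cardM, ← hou]
    ring
  · rintro _ ⟨v, hv, rfl⟩ _ ⟨w, hw, rfl⟩
    refine mul_inv_eq_iff_eq_mul.mp (mul_inv_eq_one.mp ?_)
    rw [← map_inv, ← map_inv, ← map_mul, ← map_mul, ← map_mul, mk_eq_one hZ]
    exact F.comm v hv w hw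
  · refine Nat.dvd_antisymm (orderOf_dvd_of_pow_eq_one ?_) ?_
    · rw [← map_pow, mk_eq_one hZ]
      exact Subgroup.mem_zpowers u
    · have h1 : QuotientGroup.mk' Z (c' ^ orderOf (QuotientGroup.mk' Z c')) = 1 := by
        rw [map_pow, pow_orderOf_eq_one]
      rw [mk_eq_one hZ] at h1
      obtain ⟨l, hl⟩ := mem_powers_iff_mem_zpowers.mpr h1
      have hl' : c ^ ((2 * 2 ^ k) * l) = c ^ orderOf (QuotientGroup.mk' Z c') := by
        rw [pow_mul]; exact hl
      rw [S.pow_eq] at hl'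
      have h2 : (orderOf (QuotientGroup.mk' Z c')) % (2 * 2 ^ k) = (2 * 2 ^ k * l) % (2 * 2 ^ k) := by
        rw [← Nat.mod_mod_of_dvd _ hdvd, ← hl', Nat.mod_mod_of_dvd _ hdvd]
      rw [Nat.mul_mod_right] at h2
      exact Nat.dvd_of_mod_eq_zero h2
  · rw [← map_mul, mk_eq_one hZ]
    exact F.sqa
  · intro h
    obtain ⟨l, hl⟩ := mem_powers_iff_mem_zpowers.mpr h
    have hl' : QuotientGroup.mk' Z (c' ^ l) = QuotientGroup.mk' Z a' := by rw [map_pow]; exact hl
    rw [mk_eq_iff hZ] at hl'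
    refine F.nota ?_
    have := mul_mem (Subgroup.npow_mem_zpowers c l) (hUC hl')
    rwa [SubmonoidClass.coe_pow, mul_inv_cancel_left] at this
  · refine mul_inv_eq_iff_eq_mul.mp (mul_inv_eq_one.mp ?_)
    rw [← map_inv, ← map_inv, ← map_mul, ← map_mul, ← map_mul, mk_eq_one hZ]
    exact F.centa
  · rintro _ ⟨v, hv, rfl⟩ hc
    rw [← map_mul, mk_eq_one hZ]
    refine F.fix v hv ?_
    have h1 : QuotientGroup.mk' Z (x' * v * x'⁻¹ * v⁻¹) = 1 := by
      rw [map_mul, map_mul, map_mul, map_inv, map_inv, hc.eq, mul_inv_cancel_right, mul_inv_cancel]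
    exact (mk_eq_one hZ _).mp h1
  · rintro _ ⟨v, hv, rfl⟩ hvA e
    rw [← map_mul, ← map_pow, eq_comm, mk_eq_iff hZ] at e
    exact F.sq_out v hv (hnotA v hv hvA) e

end CfsgLib.Block.IndexFour
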