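import Cfsg.Agent.Lib.Block.IndexFour.Classes

/-!
# Pairwise unfused elements in the family
-/

open Finset MonoidAlgebra

set_option autoImplicit false
set_option linter.unusedSectionVars false

namespace CfsgLib.Block.IndexFour

open Cfsg CfsgLib CfsgLib.Block
open scoped Pair

universe u

variable {M : Ideal AlgInt} [M.IsMaximal] {G : Type u} [Group G] [Fintype G] [DecidableEq G]
  [Fintype (IrrCharacter G)] {P A : Subgroup G} {c a x : G} {h : ℕ} {e : Set (IrrCharacter (CQ P))}
  {B : Set (IrrCharacter G)} (D : IFPres P A c a x h)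
include D

open scoped Classical in
/-- The central involutions and one of two conjugates among the other elements of `A`. -/
theorem exists_reps (hM : IsPModular 2 M) (hmax : IsMaximalBrauerPair 2 M B P e) :
    ∃ T : Finset P, 2 * h + 1 ≤ T.card ∧ (1 : P) ∉ T ∧ (∀ y ∈ T, (y : G) ∈ A) ∧
      (∀ y : P, (y : G) ∈ A → (y : G) * (y : G) = 1 → y ≠ 1 → y ∈ T) ∧
      ∀ y ∈ T, ∀ z ∈ T, z ∈ fusClass hM hmax.1.1 y → z = y := by
  letI := Fintype.ofFinite P
  let xP : P := ⟨x, D.memx⟩
  set Z := Finset.univ.filter fun y : P => (y : G) ∈ A ∧ (y : G) * (y : G) = 1 ∧ y ≠ 1 with hZ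
  set W := Finset.univ.filter fun y : P => (y : G) ∈ A ∧ (y : G) * (y : G) ≠ 1 with hW
  let num := Fintype.equivFin P
  set W' := W.filter fun y : P => num y ≤ num (xP * y * xP⁻¹) with hW'
  have hconjW : ∀ y ∈ W, xP * y * xP⁻¹ ∈ W := fun y hy => by
    simp only [hW, Finset.mem_filter, Finset.mem_univ, true_and] at hy ⊢
    refine ⟨D.conj_mem D.memx hy.1, fun e' => hy.2 ?_⟩
    have : x * ((y : G) * y) * x⁻¹ = 1 := by rw [← conj_mul]; exact e'
    exact conj_eq_one_iff.mp this
  have hinvol : ∀ y ∈ W, xP * (xP * y * xP⁻¹) * xP⁻¹ = y := fun y hy => Subtype.ext (by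
    have hy' := (Finset.mem_filter.mp hy).2.1
    show x * (x * (y : G) * x⁻¹) * x⁻¹ = y
    rw [show x * (x * (y : G) * x⁻¹) * x⁻¹ = x * x * y * (x * x)⁻¹ by group,
      (D.comm _ (D.out_sq_mem D.memx) _ hy').eq, mul_inv_cancel_right])
  have hfour : (Finset.univ.filter fun y : P => (y : G) ∈ A ∧ (y : G) * (y : G) = 1).card ≤ 4 := by
    obtain ⟨s, hs, hs4⟩ := D.exists_sq_one_finset P
    exact le_trans (Finset.card_le_card fun y hy =>
      hs y (Finset.mem_filter.mp hy).2.1 (Subtype.ext (Finset.mem_filter.mp hy).2.2)) hs4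
  have hWc : 4 * h ≤ W.card + 4 := by
    have hA : (Finset.univ.filter fun y : P => (y : G) ∈ A).card = 4 * h := by
      rw [← Fintype.card_subtype, ← Nat.card_eq_fintype_card, ← D.cardA]
      exact Nat.card_congr (Subgroup.subgroupOfEquivOfLe D.le).toEquiv
    have hsub : (Finset.univ.filter fun y : P => (y : G) ∈ A) ⊆
        W ∪ Finset.univ.filter (fun y : P => (y : G) ∈ A ∧ (y : G) * (y : G) = 1) := by
      intro y hy
      simp only [hW, Finset.mem_filter, Finset.mem_univ, true_and, Finset.mem_union] at hy ⊢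
      by_cases h2 : (y : G) * (y : G) = 1 <;> simp [hy, h2]
    have := (Finset.card_le_card hsub).trans (Finset.card_union_le _ _)
    omega
  have hZc : Z.card = 3 := by
    have h1 : ({⟨c ^ h, D.le D.q_mem⟩, ⟨a, D.le D.mema⟩, ⟨c ^ h * a, D.le (mul_mem D.q_mem D.mema)⟩} :
        Finset P) = Z := by
      ext y
      simp only [hZ, Finset.mem_insert, Finset.mem_singleton, Finset.mem_filter, Finset.mem_univ,
        true_and, Subtype.ext_iff, Subgroup.coe_one, ne_eq]
      constructor
      · rintro (e' | e' | e') <;> rw [e']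
        · exact ⟨D.q_mem, D.q_sq, D.q_ne⟩
        · exact ⟨D.mema, D.sqa, D.a_ne⟩
        · exact ⟨mul_mem D.q_mem D.mema, by
            rw [mul_assoc, ← mul_assoc a (c ^ h) a, (D.comm a D.mema _ D.q_mem).eq,
              mul_assoc (c ^ h) a a, D.sqa, mul_one, D.q_sq], D.qa_ne⟩
      · rintro ⟨h1, h2, h3⟩
        exact (D.sq_one_cases h1 h2).resolve_left h3
    rw [← h1, Finset.card_insert_of_notMem, Finset.card_pair]
    · exact fun e' => D.q_ne (right_eq_mul.mp (congrArg Subtype.val e' :))
    · simp only [Finset.mem_insert, Finset.mem_singleton, Subtype.ext_iff, not_or]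
      exact ⟨Ne.symm D.a_ne_q, fun e' => D.a_ne (left_eq_mul.mp e')⟩
  have hW'c : W.card ≤ 2 * W'.card := by
    have hsub : W ⊆ W' ∪ W'.image (fun y => xP * y * xP⁻¹) := by
      intro y hy
      rcases le_total (num y) (num (xP * y * xP⁻¹)) with hle | hle
      · exact Finset.mem_union_left _ (Finset.mem_filter.mpr ⟨hy, hle⟩)
      · exact Finset.mem_union_right _ (Finset.mem_image.mpr
          ⟨_, Finset.mem_filter.mpr ⟨hconjW y hy, by rw [hinvol y hy]; exact hle⟩, hinvol y hy⟩)
    have := (Finset.card_le_card hsub).trans (Finset.card_union_le _ _)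
    have := Finset.card_image_le (f := fun y : P => xP * y * xP⁻¹) (s := W')
    omega
  have hdis : Disjoint Z W' := Finset.disjoint_left.mpr fun y hy hy' =>
    (Finset.mem_filter.mp (Finset.mem_filter.mp hy').1).2.2 (Finset.mem_filter.mp hy).2.2.1
  refine ⟨Z ∪ W', ?_, ?_, ?_, fun y h1 h2 h3 => Finset.mem_union_left _
    (Finset.mem_filter.mpr ⟨Finset.mem_univ _, h1, h2, h3⟩), ?_⟩
  · rw [Finset.card_union_of_disjoint hdis, hZc]
    omega
  · simp only [Finset.mem_union, hZ, hW', hW, Finset.mem_filter, not_or]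
    exact ⟨fun h1 => h1.2.2.2 rfl, fun h1 => h1.1.2.2 (one_mul 1)⟩
  · intro y hy
    rcases Finset.mem_union.mp hy with hy' | hy'
    exacts [(Finset.mem_filter.mp hy').2.1, (Finset.mem_filter.mp (Finset.mem_filter.mp hy').1).2.1]
  · intro y hy z hz hf
    rcases Finset.mem_union.mp hy with hy' | hy'
    · obtain ⟨-, hyA, hy2, -⟩ := Finset.mem_filter.mp hy'
      rcases Finset.mem_union.mp hz with hz' | hz'
      · obtain ⟨-, hzA, hz2, -⟩ := Finset.mem_filter.mp hz'
        exact eq_of_fused_central D hM hmax hyA hy2 hzA hz2 hf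
      · refine absurd hy2 (sq_ne_of_fused D hM hmax ?_
          (Finset.mem_filter.mp (Finset.mem_filter.mp hz').1).2.2)
        rw [fusClass_eq_of_mem hM hmax.1.1 hf]
        exact self_mem_fusClass hM hmax.1.1 y
    · obtain ⟨hyW, hyle⟩ := Finset.mem_filter.mp hy'
      obtain ⟨-, hyA, hy2⟩ := Finset.mem_filter.mp hyW
      rcases Finset.mem_union.mp hz with hz' | hz'
      · exact absurd (Finset.mem_filter.mp hz').2.2.1 (sq_ne_of_fused D hM hmax hf hy2)
      · obtain ⟨hzW, hzle⟩ := Finset.mem_filter.mp hz'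
        obtain ⟨-, hzA, -⟩ := Finset.mem_filter.mp hzW
        rcases eq_or_conj_of_fused D hM hmax hyA hy2 hzA hf with e' | e'
        · exact Subtype.ext e'
        · have e'' : z = xP * y * xP⁻¹ := Subtype.ext e'
          rw [e'', hinvol y hyW] at hzle
          rw [e'']
          exact (num.injective (le_antisymm hyle hzle)).symm

open scoped Classical in
/-- The members against the rank. -/
theorem rank_add_le (hM : IsPModular 2 M) (hmax : IsMaximalBrauerPair 2 M B P e) {T : Finset P}
    (h1 : (1 : P) ∉ T) (hT : ∀ y ∈ T, ∀ z ∈ T, z ∈ fusClass hM hmax.1.1 y → z = y) :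
    blockRank 2 B + T.card ≤ Nat.card B := by
  refine le_trans (Nat.add_le_add_left ?_ _) (rank_add_sum_le hM hmax T h1 hT)
  rw [Finset.card_eq_sum_ones]
  refine Finset.sum_le_sum fun y _ => ?_
  haveI := Fintype.ofFinite (IrrCharacter (CQ (lowPair hM hmax.1.1 y).1))
  exact FreeInertial.one_le_blockRank (by norm_num) (isPBlock_nonempty (lowPair_pairOf hM hmax y).1.2)

open scoped Classical in
/-- An element outside `A` of order four is fused to none of `A` except by squares of square one. -/
theorem not_fused_out (hM : IsPModular 2 M) (hmax : IsMaximalBrauerPair 2 M B P e) {v y : P}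
    (hvA : (v : G) ∉ A) (hv2 : (v : G) * (v : G) ≠ 1) (hy : (y : G) ∈ A) :
    v ∉ fusClass hM hmax.1.1 y := by
  intro hf
  have hy2 : (y : G) * (y : G) ≠ 1 := sq_ne_of_fused D hM hmax (by
    rw [fusClass_eq_of_mem hM hmax.1.1 hf]
    exact self_mem_fusClass hM hmax.1.1 y) hv2
  have hsq := fused_pow hM hmax hf 2
  obtain ⟨hv4, hvs⟩ := D.out_sq v.2 hvA
  rcases D.sq_ne_cases hy hy2 with h4 | hq
  · refine sq_ne_of_fused D hM hmax hsq ?_ ?_
    · simpa [pow_two] using h4
    · simpa [pow_two] using hv4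
  · have h := eq_of_fused_central D hM hmax (y := y ^ 2) (z := v ^ 2)
      (by rw [SubmonoidClass.coe_pow, pow_two, hq]; exact D.q_mem)
      (by rw [SubmonoidClass.coe_pow, pow_two, hq]; exact D.q_sq)
      (by rw [SubmonoidClass.coe_pow, pow_two]; exact D.out_sq_mem v.2)
      (by rw [SubmonoidClass.coe_pow, pow_two]; exact hv4) hsq
    have h' := congrArg Subtype.val h
    simp only [pow_two, Subgroup.coe_mul, hq] at h'
    exact D.sq_out v v.2 hvA h'

end CfsgLib.Block.IndexFour
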