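import Cfsg.Agent.Lib.Block.IndexFour.Cases
import Cfsg.Agent.Lib.Block.IndexFour.Modular

/-!
# The elements of largest order are self-centralizing: definitions and tools
-/

open Finset

set_option autoImplicit false
set_option linter.unusedSectionVars false

namespace CfsgLib.Block.IndexFour

universe u

variable {G : Type u} [Group G]

/-- What makes `D / ⟨c ^ (2 * 2 ^ k)⟩` a member of the family. -/
structure FamQuot (D M : Subgroup G) (c a x : G) (m k : ℕ) : Prop where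
  pos : 0 < k
  lt : k < m + 1
  central : ∀ v ∈ D, Commute v (c ^ (2 * 2 ^ k))
  le : M ≤ D
  memc : c ∈ M
  mema : a ∈ M
  cardM : Nat.card M = 2 * (2 * 2 ^ m)
  nota : a ∉ Subgroup.zpowers c
  sqa : a * a ∈ Subgroup.zpowers (c ^ (2 * 2 ^ k))
  memx : x ∈ D
  notM : x ∉ M
  comm : ∀ v ∈ M, ∀ w ∈ M, v * w * v⁻¹ * w⁻¹ ∈ Subgroup.zpowers (c ^ (2 * 2 ^ k))
  centa : x * a * x⁻¹ * a⁻¹ ∈ Subgroup.zpowers (c ^ (2 * 2 ^ k))
  fix : ∀ w ∈ M, x * w * x⁻¹ * w⁻¹ ∈ Subgroup.zpowers (c ^ (2 * 2 ^ k)) →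
    w * w ∈ Subgroup.zpowers (c ^ (2 * 2 ^ k))
  sq_out : ∀ v ∈ D, v ∉ M → (c ^ (2 ^ k))⁻¹ * (v * v) ∉ Subgroup.zpowers (c ^ (2 * 2 ^ k))

/-- Powers of a conjugating element. -/
theorem exists_pow_conj {x c : G} {g w : ℕ} (h : x * c * x⁻¹ = c ^ (g * w + 1)) :
    ∀ p q : ℕ, ∃ e : ℕ, x ^ p * c ^ q * (x ^ p)⁻¹ = c ^ (q + g * e) := by
  intro p
  induction p with
  | zero => intro q; exact ⟨0, by simp⟩
  | succ p ih =>
    intro q
    obtain ⟨e, he⟩ := ih q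
    refine ⟨w * (q + g * e) + e, ?_⟩
    rw [show x ^ (p + 1) * c ^ q * (x ^ (p + 1))⁻¹ = x * (x ^ p * c ^ q * (x ^ p)⁻¹) * x⁻¹ by
      rw [pow_succ']; group, he, ← conj_pow, h, ← pow_mul]
    congr 1
    ring

/-- Commutators. -/
theorem comm_mem {x c : G} {g w : ℕ} (h : x * c * x⁻¹ = c ^ (g * w + 1)) (p q r s : ℕ) :
    x ^ p * c ^ q * (x ^ r * c ^ s) * (x ^ p * c ^ q)⁻¹ * (x ^ r * c ^ s)⁻¹ ∈
      Subgroup.zpowers (c ^ g) := by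
  obtain ⟨e1, h1⟩ := exists_pow_conj h p q
  obtain ⟨e2, h2⟩ := exists_pow_conj h (p + r) s
  obtain ⟨e3, h3⟩ := exists_pow_conj h (p + r) q
  obtain ⟨e4, h4⟩ := exists_pow_conj h r s
  rw [show x ^ p * c ^ q * (x ^ r * c ^ s) * (x ^ p * c ^ q)⁻¹ * (x ^ r * c ^ s)⁻¹ =
    x ^ p * c ^ q * (x ^ p)⁻¹ * ((x ^ (p + r) * c ^ s * (x ^ (p + r))⁻¹) *
      (x ^ (p + r) * c ^ q * (x ^ (p + r))⁻¹)⁻¹) * (x ^ r * c ^ s * (x ^ r)⁻¹)⁻¹ by
    rw [pow_add]; group, h1, h2, h3, h4]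
  refine Subgroup.mem_zpowers_iff.mpr ⟨(e1 : ℤ) + e2 - e3 - e4, ?_⟩
  simp only [← zpow_natCast, ← zpow_neg, ← zpow_add, ← zpow_mul]
  congr 1
  push_cast
  ring

variable [Finite G] {D : Subgroup G} {c : G} {m : ℕ} (S : IndexFour D c m)
include S

namespace IndexFour

/-- Conjugation keeps the exponent odd. -/
theorem exp_odd {v : G} {i : ℕ} (hi : v * c * v⁻¹ = c ^ i) : i % 2 = 1 := by
  by_contra hev
  obtain ⟨j, rfl⟩ : ∃ j, i = 2 * j := ⟨i / 2, by omega⟩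
  have h1 : (v * c * v⁻¹) ^ (2 ^ m) = 1 := by
    rw [hi, ← pow_mul, S.pow_eq_one]
    exact ⟨j, by ring⟩
  rw [conj_pow, conj_eq_one_iff] at h1
  exact S.q_ne h1

theorem exp_mod_eq {v w : G} {i j : ℕ} (hi : v * c * v⁻¹ = c ^ i) (hj : w * c * w⁻¹ = c ^ j)
    (he : i % (2 * 2 ^ m) = j % (2 * 2 ^ m)) : Commute (v⁻¹ * w) c := by
  rw [← S.pow_eq] at he
  rw [← hi, ← hj] at he
  refine mul_inv_eq_iff_eq_mul.mp ?_
  rw [show v⁻¹ * w * c * (v⁻¹ * w)⁻¹ = v⁻¹ * (w * c * w⁻¹) * v by group, ← he]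
  group

/-- A multiplier that is three modulo four fixes only square roots of one. -/
theorem dvd_of_three {i t : ℕ} (hi : i % 4 = 3) (h : (i * t) % (2 * 2 ^ m) = t % (2 * 2 ^ m)) :
    2 ^ m ∣ t := by
  obtain ⟨q, hq⟩ := Nat.modEq_iff_dvd.mp h.symm
  obtain ⟨w, rfl⟩ : ∃ w, i = 4 * w + 3 := ⟨i / 4, by omega⟩
  push_cast at hq
  have h1 : ((2 : ℤ) ^ m) ∣ (t : ℤ) * (2 * (w : ℤ) + 1) := ⟨q, by linarith⟩
  have h2 : IsCoprime ((2 : ℤ) ^ m) (2 * w + 1) :=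
    IsCoprime.pow_left ⟨-(w : ℤ), 1, by ring⟩
  exact_mod_cast h2.dvd_of_dvd_mul_right h1

/-- An involution in the coset. -/
theorem exists_invol (hm : 2 ≤ m) {y : G} (hrel : y * c * y⁻¹ = c ^ (2 ^ m + 1))
    (hyy : y * y ∈ Subgroup.zpowers c) : ∃ l : ℕ, y * c ^ l * (y * c ^ l) = 1 := by
  set h := 2 ^ m with hh
  obtain ⟨k, hk⟩ : 4 ∣ h := by rw [hh]; exact pow_dvd_pow 2 hm
  obtain ⟨s, hs⟩ := mem_powers_iff_mem_zpowers.mpr hyy
  have hs' : c ^ s = y * y := hs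
  have h1 : ((h + 1) * s) % (2 * h) = s % (2 * h) := by
    rw [← S.pow_eq, pow_mul, ← hrel, conj_pow, hs']
    simp [mul_assoc]
  obtain ⟨t, rfl⟩ : 2 ∣ s := by
    have h2 := Nat.modEq_iff_dvd.mp h1.symm
    push_cast at h2
    have h3 : (2 * h : ℤ) ∣ (h : ℤ) * s := by rwa [show ((h : ℤ) + 1) * s - s = h * s by ring] at h2
    rw [mul_comm (2 : ℤ), Int.mul_dvd_mul_iff_left (by positivity)] at h3
    exact_mod_cast h3
  refine ⟨(2 * k + 1) * t * (h - 1), ?_⟩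
  set l := (2 * k + 1) * t * (h - 1) with hl
  have e1 : y * c ^ l * (y * c ^ l) = c ^ ((h + 1) * l) * (y * y) * c ^ l := by
    rw [show c ^ ((h + 1) * l) = y * c ^ l * y⁻¹ by rw [← conj_pow, hrel, ← pow_mul]]
    group
  rw [e1, ← hs', ← pow_add, ← pow_add, S.pow_eq_one]
  obtain ⟨w, hw⟩ : ∃ w, h = w + 1 := ⟨h - 1, by have := Nat.two_pow_pos m; omega⟩
  refine ⟨t * ((k + 1) * (h - 1)) + t, ?_⟩
  rw [hl, ← hh, hw, Nat.add_sub_cancel]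
  have hk' : (w : ℤ) + 1 = 4 * k := by exact_mod_cast (hw.symm.trans hk)
  have : (((w + 1 + 1) * ((2 * k + 1) * t * w) + 2 * t + (2 * k + 1) * t * w : ℕ) : ℤ) =
      ((2 * (w + 1) * (t * ((k + 1) * w) + t) : ℕ) : ℤ) := by
    push_cast
    linear_combination (-((t : ℤ) * w)) * hk'
  exact_mod_cast this

/-- Powers in `⟨c ^ 2 ^ m⟩`. -/
theorem mem_q_iff {l : ℕ} : c ^ l ∈ Subgroup.zpowers (c ^ (2 ^ m)) ↔ 2 ^ m ∣ l := by
  constructor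
  · intro h
    obtain ⟨j, hj⟩ := mem_powers_iff_mem_zpowers.mpr h
    have h1 : c ^ l * c ^ l = 1 := by
      rw [← (hj : (c ^ (2 ^ m)) ^ j = c ^ l), ← (Commute.refl _).mul_pow, S.q_sq, one_pow]
    rw [← pow_add, ← two_mul, S.pow_eq_one] at h1
    exact Nat.dvd_of_mul_dvd_mul_left two_pos h1
  · rintro ⟨q, rfl⟩
    rw [pow_mul]
    exact Subgroup.npow_mem_zpowers _ q

theorem q_mem_cases {z : G} (hz : z ∈ Subgroup.zpowers (c ^ (2 ^ m))) : z * z = 1 := by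
  obtain ⟨j, rfl⟩ := mem_powers_iff_mem_zpowers.mpr hz
  simp only
  rw [← (Commute.refl _).mul_pow, S.q_sq, one_pow]

end IndexFour

end CfsgLib.Block.IndexFour
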