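import Cfsg.Agent.Lib.Block.IndexFour.Rigid

/-!
# The quotient by the normal self-centralizing cyclic subgroup is elementary
-/

open Finset

set_option autoImplicit false
set_option linter.unusedSectionVars false

namespace CfsgLib.Block.IndexFour

universe u

variable {G : Type u} [Group G] [Finite G] {D : Subgroup G} {c : G} {m : ℕ} (S : IndexFour D c m)
include S

/-- The modular subgroup from an element acting by `h + 1`. -/
theorem IndexFour.exists_modular (hm : 2 ≤ m) {y : G} (hy : y ∈ D)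
    (hrel : y * c * y⁻¹ = c ^ (2 ^ m + 1)) (hyy : y * y ∈ Subgroup.zpowers c)
    (hyn : y ∉ Subgroup.zpowers c) :
    ∃ (M : Subgroup G) (a : G), M ≤ D ∧ MPres M c a (2 ^ m) ∧ Nat.card M = 2 * (2 * 2 ^ m) ∧
      a ∉ Subgroup.zpowers c ∧ y ∈ M := by
  obtain ⟨l, hl⟩ := S.exists_invol hm hrel hyy
  have han : y * c ^ l ∉ Subgroup.zpowers c := fun e => hyn (by
    simpa using mul_mem e (inv_mem (Subgroup.npow_mem_zpowers c l)))
  have hrel' : y * c ^ l * c * (y * c ^ l)⁻¹ = c ^ (2 ^ m + 1) := by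
    rw [← hrel, show y * c ^ l * c * (y * c ^ l)⁻¹ = y * (c ^ l * c * (c ^ l)⁻¹) * y⁻¹ by group,
      (Commute.pow_self c l).eq, mul_inv_cancel_right]
  obtain ⟨M, hMD, hcM, haM, hMc, hmemM⟩ := exists_double S.mem (mul_mem hy (pow_mem S.mem l))
    (by rw [hrel']; exact Subgroup.npow_mem_zpowers c _) (by rw [hl]; exact one_mem _) han
  refine ⟨M, y * c ^ l, hMD, ?_, by rw [hMc, S.order], han,
    by simpa using mul_mem haM (inv_mem (pow_mem hcM l))⟩
  exact
    { four_dvd := pow_dvd_pow 2 hm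
      pos := Nat.two_pow_pos m
      memx := hcM
      memy := haM
      orderx := S.order
      sqy := hl
      rel := hrel'
      noty := han
      cases := fun v hv => (hmemM v).mp hv }

/-- Squares in `⟨c⟩`. -/
theorem classify_squares (hm : 1 ≤ m) (hself : ∀ w ∈ D, Commute w c → w ∈ Subgroup.zpowers c)
    (hN : ∀ v ∈ D, v * c * v⁻¹ ∈ Subgroup.zpowers c)
    (hsq : ∀ v ∈ D, v * v ∈ Subgroup.zpowers c) : ∃ a x M k, FamQuot D M c a x m k := by
  classical
  haveI := Fintype.ofFinite G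
  set h := 2 ^ m with hh
  have hpos : 0 < h := Nat.two_pow_pos m
  have hexp : ∀ v : D, ∃ i, i < 2 * h ∧ (v : G) * c * (v : G)⁻¹ = c ^ i := by
    intro v
    obtain ⟨i, hi⟩ := mem_powers_iff_mem_zpowers.mpr (hN v v.2)
    refine ⟨i % (2 * h), Nat.mod_lt _ (by omega), ?_⟩
    rw [← (hi : c ^ i = _), S.pow_eq, ← hh, Nat.mod_mod]
  choose e he hec using hexp
  have hroot : ∀ v : D, (e v * e v) % 2 ^ (m + 1) = 1 := by
    intro v
    have h1 : c ^ (e v * e v) = c ^ 1 := by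
      obtain ⟨s, hs⟩ := mem_powers_iff_mem_zpowers.mpr (hsq v v.2)
      have hs' : c ^ s = (v : G) * v := hs
      rw [pow_one, pow_mul, ← hec v, conj_pow, ← hec v,
        show (v : G) * ((v : G) * c * (v : G)⁻¹) * (v : G)⁻¹ = ((v : G) * v) * c * ((v : G) * v)⁻¹ by group,
        ← hs', (Commute.pow_self c s).eq, mul_inv_cancel_right]
    rw [S.pow_eq] at h1
    rw [pow_succ', ← hh, h1, Nat.mod_eq_of_lt (by omega)]
  have hE : ∀ v : D, e v = 1 ∨ e v = 2 * h - 1 ∨ e v = h + 1 ∨ e v = h - 1 := by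
    intro v
    have := sq_one_mod hm (hroot v)
    rw [pow_succ', ← hh, Nat.mod_eq_of_lt (he v)] at this
    exact this
  have heq : ∀ v w : D, e v = e w → (v : G)⁻¹ * w ∈ Subgroup.zpowers c := fun v w h =>
    hself _ (mul_mem (inv_mem v.2) w.2) (S.exp_mod_eq (hec v) (hec w) (by rw [h]))
  set E := (Finset.univ : Finset D).image e with hEdef
  have hfib : ∀ b ∈ E, ((Finset.univ : Finset D).filter fun v => e v = b).card ≤ 2 * h := by
    intro b hb
    obtain ⟨v₀, -, rfl⟩ := Finset.mem_image.mp hb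
    refine le_trans (Finset.card_le_card_of_injOn (t := (Subgroup.zpowers c : Set G).toFinset)
      (fun v : D => (v₀ : G)⁻¹ * v) (fun v hv => ?_)
      (fun v _ w _ hvw => Subtype.ext (mul_left_cancel hvw))) (le_of_eq ?_)
    · rw [Finset.mem_coe, Set.mem_toFinset, SetLike.mem_coe]
      exact heq v₀ v (Finset.mem_filter.mp hv).2.symm
    · rw [← Set.ncard_eq_toFinset_card', ← Nat.card_coe_set_eq, SetLike.coe_sort_coe,
        Nat.card_zpowers, S.order]
  have h4 : 4 ≤ E.card := by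
    have h1 := Finset.card_le_mul_card_image (f := e) (Finset.univ : Finset D) (2 * h) hfib
    rw [Finset.card_univ, ← Nat.card_eq_fintype_card, S.card, ← hh, mul_comm 4] at h1
    exact Nat.le_of_mul_le_mul_left h1 (by omega)
  have hsub : E ⊆ ({1, 2 * h - 1, h + 1, h - 1} : Finset ℕ) := by
    intro b hb
    obtain ⟨v, -, rfl⟩ := Finset.mem_image.mp hb
    simp only [Finset.mem_insert, Finset.mem_singleton]
    exact hE v
  have hm2 : 2 ≤ m := by
    by_contra hlt
    have hh2 : h = 2 := by rw [hh, show m = 1 by omega, pow_one]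
    rw [hh2] at hsub
    have := le_trans h4 (Finset.card_le_card hsub)
    simp at this
  have hEeq : E = ({1, 2 * h - 1, h + 1, h - 1} : Finset ℕ) :=
    Finset.eq_of_subset_of_card_le hsub (Finset.card_le_four.trans h4)
  obtain ⟨y, -, hy⟩ := Finset.mem_image.mp (show h + 1 ∈ E by rw [hEeq]; simp)
  obtain ⟨x, -, hx⟩ := Finset.mem_image.mp (show 2 * h - 1 ∈ E by rw [hEeq]; simp)
  obtain ⟨f, hf⟩ : 4 ∣ h := by rw [hh]; exact pow_dvd_pow 2 hm2
  have hrel : (y : G) * c * (y : G)⁻¹ = c ^ (h + 1) := by rw [hec y, hy]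
  have hyn : (y : G) ∉ Subgroup.zpowers c := fun hm' => by
    obtain ⟨l, hl⟩ := mem_powers_iff_mem_zpowers.mpr hm'
    have h1 := hec y
    rw [← (hl : c ^ l = (y : G)), (Commute.pow_self c l).eq, mul_inv_cancel_right, hy] at h1
    conv at h1 => lhs; rw [← pow_one c]
    rw [S.pow_eq, ← hh, Nat.mod_eq_of_lt (by omega), Nat.mod_eq_of_lt (by omega)] at h1
    omega
  obtain ⟨M, a, hMD, hP, hMc, han, hyM⟩ := S.exists_modular hm2 y.2 hrel (hsq y y.2) hyn
  -- elements outside `M`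
  have hout : ∀ v : D, (v : G) ∉ M → e v % 4 = 3 := by
    intro v hv
    rcases hE v with e1 | e1 | e1 | e1
    · refine absurd ?_ hv
      obtain ⟨l, hl⟩ := mem_powers_iff_mem_zpowers.mpr
        (hself v v.2 (mul_inv_eq_iff_eq_mul.mp (by rw [hec v, e1, pow_one])))
      rw [← (hl : c ^ l = (v : G))]
      exact pow_mem hP.memx l
    · omega
    · refine absurd ?_ hv
      obtain ⟨l, hl⟩ := mem_powers_iff_mem_zpowers.mpr (heq y v (by rw [hy, e1]))
      rw [show (v : G) = y * c ^ l by rw [show c ^ l = (y : G)⁻¹ * v from hl, mul_inv_cancel_left]]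
      exact mul_mem hyM (pow_mem hP.memx l)
    · omega
  have hxM : (x : G) ∉ M := by
    intro hxm
    obtain ⟨l, hl | hl⟩ := hP.cases _ hxm
    · have h1 := hec x
      rw [hl, (Commute.pow_self c l).eq, mul_inv_cancel_right, hx] at h1
      conv at h1 => lhs; rw [← pow_one c]
      rw [S.pow_eq, ← hh, Nat.mod_eq_of_lt (by omega), Nat.mod_eq_of_lt (by omega)] at h1
      omega
    · have h1 := hec x
      rw [hl, show a * c ^ l * c * (a * c ^ l)⁻¹ = a * (c ^ l * c * (c ^ l)⁻¹) * a⁻¹ by group,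
        (Commute.pow_self c l).eq, mul_inv_cancel_right, hP.rel, hx, S.pow_eq, ← hh,
        Nat.mod_eq_of_lt (by omega), Nat.mod_eq_of_lt (by omega)] at h1
      omega
  have hu : (2 : ℕ) * 2 ^ (m - 1) = h := by
    rw [← pow_succ', Nat.sub_add_cancel hm, hh]
  have hcen : ∀ z ∈ D, Commute z (c ^ h) := by
    intro z hz
    refine mul_inv_eq_iff_eq_mul.mp ?_
    rw [← conj_pow, hec ⟨z, hz⟩, ← pow_mul, S.pow_eq, ← hh]
    rcases hE ⟨z, hz⟩ with e1 | e1 | e1 | e1 <;> rw [e1]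
    · rw [one_mul]
    · rw [show (2 * h - 1) * h = h + 2 * h * (h - 1) by
        obtain ⟨w, hw⟩ : ∃ w, h = w + 1 := ⟨h - 1, by omega⟩
        rw [hw, Nat.add_sub_cancel, show 2 * (w + 1) - 1 = 2 * w + 1 by omega]; ring, Nat.add_mul_mod_self_left]
    · rw [show (h + 1) * h = h + 2 * h * (2 * f) by rw [hf]; ring, Nat.add_mul_mod_self_left]
    · rw [show (h - 1) * h = h + 2 * h * (2 * f - 1) by
        obtain ⟨w, hw⟩ : ∃ w, f = w + 1 := ⟨f - 1, by omega⟩
        rw [hf, hw, show 4 * (w + 1) - 1 = 4 * w + 3 by omega, show 2 * (w + 1) - 1 = 2 * w + 1 by omega]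
        ring, Nat.add_mul_mod_self_left]
  have hrel' : a * c * a⁻¹ = c ^ (h * 1 + 1) := by rw [mul_one]; exact hP.rel
  have hMp : ∀ v ∈ M, ∃ p q : ℕ, p ≤ 1 ∧ v = a ^ p * c ^ q := by
    intro v hv
    obtain ⟨l, hl | hl⟩ := hP.cases v hv
    · exact ⟨0, l, by omega, by simpa using hl⟩
    · exact ⟨1, l, le_rfl, by simpa using hl⟩
  have hxinv : (x : G) * c * (x : G)⁻¹ = c⁻¹ := by
    rw [hec x, hx]
    refine eq_inv_of_mul_eq_one_left ?_
    rw [← pow_succ, S.pow_eq_one, ← hh, Nat.sub_add_cancel (by omega)]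
  have hxa : (x : G) * a * (x : G)⁻¹ = a ∨ (x : G) * a * (x : G)⁻¹ = a * c ^ h := by
    have hidx : (M.subgroupOf D).index = 2 := by
      have h1 := Subgroup.card_mul_index (M.subgroupOf D)
      rw [Nat.card_congr (Subgroup.subgroupOfEquivOfLe hMD).toEquiv, hMc, S.card] at h1
      exact Nat.eq_of_mul_eq_mul_left (show 0 < 2 * (2 * 2 ^ m) by positivity) (by rw [h1]; ring)
    have hnorm := Subgroup.normal_of_index_eq_two hidx
    have h1 : (x : G) * a * (x : G)⁻¹ ∈ M := by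
      simpa using Subgroup.mem_subgroupOf.mp (hnorm.conj_mem ⟨a, hMD hP.memy⟩ hP.memy x)
    have h2 := hP.sq_one_mem h1 (by
      rw [show (x : G) * a * (x : G)⁻¹ * ((x : G) * a * (x : G)⁻¹) = (x : G) * (a * a) * (x : G)⁻¹ by group,
        hP.sqy, mul_one, mul_inv_cancel])
    simp only [Finset.mem_insert, Finset.mem_singleton] at h2
    rcases h2 with e1 | e1 | e1 | e1
    · exact absurd (by rw [conj_eq_one_iff.mp e1]; exact one_mem _) han
    · refine absurd ?_ han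
      have hfix : (x : G) * c ^ h * (x : G)⁻¹ = c ^ h := by
        rw [(hcen _ x.2).eq, mul_inv_cancel_right]
      rw [show a = c ^ h from conj_injective (e1.trans hfix.symm)]
      exact Subgroup.npow_mem_zpowers c h
    · exact Or.inl e1
    · exact Or.inr e1
  refine ⟨a, x, M, m - 1, by omega, by omega, ?_, hMD, hP.memx, hP.memy, hMc, han, ?_, x.2, hxM,
    ?_, ?_, ?_, ?_⟩
  all_goals try rw [hu]
  · exact hcen
  · rw [hP.sqy]; exact one_mem _
  · intro v hv w hw
    obtain ⟨p, q, -, rfl⟩ := hMp v hv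
    obtain ⟨r, s, -, rfl⟩ := hMp w hw
    exact comm_mem hrel' p q r s
  · rcases hxa with e1 | e1 <;> rw [e1]
    · rw [mul_inv_cancel]; exact one_mem _
    · rw [(hcen a (hMD hP.memy)).eq, mul_inv_cancel_right]
      exact Subgroup.mem_zpowers _
  · intro v hv hcom
    obtain ⟨p, q, hp, rfl⟩ := hMp v hv
    obtain ⟨z, hz, hxap⟩ : ∃ z ∈ Subgroup.zpowers (c ^ h), (x : G) * a ^ p * (x : G)⁻¹ = a ^ p * z := by
      rcases hxa with e1 | e1
      · exact ⟨1, one_mem _, by rw [← conj_pow, e1, mul_one]⟩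
      · exact ⟨(c ^ h) ^ p, Subgroup.npow_mem_zpowers _ p, by
          rw [← conj_pow, e1, ((hcen a (hMD hP.memy))).mul_pow]⟩
    have e2 : (x : G) * (a ^ p * c ^ q) * (x : G)⁻¹ * (a ^ p * c ^ q)⁻¹ =
        a ^ p * (z * ((c ^ q)⁻¹ * (c ^ q)⁻¹)) * (a ^ p)⁻¹ := by
      rw [show (x : G) * (a ^ p * c ^ q) * (x : G)⁻¹ =
        (x : G) * a ^ p * (x : G)⁻¹ * ((x : G) * c ^ q * (x : G)⁻¹) by group, hxap, ← conj_pow, hxinv, inv_pow]
      group
    rw [e2] at hcom
    obtain ⟨r, hr⟩ := mem_powers_iff_mem_zpowers.mpr hcom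
    have hap : Commute (a ^ p) ((c ^ h) ^ r) := ((hcen a (hMD hP.memy)).pow_left p).pow_right r
    have h1 : z * ((c ^ q)⁻¹ * (c ^ q)⁻¹) = (c ^ h) ^ r := by
      rw [show z * ((c ^ q)⁻¹ * (c ^ q)⁻¹) = (a ^ p)⁻¹ *
        (a ^ p * (z * ((c ^ q)⁻¹ * (c ^ q)⁻¹)) * (a ^ p)⁻¹) * a ^ p by group,
        ← (hr : (c ^ h) ^ r = _), mul_assoc, ← hap.eq, inv_mul_cancel_left]
    have h2 : c ^ (2 * q) ∈ Subgroup.zpowers (c ^ h) := by
      rw [two_mul, pow_add, ← inv_mem_iff, mul_inv_rev, show (c ^ q)⁻¹ * (c ^ q)⁻¹ = z⁻¹ * (c ^ h) ^ r by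
        rw [← h1, inv_mul_cancel_left]]
      exact mul_mem (inv_mem hz) (Subgroup.npow_mem_zpowers _ r)
    rcases (show p = 0 ∨ p = 1 by omega) with rfl | rfl
    · rw [pow_zero, one_mul, ← pow_add, ← two_mul]; exact h2
    · rw [pow_one, hP.sq_out, ← hh, add_mul, pow_add, pow_mul]
      exact mul_mem (Subgroup.npow_mem_zpowers _ q) h2
  · intro v hv hvM hcon
    obtain ⟨t, ht⟩ := mem_powers_iff_mem_zpowers.mpr (hsq v hv)
    have ht' : c ^ t = v * v := ht
    have h1 : (e ⟨v, hv⟩ * t) % (2 * h) = t % (2 * h) := by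
      rw [hh, ← S.pow_eq, pow_mul, ← hec ⟨v, hv⟩, conj_pow, ht']
      simp [mul_assoc]
    have h2 : h ∣ t := S.dvd_of_three (hout ⟨v, hv⟩ hvM) h1
    have h3 : c ^ t ∈ Subgroup.zpowers (c ^ h) := S.mem_q_iff.mpr h2
    rw [← ht'] at hcon
    have h4 := mul_mem hcon (inv_mem h3)
    rw [mul_inv_cancel_right, inv_mem_iff] at h4
    have h5 := Nat.le_of_dvd (Nat.two_pow_pos _) (S.mem_q_iff.mp h4)
    have h6 : 2 ^ (m - 1) < 2 ^ m := Nat.pow_lt_pow_right (by norm_num) (by omega)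
    omega

end CfsgLib.Block.IndexFour
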