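import Cfsg.Agent.Lib.Block.IndexFour.Rigid

/-!
# The self-centralizing cyclic subgroup is normal
-/

open Finset

set_option autoImplicit false
set_option linter.unusedSectionVars false

namespace CfsgLib.Block.IndexFour

universe u

variable {G : Type u} [Group G] [Finite G] {D : Subgroup G} {c : G} {m : ℕ} (S : IndexFour D c m)
include S

/-- A cyclic quotient by `⟨c⟩`. -/
theorem classify_cyclic (hm : 1 ≤ m) (hself : ∀ w ∈ D, Commute w c → w ∈ Subgroup.zpowers c)
    (hN : ∀ v ∈ D, v * c * v⁻¹ ∈ Subgroup.zpowers c) {x : G} (hx : x ∈ D)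
    (hxx : x * x ∉ Subgroup.zpowers c) :
    CentralSmall D ∨ ∃ a x M k, FamQuot D M c a x m k := by
  classical
  have hhpos := Nat.two_pow_pos m
  have hxx4 : x ^ 4 = x * x * (x * x) := by rw [show 4 = 2 * 2 by norm_num, pow_mul, pow_two, pow_two]
  set X := (Subgroup.zpowers c).subgroupOf D with hX
  have hXN : X.Normal := ⟨fun v hv g => by
    obtain ⟨l, hl⟩ := mem_powers_iff_mem_zpowers.mpr (Subgroup.mem_subgroupOf.mp hv)
    have hl' : c ^ l = (v : G) := hl
    rw [hX, Subgroup.mem_subgroupOf, Subgroup.coe_mul, Subgroup.coe_mul, Subgroup.coe_inv, ← hl',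
      ← conj_pow]
    exact pow_mem (hN g g.2) l⟩
  have hidx : Nat.card (D ⧸ X) = 4 := by
    have h1 := Subgroup.card_mul_index X
    rw [hX, Nat.card_congr (Subgroup.subgroupOfEquivOfLe (Subgroup.zpowers_le.mpr S.mem)).toEquiv,
      Nat.card_zpowers, S.order, S.card, mul_comm 4] at h1
    rw [← Subgroup.index_eq_card]
    exact Nat.eq_of_mul_eq_mul_left (by positivity) h1
  have hmem : ∀ w : D, (QuotientGroup.mk w : D ⧸ X) = 1 ↔ (w : G) ∈ Subgroup.zpowers c := fun w => by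
    rw [QuotientGroup.eq_one_iff]; rfl
  haveI := Fintype.ofFinite (D ⧸ X)
  set xq : D ⧸ X := QuotientGroup.mk (⟨x, hx⟩ : D) with hxq
  have h4 : xq ^ 4 = 1 := by rw [← hidx]; exact pow_card_eq_one'
  have hx4 : x ^ 4 ∈ Subgroup.zpowers c := by
    rw [hxq, ← QuotientGroup.mk_pow, hmem] at h4
    exact h4
  have hord : orderOf xq = 4 := by
    have h := orderOf_eq_prime_pow (p := 2) (n := 1) (x := xq) ?_ (by simpa using h4)
    · simpa using h
    · rw [pow_one, hxq, ← QuotientGroup.mk_pow, hmem, pow_two]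
      exact hxx
  have hgen : ∀ v ∈ D, ∃ p q : ℕ, p < 4 ∧ v = x ^ p * c ^ q := by
    intro v hv
    have htop : Subgroup.zpowers xq = ⊤ :=
      Subgroup.eq_top_of_card_eq _ (by rw [Nat.card_zpowers, hord, hidx])
    have h1 : (QuotientGroup.mk (⟨v, hv⟩ : D) : D ⧸ X) ∈ Subgroup.zpowers xq := by rw [htop]; trivial
    obtain ⟨p, hp⟩ := mem_powers_iff_mem_zpowers.mpr h1
    have hp' : xq ^ (p % 4) = QuotientGroup.mk (⟨v, hv⟩ : D) := by
      rw [← hord, pow_mod_orderOf]; exact hp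
    have h2 : (x ^ (p % 4))⁻¹ * v ∈ Subgroup.zpowers c := by
      have := (hmem (((⟨x, hx⟩ : D) ^ (p % 4))⁻¹ * ⟨v, hv⟩)).mp (by
        rw [QuotientGroup.mk_mul, QuotientGroup.mk_inv, QuotientGroup.mk_pow, ← hxq, hp', inv_mul_cancel])
      simpa using this
    obtain ⟨q, hq⟩ := mem_powers_iff_mem_zpowers.mpr h2
    exact ⟨p % 4, q, Nat.mod_lt _ (by norm_num), by rw [show c ^ q = (x ^ (p % 4))⁻¹ * v from hq, mul_inv_cancel_left]⟩
  have heven : ∀ p : ℕ, p < 4 → x ^ (2 * p) ∈ Subgroup.zpowers c → p = 0 ∨ p = 2 := by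
    intro p hp h
    have h1 : xq ^ (2 * p) = 1 := by rw [hxq, ← QuotientGroup.mk_pow, hmem]; exact h
    rw [← orderOf_dvd_iff_pow_eq_one, hord] at h1
    omega
  obtain ⟨i, hi⟩ := mem_powers_iff_mem_zpowers.mpr (hN x hx)
  have hi' : x * c * x⁻¹ = c ^ i := hi.symm
  have hodd := S.exp_odd hi'
  have hconj2 : (x * x) * c * (x * x)⁻¹ = c ^ (i * i) := by
    rw [show (x * x) * c * (x * x)⁻¹ = x * (x * c * x⁻¹) * x⁻¹ by group, hi', ← conj_pow, hi', ← pow_mul]
  have hne : (i * i) % (2 * 2 ^ m) ≠ 1 := by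
    intro e
    refine hxx (hself _ (mul_mem hx hx) (mul_inv_eq_iff_eq_mul.mp ?_))
    rw [hconj2]
    conv_rhs => rw [← pow_one c]
    rw [S.pow_eq, e, Nat.mod_eq_of_lt (by omega)]
  have h8i : (i * i) % 8 = 1 := by
    obtain ⟨j, rfl⟩ : ∃ j, i = 2 * j + 1 := ⟨i / 2, by omega⟩
    have e : (2 * j + 1) * (2 * j + 1) = 4 * (j * (j + 1)) + 1 := by ring
    obtain ⟨w, hw⟩ := Nat.even_mul_succ_self j
    omega
  have hm3 : 3 ≤ m := by
    by_contra
    apply hne
    have hd : 2 * 2 ^ m ∣ 8 := by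
      rw [← pow_succ', show (8 : ℕ) = 2 ^ 3 by norm_num]; exact pow_dvd_pow 2 (by omega)
    rw [← Nat.mod_mod_of_dvd (i * i) hd, h8i, Nat.mod_eq_of_lt (by omega)]
  set h := 2 ^ m with hh
  obtain ⟨f, hf⟩ : 8 ∣ h := by rw [hh]; exact pow_dvd_pow 2 hm3
  have hi2 : (i * i) % (2 * h) = h + 1 := by
    have h1 : (i * i) * (i * i) % 2 ^ (m + 1) = 1 := by
      have h2 : c ^ ((i * i) * (i * i)) = c ^ 1 := by
        obtain ⟨l, hl⟩ := mem_powers_iff_mem_zpowers.mpr hx4
        have hl' : c ^ l = x ^ 4 := hl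
        rw [pow_one, pow_mul, ← hconj2, conj_pow, ← hconj2,
          show x * x * (x * x * c * (x * x)⁻¹) * (x * x)⁻¹ = x ^ 4 * c * (x ^ 4)⁻¹ by rw [hxx4]; group, ← hl',
          (Commute.pow_self c l).eq, mul_inv_cancel_right]
      rw [S.pow_eq] at h2
      rw [pow_succ', ← hh, h2, Nat.mod_eq_of_lt (by omega)]
    have h8 : (i * i) % (2 * h) % 8 = 1 := by
      rw [Nat.mod_mod_of_dvd _ (Dvd.dvd.mul_left ⟨f, hf⟩ 2), h8i]
    rcases sq_one_mod (by omega) h1 with hc | hc | hc | hc <;> rw [pow_succ', ← hh] at hc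
    · exact absurd hc hne
    all_goals omega
  by_cases hi4 : i % 4 = 1
  · -- quotient by `⟨c ^ 4⟩` commutative
    obtain ⟨w, rfl⟩ : ∃ w, i = 4 * w + 1 := ⟨i / 4, by omega⟩
    obtain ⟨q, hq⟩ : ∃ q : ℕ, (4 * w + 1) * (4 * w + 1) = 2 * h * q + (h + 1) :=
      ⟨(4 * w + 1) * (4 * w + 1) / (2 * h), by
        have := Nat.div_add_mod ((4 * w + 1) * (4 * w + 1)) (2 * h); omega⟩
    have hdvd : (h : ℤ) ∣ 8 * w := by
      have hco : IsCoprime (h : ℤ) (2 * w + 1) := by
        rw [hh, Nat.cast_pow]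
        exact IsCoprime.pow_left ⟨-(w : ℤ), 1, by push_cast; ring⟩
      refine hco.dvd_of_dvd_mul_right ⟨2 * q + 1, ?_⟩
      have hq' : ((4 * w + 1) * (4 * w + 1) : ℤ) = 2 * h * q + (h + 1) := by exact_mod_cast hq
      linear_combination hq'
    obtain ⟨v, hv⟩ := hdvd
    have hvodd : v % 2 = 1 := by
      have hq' : ((4 * w + 1) * (4 * w + 1) : ℤ) = 2 * h * q + (h + 1) := by exact_mod_cast hq
      have e : v * (2 * (w : ℤ) + 1) = 2 * q + 1 :=
        mul_left_cancel₀ (show (h : ℤ) ≠ 0 by positivity) (by linear_combination hq' - (2 * (w : ℤ) + 1) * hv)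
      rcases Int.even_or_odd' v with ⟨u, rfl | rfl⟩
      · exfalso
        rw [mul_assoc] at e
        omega
      · omega
    set U := Subgroup.zpowers (c ^ 4) with hU
    have hfix4 : x * c ^ 4 * x⁻¹ = c ^ 4 := by
      rw [← conj_pow, hi', ← pow_mul, S.pow_eq, ← hh]
      refine (Nat.modEq_iff_dvd.mpr ⟨v, ?_⟩).symm
      push_cast
      linear_combination 2 * hv
    have hxc4 : Commute x (c ^ 4) := mul_inv_eq_iff_eq_mul.mp hfix4
    have hcen : ∀ z ∈ D, Commute z (c ^ 4) := fun z hz => by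
      obtain ⟨p, r, -, rfl⟩ := hgen z hz
      exact (hxc4.pow_left p).mul_left (Commute.pow_pow_self c r 4)
    have hx4U : x ^ 4 ∈ U := by
      obtain ⟨t, ht⟩ := mem_powers_iff_mem_zpowers.mpr hx4
      have ht' : c ^ t = x ^ 4 := ht
      have h1 : ((4 * w + 1) * t) % (2 * h) = t % (2 * h) := by
        rw [hh, ← S.pow_eq, pow_mul, ← hi', conj_pow, ht', (Commute.self_pow x 4).eq, mul_inv_cancel_right]
      obtain ⟨r, hr⟩ := Nat.modEq_iff_dvd.mp h1.symm
      push_cast at hr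
      have e : v * (t : ℤ) = 4 * r :=
        mul_left_cancel₀ (show (h : ℤ) ≠ 0 by positivity) (by linear_combination 2 * hr - (t : ℤ) * hv)
      have h4t : (4 : ℤ) ∣ (t : ℤ) := by
        refine (IsCoprime.dvd_of_dvd_mul_left ?_ ⟨r, e⟩)
        obtain ⟨u, rfl⟩ : ∃ u, v = 2 * u + 1 := ⟨v / 2, by omega⟩
        exact IsCoprime.pow_left (x := (2 : ℤ)) (m := 2) ⟨-u, 1, by ring⟩
      obtain ⟨t', rfl⟩ : 4 ∣ t := by exact_mod_cast h4t
      rw [← ht', pow_mul]
      exact Subgroup.npow_mem_zpowers _ t'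
    refine Or.inl ⟨c ^ 4, pow_mem S.mem 4, hcen, Or.inr ⟨fun a ha b hb => ?_, ?_⟩⟩
    · obtain ⟨p, q', -, rfl⟩ := hgen a ha
      obtain ⟨r, s, -, rfl⟩ := hgen b hb
      exact comm_mem hi' p q' r s
    · refine ⟨{1, c ^ 2, x ^ 2, x ^ 2 * c ^ 2}, Finset.card_le_four, fun t ht ht2 => ?_⟩
      obtain ⟨p, q', hp, rfl⟩ := hgen t ht
      obtain ⟨e, he⟩ := exists_pow_conj hi' p q'
      have e1 : x ^ p * c ^ q' * (x ^ p * c ^ q') = c ^ (q' + 4 * e) * x ^ (2 * p) * c ^ q' := by
        rw [← he, two_mul, pow_add]; group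
      rw [e1] at ht2
      have hUC : U ≤ Subgroup.zpowers c := Subgroup.zpowers_le.mpr (Subgroup.npow_mem_zpowers c 4)
      have hxp : x ^ (2 * p) ∈ Subgroup.zpowers c := by
        have := mul_mem (mul_mem (inv_mem (Subgroup.npow_mem_zpowers c (q' + 4 * e))) (hUC ht2))
          (inv_mem (Subgroup.npow_mem_zpowers c q'))
        simpa [mul_assoc] using this
      have hxpU : x ^ (2 * p) ∈ U := by
        rcases heven p hp hxp with rfl | rfl
        · simp
        · exact hx4U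
      have hq2 : q' % 2 = 0 := by
        have hc2 : Commute (x ^ (2 * p)) (c ^ (q' + 4 * e)) := by
          obtain ⟨r, hr⟩ := mem_powers_iff_mem_zpowers.mpr hxp
          rw [← (hr : c ^ r = _)]
          exact Commute.pow_pow_self c r _
        rw [← hc2.eq, mul_assoc, ← pow_add] at ht2
        have h2 := mul_mem (inv_mem hxpU) ht2
        rw [inv_mul_cancel_left] at h2
        obtain ⟨r, hr⟩ := mem_powers_iff_mem_zpowers.mpr h2
        have hr' : c ^ (4 * r) = c ^ (q' + 4 * e + q') := by rw [pow_mul]; exact hr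
        rw [S.pow_eq, ← hh] at hr'
        obtain ⟨z, hz⟩ := Nat.modEq_iff_dvd.mp hr'
        have hf' : (h : ℤ) = 8 * f := by exact_mod_cast hf
        push_cast [hf', mul_assoc] at hz
        omega
      refine ⟨x ^ p * c ^ (q' % 4), ?_, ?_⟩
      · simp only [Finset.mem_insert, Finset.mem_singleton]
        rcases heven p hp hxp with rfl | rfl <;>
          rcases (show q' % 4 = 0 ∨ q' % 4 = 2 by omega) with e2 | e2 <;> simp [e2]
      · rw [mul_inv_rev, mul_assoc, inv_mul_cancel_left]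
        nth_rw 2 [← Nat.mod_add_div q' 4]
        rw [pow_add, inv_mul_cancel_left, pow_mul]
        exact Subgroup.npow_mem_zpowers _ _
  · -- the family
    have hi43 : i % 4 = 3 := by omega
    have hx2c : x * x * c * (x * x)⁻¹ = c ^ (h * 1 + 1) := by
      rw [hconj2, S.pow_eq, ← hh, hi2, mul_one, Nat.mod_eq_of_lt (by omega)]
    obtain ⟨M, hMD, hcM, haM, hMc, hmemM⟩ := exists_double S.mem (mul_mem hx hx)
      (hN _ (mul_mem hx hx)) (by
        rw [← hxx4]; exact hx4) hxx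
    have hu : (2 : ℕ) * 2 ^ (m - 1) = h := by
      rw [← pow_succ', Nat.sub_add_cancel hm, hh]
    have hxM : ∀ p q : ℕ, p % 2 = 1 → x ^ p * c ^ q ∉ M := by
      intro p q hp hmM
      have h1 : x ^ p ∈ M := by simpa using mul_mem hmM (inv_mem (pow_mem hcM q))
      have h2 : x ∈ M := by
        obtain ⟨j, rfl⟩ : ∃ j, p = 2 * j + 1 := ⟨p / 2, by omega⟩
        have := mul_mem (inv_mem (pow_mem haM j)) h1
        rwa [pow_succ, pow_mul, pow_two, inv_mul_cancel_left] at this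
      obtain ⟨l, hl | hl⟩ := (hmemM x).mp h2
      · exact hxx (hl ▸ mul_mem (Subgroup.npow_mem_zpowers c l) (Subgroup.npow_mem_zpowers c l))
      · refine hxx ?_
        have h3 : x ∈ Subgroup.zpowers c := by
          have h4 : x⁻¹ = c ^ l := by
            refine inv_eq_of_mul_eq_one_right (mul_left_cancel (a := x) ?_)
            rw [mul_one, ← mul_assoc, ← hl]
          exact inv_mem_iff.mp (h4 ▸ Subgroup.npow_mem_zpowers c l)
        exact mul_mem h3 h3
    have hMp : ∀ z ∈ M, ∃ p q : ℕ, z = (x * x) ^ p * c ^ q := fun z hz => by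
      obtain ⟨l, hl | hl⟩ := (hmemM z).mp hz
      · exact ⟨0, l, by simpa using hl⟩
      · exact ⟨1, l, by simpa using hl⟩
    have hqfix : x * c ^ h * x⁻¹ = c ^ h := by
      rw [← conj_pow, hi', ← pow_mul, S.pow_eq, ← hh]
      obtain ⟨j, rfl⟩ : ∃ j, i = 2 * j + 1 := ⟨i / 2, by omega⟩
      rw [show (2 * j + 1) * h = h + 2 * h * j by ring, Nat.add_mul_mod_self_left]
    have hxq' : Commute x (c ^ h) := mul_inv_eq_iff_eq_mul.mp hqfix
    have hcen : ∀ z ∈ D, Commute z (c ^ h) := fun z hz => by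
      obtain ⟨p, r, -, rfl⟩ := hgen z hz
      exact (hxq'.pow_left p).mul_left (Commute.pow_pow_self c r h)
    have hx4U : x ^ 4 ∈ Subgroup.zpowers (c ^ h) := by
      obtain ⟨t, ht⟩ := mem_powers_iff_mem_zpowers.mpr hx4
      have ht' : c ^ t = x ^ 4 := ht
      have h1 : (i * t) % (2 * h) = t % (2 * h) := by
        rw [hh, ← S.pow_eq, pow_mul, ← hi', conj_pow, ht', (Commute.self_pow x 4).eq, mul_inv_cancel_right]
      rw [← ht']
      exact S.mem_q_iff.mpr (S.dvd_of_three hi43 h1)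
    refine Or.inr ⟨x * x, x, M, m - 1, by omega, by omega, ?_, hMD, hcM, haM, ?_, hxx, ?_, hx,
      fun e => hxM 1 0 rfl (by simpa using e), ?_, ?_, ?_, ?_⟩
    all_goals try rw [hu]
    · exact hcen
    · rw [hMc, S.order]
    · rw [← hxx4]; exact hx4U
    · intro v hv z hz
      obtain ⟨p, q, rfl⟩ := hMp v hv
      obtain ⟨r, s, rfl⟩ := hMp z hz
      exact comm_mem hx2c p q r s
    · rw [show x * (x * x) * x⁻¹ * (x * x)⁻¹ = 1 by group]; exact one_mem _
    · intro z hz hcom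
      obtain ⟨p, q, rfl⟩ := hMp z hz
      obtain ⟨e, he⟩ := exists_pow_conj hx2c p q
      have h1 : c ^ (i * q) * (c ^ q)⁻¹ ∈ Subgroup.zpowers (c ^ h) := by
        have e1 : x * ((x * x) ^ p * c ^ q) * x⁻¹ * ((x * x) ^ p * c ^ q)⁻¹ =
            (x * x) ^ p * (c ^ (i * q) * (c ^ q)⁻¹) * ((x * x) ^ p)⁻¹ := by
          rw [show c ^ (i * q) = x * c ^ q * x⁻¹ by rw [← conj_pow, hi', ← pow_mul]]
          have hcx : Commute x ((x * x) ^ p) := ((Commute.refl x).mul_right (Commute.refl x)).pow_right p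
          rw [← mul_assoc x ((x * x) ^ p), hcx.eq]
          group
        rw [e1] at hcom
        have hc2 := hcen _ (pow_mem (mul_mem hx hx) p)
        obtain ⟨r, hr⟩ := mem_powers_iff_mem_zpowers.mpr hcom
        have hr' : (c ^ h) ^ r = _ := hr
        refine mem_powers_iff_mem_zpowers.mp ⟨r, ?_⟩
        show (c ^ h) ^ r = _
        rw [show (c ^ h) ^ r = ((x * x) ^ p)⁻¹ * (c ^ h) ^ r * (x * x) ^ p by
          rw [mul_assoc, ← (hc2.pow_right r).eq, inv_mul_cancel_left], hr']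
        group
      have h2 : h ∣ 2 * q := by
        refine hh ▸ S.dvd_of_three hi43 ?_
        have h3 := S.q_mem_cases (hh ▸ h1)
        rw [← pow_two, ((Commute.pow_pow_self c (i * q) q).inv_right).mul_pow, inv_pow, ← pow_mul,
          ← pow_mul, mul_inv_eq_one, mul_comm q 2, mul_assoc, mul_comm q 2] at h3
        rwa [S.pow_eq] at h3
      have e2 : (x * x) ^ p * c ^ q * ((x * x) ^ p * c ^ q) =
          c ^ (q + h * e) * (x ^ 4) ^ p * c ^ q := by
        rw [← he, hxx4, (Commute.refl (x * x)).mul_pow]; group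
      rw [e2]
      have hc4 : Commute ((x ^ 4) ^ p) (c ^ (q + h * e)) := by
        obtain ⟨r, hr⟩ := mem_powers_iff_mem_zpowers.mpr hx4
        rw [← (hr : c ^ r = _), ← pow_mul]
        exact Commute.pow_pow_self c _ _
      rw [← hc4.eq, mul_assoc, ← pow_add]
      refine mul_mem (pow_mem hx4U p) (S.mem_q_iff.mpr ?_)
      rw [show q + h * e + q = 2 * q + h * e by ring]
      exact dvd_add h2 (dvd_mul_right h e)
    · intro v hv hvM hcon
      obtain ⟨p, q, hp, rfl⟩ := hgen v hv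
      obtain ⟨e, he⟩ := exists_pow_conj (g := 1) (w := i - 1)
        (show x * c * x⁻¹ = c ^ (1 * (i - 1) + 1) by rw [hi']; congr 1; omega) p q
      have h1 : x ^ p * c ^ q * (x ^ p * c ^ q) ∈ Subgroup.zpowers c := by
        have := mul_mem (Subgroup.npow_mem_zpowers c (2 ^ (m - 1)))
          ((Subgroup.zpowers_le.mpr (Subgroup.npow_mem_zpowers c h)) hcon)
        rwa [mul_inv_cancel_left] at this
      rw [show x ^ p * c ^ q * (x ^ p * c ^ q) = c ^ (q + 1 * e) * x ^ (2 * p) * c ^ q by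
        rw [← he, two_mul, pow_add]; group] at h1
      have h2 : x ^ (2 * p) ∈ Subgroup.zpowers c := by
        have := mul_mem (mul_mem (inv_mem (Subgroup.npow_mem_zpowers c (q + 1 * e))) h1)
          (inv_mem (Subgroup.npow_mem_zpowers c q))
        simpa [mul_assoc] using this
      refine hvM ?_
      rcases heven p hp h2 with rfl | rfl
      · simpa using pow_mem hcM q
      · rw [pow_two]; exact mul_mem haM (pow_mem hcM q)

end CfsgLib.Block.IndexFour
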