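import Cfsg.Agent.Lib.Block.FusedSum
import Cfsg.Agent.Lib.Block.FusionSat

/-!
# The members of a block along the elements of a defect group

`k(B) = l(B) + ∑_{y ≠ 1} l(b_y) / |cls y|` at a maximal pair `(P, e)`, with the bounds from sets of
representatives, the fused elements as images in the fusion system, and the defect groups of the
subsections at elements with largest centralizer in their class.
-/

open Finset MonoidAlgebra
open scoped ComplexConjugate

set_option autoImplicit false
set_option linter.unusedSectionVars false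

namespace CfsgLib.Block.IndexFour

open Cfsg CfsgLib CfsgLib.Block
open Cfsg.FusionSystem (centralizerIn)
open scoped Pair

universe u

variable {p : ℕ} {M : Ideal AlgInt} [M.IsMaximal] {G : Type u} [Group G] [Fintype G] [DecidableEq G]
  {P : Subgroup G} {e : Set (IrrCharacter (CQ P))}

/-! ### Fused elements in the fusion system -/

/-- The fused elements are the images under the maps of the fusion system. -/
theorem mem_fusClass_iff_hom (hM : IsPModular p M) {B : Set (IrrCharacter G)}
    (hmax : IsMaximalBrauerPair p M B P e) {y z : P} :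
    z ∈ fusClass hM hmax.1.1 y ↔ ∃ φ ∈ (blockFusion hM hmax.1.1).Hom (Subgroup.zpowers (y : G)),
      φ ⟨(y : G), Subgroup.mem_zpowers _⟩ = (z : G) := by
  set he := hmax.1.1
  have hF := isBlockFusionSystemOn_blockFusion hM hmax
  constructor
  · intro hz
    obtain ⟨g, hg, hgl⟩ := (mem_fusClass hM he).mp hz
    obtain ⟨f, hf⟩ := exists_eq_pairMk (a := lowPair hM he y) (Q := Subgroup.zpowers (y : G)) rfl
    refine ⟨conjHom (Subgroup.zpowers (y : G)) g, (hF.2 _ _).mpr
      ⟨Subgroup.zpowers_le.mpr y.2, g, fun u => rfl, ?_, f, ?_, ?_⟩, hg⟩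
    · show cjS g (Subgroup.zpowers (y : G)) ≤ P
      rw [cjS_zpowers, hg]
      exact Subgroup.zpowers_le.mpr z.2
    · have := lowPair_below hM he y
      rwa [hf] at this
    · have := lowPair_below hM he z
      rwa [← hgl, hf] at this
  · rintro ⟨φ, hφ, hφy⟩
    obtain ⟨-, g, hg, -, f, hf, hgf⟩ := (hF.2 _ _).mp hφ
    have hgy : g * (y : G) * g⁻¹ = z := by rw [← hg ⟨(y : G), Subgroup.mem_zpowers _⟩, hφy]
    refine (mem_fusClass hM he).mpr ⟨g, hgy, ?_⟩
    have hlow : lowPair hM he y = ⟨_, f⟩ :=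
      below_ext hM he (lowPair_below hM he y) hf rfl
    rw [hlow]
    refine below_ext hM he hgf (lowPair_below hM he z) ?_
    show cjS g (Subgroup.zpowers (y : G)) = Subgroup.zpowers (z : G)
    rw [cjS_zpowers, hgy]

/-- Images under a map of the system are fused. -/
theorem mem_fusClass_of_hom (hM : IsPModular p M) {B : Set (IrrCharacter G)}
    (hmax : IsMaximalBrauerPair p M B P e) {R : Subgroup G} {φ : R →* G}
    (hφ : φ ∈ (blockFusion hM hmax.1.1).Hom R) {y z : P} (hy : (y : G) ∈ R)
    (hφy : φ ⟨(y : G), hy⟩ = (z : G)) :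
    z ∈ fusClass hM hmax.1.1 y := by
  set F := blockFusion hM hmax.1.1
  have hle : Subgroup.zpowers (y : G) ≤ R := Subgroup.zpowers_le.mpr hy
  refine (mem_fusClass_iff_hom hM hmax).mpr ⟨φ.comp ((conjHom (Subgroup.zpowers (y : G)) 1).codRestrict R
    fun x => by simpa [conjHom] using hle x.2), F.comp_mem (F.conj_mem (hle.trans (F.le_of_mem hφ).1) (one_mem P)) hφ _, ?_⟩
  rw [← hφy, MonoidHom.comp_apply]
  exact congrArg φ (Subtype.ext (by simp [conjHom]))

/-- Fused elements have the same order. -/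
theorem orderOf_of_fused (hM : IsPModular p M) (he : IsBrauerPair p M P e) {y z : P}
    (hz : z ∈ fusClass hM he y) : orderOf (z : G) = orderOf (y : G) := by
  obtain ⟨g, hg, -⟩ := (mem_fusClass hM he).mp hz
  rw [← hg, orderOf_conj_eq]

/-- Powers of fused elements are fused. -/
theorem fused_pow (hM : IsPModular p M) {B : Set (IrrCharacter G)}
    (hmax : IsMaximalBrauerPair p M B P e) {y z : P} (hz : z ∈ fusClass hM hmax.1.1 y) (n : ℕ) :
    z ^ n ∈ fusClass hM hmax.1.1 (y ^ n) := by
  obtain ⟨φ, hφ, hφy⟩ := (mem_fusClass_iff_hom hM hmax).mp hz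
  refine mem_fusClass_of_hom hM hmax hφ (y := y ^ n)
    (by rw [SubmonoidClass.coe_pow]; exact pow_mem (Subgroup.mem_zpowers _) n) ?_
  rw [SubmonoidClass.coe_pow z, ← hφy, ← map_pow]
  exact congrArg φ (Subtype.ext (by simp))

/-- Conjugates in `P` are fused. -/
theorem fused_conj (hM : IsPModular p M) {B : Set (IrrCharacter G)}
    (hmax : IsMaximalBrauerPair p M B P e) (u y : P) : u * y * u⁻¹ ∈ fusClass hM hmax.1.1 y :=
  (mem_fusClass_iff_hom hM hmax).mpr ⟨conjHom _ (u : G),
    (blockFusion hM hmax.1.1).conj_mem (Subgroup.zpowers_le.mpr y.2) u.2, rfl⟩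

/-- A subsection at an element with largest centralizer in its class has the centralizer as defect
group. -/
theorem defect_low [Fintype (IrrCharacter G)] (hM : IsPModular p M) {B : Set (IrrCharacter G)}
    (hmax : IsMaximalBrauerPair p M B P e) (y : P)
    (hbig : ∀ z ∈ fusClass hM hmax.1.1 y, Nat.card (P ⊓ Subgroup.centralizer ({(z : G)} : Set G) : Subgroup G) ≤
      Nat.card (P ⊓ Subgroup.centralizer ({(y : G)} : Set G) : Subgroup G)) :
    IsDefectGroup p M (lowPair hM hmax.1.1 y).2
      ((P ⊓ CQ (lowPair hM hmax.1.1 y).1).subgroupOf (CQ (lowPair hM hmax.1.1 y).1)) := by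
  have hF := isBlockFusionSystemOn_blockFusion hM hmax
  refine (isFullyCentralized_iff hM hF (lowPair_below hM hmax.1.1 y)).mp
    ⟨Subgroup.zpowers_le.mpr y.2, ?_⟩
  rintro Q ⟨φ, hφ, rfl⟩
  set z : P := ⟨φ ⟨(y : G), Subgroup.mem_zpowers _⟩, ((blockFusion hM hmax.1.1).le_of_mem hφ).2 _⟩
  have hz : z ∈ fusClass hM hmax.1.1 y := (mem_fusClass_iff_hom hM hmax).mpr ⟨φ, hφ, rfl⟩
  have hr : φ.range = Subgroup.zpowers (z : G) := by
    ext w
    constructor
    · rintro ⟨⟨v, hv⟩, rfl⟩
      obtain ⟨i, rfl⟩ := Subgroup.mem_zpowers_iff.mp hv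
      exact Subgroup.mem_zpowers_iff.mpr ⟨i, by rw [← map_zpow]; rfl⟩
    · intro hw
      obtain ⟨i, rfl⟩ := Subgroup.mem_zpowers_iff.mp hw
      exact zpow_mem (show (z : G) ∈ φ.range from ⟨⟨(y : G), Subgroup.mem_zpowers _⟩, rfl⟩) i
  have hcent : ∀ v : G, centralizerIn P (Subgroup.zpowers v) = P ⊓ Subgroup.centralizer ({v} : Set G) := by
    intro v
    rw [centralizerIn, Subgroup.zpowers_eq_closure, Subgroup.centralizer_closure]
  show Nat.card (centralizerIn P φ.range) ≤ Nat.card (centralizerIn P (Subgroup.zpowers (y : G)))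
  rw [hr, hcent, hcent]
  exact hbig z hz

/-! ### The count -/

variable [Fintype (IrrCharacter G)]

open scoped Classical in
/-- The members along the elements of `P`. -/
theorem card_eq_rank_add (hM : IsPModular p M) {B : Set (IrrCharacter G)}
    (hmax : IsMaximalBrauerPair p M B P e) [Fintype P] :
    (Nat.card B : ℂ) = (blockRank p B : ℂ) + ∑ y ∈ Finset.univ.erase (1 : P),
      (blockRank p (lowPair hM hmax.1.1 y).2 : ℂ) / ((fusClass hM hmax.1.1 y).card : ℂ) := by
  have := Fintype.ofFinite (ConjClasses G)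
  set he := hmax.1.1
  have hG : (Nat.card G : ℂ) ≠ 0 := Nat.cast_ne_zero.mpr Nat.card_pos.ne'
  have h1 : (Nat.card B : ℂ) = ∑ χ ∈ Finset.univ.filter (fun χ : IrrCharacter G => χ ∈ B),
      ∑ y : P, secSum p χ χ (y : G) (lowPair hM he y) /
        ((Nat.card (CQ (Subgroup.zpowers (y : G))) : ℂ) * ((fusClass hM he y).card : ℂ)) := by
    rw [Finset.sum_congr rfl fun χ hχ => (sum_secSum_fused hM hmax
      (Finset.mem_filter.mp hχ).2 (Finset.mem_filter.mp hχ).2).trans (if_pos rfl), Finset.sum_const,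
      nsmul_one, Nat.card_eq_fintype_card, Fintype.card_subtype]
  rw [h1, Finset.sum_comm, ← Finset.add_sum_erase _ _ (Finset.mem_univ (1 : P))]
  congr 1
  · have hc1 : fusClass hM he 1 = {1} := by
      ext z
      simp only [Finset.mem_singleton]
      refine ⟨fun hz => Subtype.ext ?_, fun hz => hz ▸ self_mem_fusClass hM he 1⟩
      have h2 := orderOf_of_fused hM he hz
      rw [OneMemClass.coe_one, orderOf_one, orderOf_eq_one_iff] at h2
      exact h2
    have hCG : Nat.card (CQ (Subgroup.zpowers ((1 : P) : G))) = Nat.card G := by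
      rw [show CQ (Subgroup.zpowers ((1 : P) : G)) = ⊤ from eq_top_iff.mpr fun t _ =>
        mem_cq_zpowers_iff.mpr (Commute.one_right t), Subgroup.card_top]
    rw [blockRank_eq_sum_regInner hM (IsBlockUnion.of_isPBlock hmax.1.2.1), hc1, hCG,
      Finset.card_singleton, Nat.cast_one, mul_one]
    refine Finset.sum_congr rfl fun χ hχ => ?_
    rw [OneMemClass.coe_one, secSum_one_eq hM hmax (Finset.mem_filter.mp hχ).2
      (Finset.mem_filter.mp hχ).2, mul_div_cancel_left₀ _ hG]
  · refine Finset.sum_congr rfl fun y _ => ?_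
    rw [← Finset.sum_div, sum_secSum_eq_rank hM (exists_pElement_orderOf he y hM.1)
      (lowPair_fst hM he y) (lowPair_pairOf hM hmax y)]
    exact mul_div_mul_left _ _ (Nat.cast_ne_zero.mpr Nat.card_pos.ne')

/-- Fused elements have subsections of the same rank. -/
theorem rank_low_of_fused (hM : IsPModular p M) {B : Set (IrrCharacter G)}
    (hmax : IsMaximalBrauerPair p M B P e) {y z : P} (hz : z ∈ fusClass hM hmax.1.1 y) :
    blockRank p (lowPair hM hmax.1.1 z).2 = blockRank p (lowPair hM hmax.1.1 y).2 := by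
  classical
  set he := hmax.1.1
  obtain ⟨g, hg, hgl⟩ := (mem_fusClass hM he).mp hz
  have hy := sum_secSum_eq_rank hM (exists_pElement_orderOf he y hM.1) (lowPair_fst hM he y)
    (lowPair_pairOf hM hmax y)
  have hz' := sum_secSum_eq_rank hM (exists_pElement_orderOf he z hM.1) (lowPair_fst hM he z)
    (lowPair_pairOf hM hmax z)
  have hsum : ∀ χ : IrrCharacter G, secSum p χ χ (z : G) (lowPair hM he z) =
      secSum p χ χ (y : G) (lowPair hM he y) := fun χ => by rw [← hgl, ← hg, secSum_cjP]
  simp only [hsum, hy] at hz'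
  have hc : Nat.card (CQ (lowPair hM he z).1) = Nat.card (CQ (lowPair hM he y).1) := by
    rw [lowPair_fst, lowPair_fst,
      show CQ (Subgroup.zpowers (z : G)) = CQ (cjS g (Subgroup.zpowers (y : G))) by
        rw [cjS_zpowers, hg]]
    exact Nat.card_congr
      { toFun := fun t => ⟨g⁻¹ * t * g, inv_conj_mem_cq_iff.mp t.2⟩
        invFun := fun t => ⟨g * t * g⁻¹, inv_conj_mem_cq_iff.mpr (by simpa [mul_assoc] using t.2)⟩
        left_inv := fun t => Subtype.ext (by simp [mul_assoc])
        right_inv := fun t => Subtype.ext (by simp [mul_assoc]) }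
  rw [hc] at hz'
  exact_mod_cast (mul_left_cancel₀ (Nat.cast_ne_zero.mpr Nat.card_pos.ne') hz').symm

open scoped Classical in
/-- The sum over a set of elements closed under fusion, with representatives `T`. -/
theorem sum_closed_eq (hM : IsPModular p M) {B : Set (IrrCharacter G)}
    (hmax : IsMaximalBrauerPair p M B P e) [Fintype P] (T : Finset P)
    (hT : ∀ y ∈ T, ∀ z ∈ T, z ∈ fusClass hM hmax.1.1 y → z = y) :
    ∑ y ∈ T.biUnion (fun y => fusClass hM hmax.1.1 y),
      (blockRank p (lowPair hM hmax.1.1 y).2 : ℂ) / ((fusClass hM hmax.1.1 y).card : ℂ) =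
      ∑ y ∈ T, (blockRank p (lowPair hM hmax.1.1 y).2 : ℂ) := by
  set he := hmax.1.1
  rw [Finset.sum_biUnion]
  · refine Finset.sum_congr rfl fun y _ => ?_
    rw [Finset.sum_congr rfl (g := fun _ => (blockRank p (lowPair hM he y).2 : ℂ) / ((fusClass hM he y).card : ℂ))
      fun z hz => by rw [rank_low_of_fused hM hmax hz, fusClass_eq_of_mem hM he hz], Finset.sum_const,
      nsmul_eq_mul, mul_div_assoc']
    exact mul_div_cancel_left₀ _ (Nat.cast_ne_zero.mpr
      (Finset.card_pos.mpr ⟨y, self_mem_fusClass hM he y⟩).ne')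
  · intro y hy z hz hne
    rw [Function.onFun, Finset.disjoint_left]
    intro w hwy hwz
    refine hne (hT y hy z hz ?_).symm
    rw [← fusClass_eq_of_mem hM he hwy, fusClass_eq_of_mem hM he hwz]
    exact self_mem_fusClass hM he z

open scoped Classical in
/-- Pairwise unfused elements bound the members from below. -/
theorem rank_add_sum_le (hM : IsPModular p M) {B : Set (IrrCharacter G)}
    (hmax : IsMaximalBrauerPair p M B P e) (T : Finset P) (h1 : (1 : P) ∉ T)
    (hT : ∀ y ∈ T, ∀ z ∈ T, z ∈ fusClass hM hmax.1.1 y → z = y) :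
    blockRank p B + ∑ y ∈ T, blockRank p (lowPair hM hmax.1.1 y).2 ≤ Nat.card B := by
  letI := Fintype.ofFinite P
  set he := hmax.1.1
  set S := T.biUnion (fun y => fusClass hM he y)
  have hsub : S ⊆ Finset.univ.erase (1 : P) := fun z hz => by
    obtain ⟨y, hy, hzy⟩ := Finset.mem_biUnion.mp hz
    refine Finset.mem_erase.mpr ⟨fun e1 => h1 ?_, Finset.mem_univ _⟩
    have h2 := orderOf_of_fused hM he hzy
    rw [e1, OneMemClass.coe_one, orderOf_one] at h2
    rwa [show y = 1 from Subtype.ext (orderOf_eq_one_iff.mp h2.symm)] at hy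
  have h := card_eq_rank_add hM hmax
  rw [← Finset.sum_sdiff hsub, sum_closed_eq hM hmax T hT] at h
  have hR : (Nat.card B : ℝ) = (blockRank p B : ℝ) +
      ((∑ y ∈ Finset.univ.erase (1 : P) \ S,
        (blockRank p (lowPair hM he y).2 : ℝ) / ((fusClass hM he y).card : ℝ)) +
      ∑ y ∈ T, (blockRank p (lowPair hM he y).2 : ℝ)) := by
    apply Complex.ofReal_injective
    push_cast
    exact h
  have hnn : 0 ≤ ∑ y ∈ Finset.univ.erase (1 : P) \ S,
      (blockRank p (lowPair hM he y).2 : ℝ) / ((fusClass hM he y).card : ℝ) :=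
    Finset.sum_nonneg fun y _ => by positivity
  have : ((blockRank p B + ∑ y ∈ T, blockRank p (lowPair hM he y).2 : ℕ) : ℝ) ≤ (Nat.card B : ℝ) := by
    push_cast
    linarith
  exact_mod_cast this

open scoped Classical in
/-- Representatives of all classes give the members exactly. -/
theorem card_eq_rank_add_sum (hM : IsPModular p M) {B : Set (IrrCharacter G)}
    (hmax : IsMaximalBrauerPair p M B P e) (T : Finset P) (h1 : (1 : P) ∉ T)
    (hT : ∀ y ∈ T, ∀ z ∈ T, z ∈ fusClass hM hmax.1.1 y → z = y)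
    (hcov : ∀ z : P, z ≠ 1 → ∃ y ∈ T, z ∈ fusClass hM hmax.1.1 y) :
    Nat.card B = blockRank p B + ∑ y ∈ T, blockRank p (lowPair hM hmax.1.1 y).2 := by
  letI := Fintype.ofFinite P
  set he := hmax.1.1
  have hS : T.biUnion (fun y => fusClass hM he y) = Finset.univ.erase (1 : P) := by
    refine le_antisymm (fun z hz => ?_) fun z hz => Finset.mem_biUnion.mpr
      (hcov z (Finset.ne_of_mem_erase hz))
    obtain ⟨y, hy, hzy⟩ := Finset.mem_biUnion.mp hz
    refine Finset.mem_erase.mpr ⟨fun e1 => h1 ?_, Finset.mem_univ _⟩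
    have h2 := orderOf_of_fused hM he hzy
    rw [e1, OneMemClass.coe_one, orderOf_one] at h2
    rwa [show y = 1 from Subtype.ext (orderOf_eq_one_iff.mp h2.symm)] at hy
  have h := card_eq_rank_add hM hmax
  rw [← hS, sum_closed_eq hM hmax T hT] at h
  exact_mod_cast h

end CfsgLib.Block.IndexFour
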